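import Cfsg.Agent.S0997
import Cfsg.Agent.S0992
import Cfsg.Agent.H9.SLBasic

/-! Simple groups of order `p r q^b`. -/

set_option autoImplicit false

namespace Cfsg.Agent.H34

open Cfsg

theorem eq_two_of_four_dvd {q r b : ℕ} (hq : q.Prime) (hr : r.Prime) (h : 4 ∣ q ^ b * r) :
    q = 2 := by
  by_contra h2
  have hc : Nat.Coprime 4 (q ^ b) := by
    have : Nat.Coprime 2 q := (Nat.coprime_primes Nat.prime_two hq).2 (Ne.symm h2)
    simpa using Nat.Coprime.pow 2 b this
  have h4 := hc.dvd_of_dvd_mul_left h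
  rcases (Nat.dvd_prime hr).1 h4 with e | e
  · omega
  · rw [← e] at hr; norm_num at hr

theorem odd_dvd_of_dvd_two_pow_mul {n b r : ℕ} (hn : Odd n) (h : n ∣ 2 ^ b * r) : n ∣ r :=
  (Nat.Coprime.pow_right b (Nat.coprime_two_right.2 hn)).dvd_of_dvd_mul_left h

theorem card_of_prq_aux {G : Type*} [Group G] [Finite G] [IsSimpleGroup G] (hG : ¬ IsCyclic G)
    {p q r b : ℕ} (hp : p.Prime) (hq : q.Prime) (hr : r.Prime) (hpq : p ≠ q) (hqr : q ≠ r)
    (hrp : r < p) (hc : Nat.card G = p * r * q ^ b) : Nat.card G = 60 ∨ Nat.card G = 168 := by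
  have hr2 := hr.two_le
  by_cases hlt : r < p - 1
  swap
  · have hp3 : p = 3 ∧ r = 2 := by
      have e : p = r + 1 := by omega
      rcases hr.eq_two_or_odd' with h | h
      · omega
      · have := hp.even_iff.1 (e ▸ h.add_one); omega
    obtain ⟨rfl, rfl⟩ := hp3
    exfalso
    have hq2 : ¬ 2 ∣ q ^ b := fun h =>
      hqr ((Nat.prime_dvd_prime_iff_eq Nat.prime_two hq).1 (Nat.prime_two.dvd_of_dvd_pow h)).symm
    have := Fact.mk Nat.prime_two
    obtain ⟨T⟩ : Nonempty (Sylow 2 G) := inferInstance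
    have h4 := (S0992.result (fun h => hG (by
      let _ : CommGroup G := { ‹Group G› with mul_comm := h.is_comm.comm }
      exact IsSimpleGroup.isCyclic))
      (by rw [hc]; exact ⟨3 * q ^ b, by ring⟩) (by rw [hc]; omega) T).1.card_four
    have := h4 ▸ (T : Subgroup G).card_subgroup_dvd_card
    rw [hc] at this
    omega
  have hodd : Odd p := hp.odd_of_ne_two (by omega)
  rcases S0997.result hG p q b r hp hq hpq (by rw [hc]; ring) hlt with
    ⟨m, F, _, _, hF, hm, ⟨e⟩⟩ | ⟨m, F, _, _, hF, hm, h3, ⟨e⟩⟩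
  · have h := H9.gcd_mul_card_psl_two (F := F)
    rw [← Nat.card_congr e.toEquiv, hF, hc] at h
    obtain ⟨k, rfl⟩ := hodd
    have hg : Nat.gcd 2 (2 * k + 1 - 1) = 2 := by simp
    have hs : (2 * k + 1) ^ 2 - 1 = 2 * (2 * (k * (k + 1))) := by
      rw [Nat.sub_eq_iff_eq_add (Nat.one_le_pow _ _ (by omega))]; ring
    rw [hg, hs] at h
    have h1 : q ^ b * r = 2 * (k * (k + 1)) := by
      apply Nat.eq_of_mul_eq_mul_left (show 0 < 2 * (2 * k + 1) by omega)
      linarith
    have hq2 : q = 2 := eq_two_of_four_dvd hq hr (b := b) (by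
      rw [h1]; obtain ⟨j, hj⟩ := Nat.even_mul_succ_self k; omega)
    subst hq2
    have hr3 : r = 3 := by
      have h3 : 3 ∣ k * (k + 1) := by
        have : ¬ 3 ∣ 2 * k + 1 := fun h => by
          have := (Nat.prime_dvd_prime_iff_eq Nat.prime_three hp).1 h; omega
        have hk : k % 3 = 0 ∨ k % 3 = 2 := by omega
        rcases hk with hk | hk
        · exact Dvd.dvd.mul_right (Nat.dvd_of_mod_eq_zero hk) _
        · exact Dvd.dvd.mul_left (by omega) _
      have := odd_dvd_of_dvd_two_pow_mul (n := 3) (b := b) (r := r) (by decide)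
        (h1 ▸ Dvd.dvd.mul_left h3 2)
      exact ((Nat.prime_dvd_prime_iff_eq Nat.prime_three hr).1 this).symm
    subst hr3
    have hcard : Nat.card G = (2 * k + 1) * (2 * (k * (k + 1))) := by rw [hc, ← h1]; ring
    have hm2 : 2 ≤ m := by
      by_contra! hm2
      interval_cases m <;> omega
    obtain ⟨j, rfl⟩ := Nat.exists_eq_add_of_le' hm2
    have hj : 0 < 2 ^ j := by positivity
    rcases hm with hm | hm
    · have hk : k = 2 * 2 ^ j := by rw [pow_add] at hm; omega
      have := Nat.le_of_dvd (by norm_num) (odd_dvd_of_dvd_two_pow_mul (n := k + 1) (b := b)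
        (r := 3) ⟨2 ^ j, by omega⟩ (h1 ▸ Dvd.intro_left (2 * k) (by ring)))
      obtain rfl : k = 2 := by omega
      exact Or.inl hcard
    · have hk : k + 1 = 2 * 2 ^ j := by rw [pow_add] at hm; omega
      have := Nat.le_of_dvd (by norm_num) (odd_dvd_of_dvd_two_pow_mul (n := k) (b := b)
        (r := 3) ⟨2 ^ j - 1, by omega⟩ (h1 ▸ Dvd.intro (2 * (k + 1)) (by ring)))
      obtain rfl : k = 3 := by omega
      exact Or.inr hcard
  · have h := H9.gcd_mul_card_psl_two (F := F)
    rw [← Nat.card_congr e.toEquiv, hF, hc] at h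
    have hm2 : 2 ≤ m := by
      by_contra! hm2
      interval_cases m <;> omega
    obtain ⟨j, rfl⟩ := Nat.exists_eq_add_of_le' hm2
    have hj : 0 < 2 ^ j := by positivity
    obtain ⟨n, hn⟩ : ∃ n, 2 ^ j = n + 1 := ⟨2 ^ j - 1, by omega⟩
    have h4 : 2 ^ (j + 2) = 4 * n + 4 := by rw [pow_add, hn]; ring
    rw [h4] at h hm
    have hg : Nat.gcd 2 (4 * n + 4 - 1) = 1 :=
      Nat.coprime_two_left.2 ⟨2 * n + 1, by omega⟩
    have hs : (4 * n + 4) ^ 2 - 1 = (4 * n + 5) * (4 * n + 3) := by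
      rw [Nat.sub_eq_iff_eq_add (Nat.one_le_pow _ _ (by omega))]; ring
    rw [hg, hs, hm] at h
    have h1 : q ^ b * r = (4 * n + 4) * (4 * n + 3) := by
      apply Nat.eq_of_mul_eq_mul_left (show 0 < 4 * n + 5 by omega)
      linarith
    have hq2 : q = 2 := eq_two_of_four_dvd hq hr (b := b) (by rw [h1]; exact ⟨(n + 1) * (4 * n + 3), by ring⟩)
    subst hq2
    have h5 := odd_dvd_of_dvd_two_pow_mul (n := 4 * n + 3) (b := b) (r := r) ⟨2 * n + 1, by omega⟩
      (h1 ▸ Dvd.intro_left _ rfl)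
    have h6 : 4 * n + 3 = r := ((Nat.dvd_prime hr).1 h5).resolve_left (by omega)
    have h7 : ¬ 3 ∣ p := fun h => by
      have := (Nat.prime_dvd_prime_iff_eq Nat.prime_three hp).1 h; omega
    have h8 : ¬ 3 ∣ 4 * n + 4 := by
      rw [← h4]; intro h
      have := Nat.le_of_dvd two_pos (Nat.prime_three.dvd_of_dvd_pow h); omega
    have h9 : 3 = r := (Nat.prime_dvd_prime_iff_eq Nat.prime_three hr).1 (by
      have : n % 3 = 0 ∨ n % 3 = 1 ∨ n % 3 = 2 := by omega
      rcases this with e | e | e <;> omega)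
    obtain rfl : n = 0 := by omega
    left
    rw [hc, mul_assoc, mul_comm r, h1, hm]
    norm_num

/-- A non-cyclic simple group of order `p r q^b` has order 60 or 168. -/
theorem card_of_prq {G : Type*} [Group G] [Finite G] [IsSimpleGroup G] (hG : ¬ IsCyclic G)
    {p q r b : ℕ} (hp : p.Prime) (hq : q.Prime) (hr : r.Prime) (hpq : p ≠ q) (hpr : p ≠ r)
    (hqr : q ≠ r) (hc : Nat.card G = p * r * q ^ b) : Nat.card G = 60 ∨ Nat.card G = 168 := by
  rcases lt_or_gt_of_ne hpr with h | h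
  · exact card_of_prq_aux hG hr hq hp hqr.symm hpq.symm h (by rw [hc, mul_comm p])
  · exact card_of_prq_aux hG hp hq hr hpq hqr h hc

end Cfsg.Agent.H34
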