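import Cfsg.Agent.H34.BlauTens

/-! A small Jordan block in the alternating square of a uniserial module. -/

set_option autoImplicit false

namespace Cfsg.Agent.H34

open Finset Module

variable {k M : Type*} [Field k] [AddCommGroup M] [Module k M] {d : ℕ}
  {β : Basis (Fin d × Fin d) k M}

theorem repr_sum_blB (N : ℕ) (c : ℕ × ℕ → k) (t : Fin d × Fin d) (ht : (t.1 : ℕ) + t.2 = N) :
    β.repr (∑ a ∈ antidiagonal N, c a • blB β a.1 a.2) t = c (t.1, t.2) := by
  rw [map_sum, Finsupp.finsetSum_apply, sum_eq_single_of_mem ((t.1 : ℕ), (t.2 : ℕ))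
    (mem_antidiagonal.mpr ht) fun a _ ha => ?_]
  · simp [blB_coe]
  · unfold blB
    split_ifs with h
    · rw [map_smul, β.repr_self, Finsupp.smul_apply, Finsupp.single_eq_of_ne, smul_zero]
      rintro rfl
      exact ha rfl
    · simp

theorem sum_blB_mem (N : ℕ) (c : ℕ × ℕ → k) :
    ∑ a ∈ antidiagonal N, c a • blB β a.1 a.2 ∈ blSp β {n | N ≤ n} :=
  Submodule.sum_mem _ fun _ ha => Submodule.smul_mem _ _
    (blB_mem β (mem_antidiagonal.mp ha).ge)

theorem repr_eq_zero {N : ℕ} {m : M} (hm : m ∈ blSp β {n | N ≤ n}) {t : Fin d × Fin d}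
    (ht : (t.1 : ℕ) + t.2 < N) : β.repr m t = 0 :=
  by_contra fun h => ht.not_ge ((mem_blSp β).mp hm t h)

namespace BlT

variable {Y : End k M} {e : ℕ} (h : BlT β Y e)
include h

theorem sum_step (N : ℕ) (c : ℕ × ℕ → k) :
    Y (∑ a ∈ antidiagonal N, c a • blB β a.1 a.2) - ∑ a ∈ antidiagonal (N + 1),
      ((if a.1 = 0 then 0 else c (a.1 - 1, a.2)) + if a.2 = 0 then 0 else c (a.1, a.2 - 1)) •
        blB β a.1 a.2 ∈ blSp β {n | N + 2 ≤ n} := by
  simp only [add_smul, sum_add_distrib]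
  rw [Nat.sum_antidiagonal_succ, Nat.sum_antidiagonal_succ' (n := N), map_sum]
  simp only [if_true, zero_smul, zero_add, Nat.add_one_ne_zero, if_false, Nat.add_sub_cancel,
    Prod.mk.eta, ← sub_sub, ← sum_sub_distrib, map_smul, ← smul_sub]
  exact Submodule.sum_mem _ fun a ha => Submodule.smul_mem _ _
    (mem_antidiagonal.mp ha ▸ h.stepB a.1 a.2)

theorem top_mem (n : ℕ) : (Y ^ n) (blB β 0 1 - blB β 1 0) - ∑ a ∈ antidiagonal (n + 1),
    ((n.choose a.1 : k) - n.choose a.2) • blB β a.1 a.2 ∈ blSp β {m | n + 2 ≤ m} := by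
  induction n with
  | zero => simp [Nat.sum_antidiagonal_succ, ← sub_eq_add_neg]
  | succ n ih =>
    have h1 := add_mem (h.pow_mem_ge 1 ih)
      (h.sum_step (n + 1) fun a => (n.choose a.1 : k) - n.choose a.2)
    rw [pow_one, map_sub, sub_add_sub_cancel, ← End.mul_apply, ← pow_succ'] at h1
    convert h1 using 3 with a ha
    obtain ⟨i, j⟩ := a
    rw [HasAntidiagonal.mem_antidiagonal] at ha
    rcases i with _ | i
    · obtain rfl : j = n + 2 := by omega
      simp
    rcases j with _ | j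
    · obtain rfl : i = n + 1 := by omega
      simp
    simp [Nat.choose_succ_succ]
    ring

theorem small_block (hd : 5 ≤ d) (hk : ∀ a : ℕ, a ≠ 0 → a ≤ d + 1 → (a : k) ≠ 0) {s : End k M}
    (hs : ∀ t, s (β t) = β t.swap) (hY : Commute Y s) :
    (∀ v, s v = -v → (Y ^ (2 * d - 2)) v = 0) ∧ ∃ z, Y z = 0 ∧ (∃ z', s z' = -z' ∧ Y z' = z) ∧
      ∀ v, s v = -v → (Y ^ (d - 1)) v ≠ z := by
  have h2 : (2 : k) ≠ 0 := by exact_mod_cast hk 2 (by omega) (by omega)
  have hr : ∀ m t, β.repr (s m) t = β.repr m t.swap := fun m t => by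
    have : (β.coord t) ∘ₗ s = β.coord t.swap := β.ext fun t' => by
      simp only [LinearMap.comp_apply, hs, Basis.coord_apply, Basis.repr_self,
        Finsupp.single_apply, Prod.swap_eq_iff_eq_swap]
    exact LinearMap.congr_fun this m
  have hss : ∀ m, s (s m) = m := fun m => β.repr.injective (Finsupp.ext fun t => by
    rw [hr, hr, Prod.swap_swap])
  have hsF : ∀ {T m}, m ∈ blSp β T → s m ∈ blSp β T := fun hm => (mem_blSp β).mpr fun t ht => by
    rw [add_comm]; exact (mem_blSp β).mp hm t.swap (by rwa [hr] at ht)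
  have hYs : ∀ m, Y (s m) = s (Y m) := fun m => LinearMap.congr_fun hY.eq m
  have ha : ∀ {v}, s v = -v → ∀ t, β.repr v t.swap = -β.repr v t := fun hv t => by
    rw [← hr, hv]; simp
  have hd0 : ∀ {v}, s v = -v → ∀ i, β.repr v (i, i) = 0 := fun hv i =>
    (mul_eq_zero.mp (by
      have := ha hv (i, i)
      rw [Prod.swap_prod_mk] at this
      linear_combination this)).resolve_left h2
  have hsurj : ∀ {N z}, d ≤ N + 1 → s z = -z → z ∈ blSp β {n | N + 1 ≤ n} →
      ∃ z' ∈ blSp β {n | N ≤ n}, s z' = -z' ∧ Y z' = z := fun hN hz hz' => by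
    obtain ⟨w, hw, rfl⟩ := h.surj hN hz'
    refine ⟨(2 : k)⁻¹ • (w - s w), Submodule.smul_mem _ _ (sub_mem hw (hsF hw)), ?_, ?_⟩
    · rw [map_smul, map_sub, hss, ← smul_neg, neg_sub]
    · rw [map_smul, map_sub, hYs, hz, sub_neg_eq_add, ← two_smul k, inv_smul_smul₀ h2]
  refine ⟨fun v hv => blSp_eq_zero β (h.pow_mem_ge (N := 1) _ ((mem_blSp β).mpr fun t ht => ?_))
    fun n (hn : _ ≤ n) => by omega, ?_⟩
  · by_contra h1
    obtain ⟨i, j⟩ := t
    obtain rfl : i = j := Fin.ext (by simp only [Set.mem_ofPred_eq] at h1; omega)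
    exact ht (hd0 hv i)
  obtain ⟨N, hN, hN1, hN2⟩ : ∃ N, Odd N ∧ d ≤ N ∧ N ≤ d + 1 :=
    (Nat.even_or_odd d).elim (fun h => ⟨d + 1, h.add_one, by omega, le_rfl⟩)
      fun h => ⟨d, h, le_rfl, by omega⟩
  set z₀ := ∑ a ∈ antidiagonal N, (-1 : k) ^ a.1 • blB β a.1 a.2 with hz₀
  have hB : ∀ i j, s (blB β i j) = blB β j i := fun i j => by
    by_cases h1 : i < d ∧ j < d
    · exact (congrArg s (blB_coe β (⟨i, h1.1⟩, ⟨j, h1.2⟩))).trans
        ((hs _).trans (blB_coe β (⟨j, h1.2⟩, ⟨i, h1.1⟩)).symm)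
    · rw [blB_zero β (by omega), blB_zero β (by omega), map_zero]
  have a1 : s z₀ = -z₀ := by
    rw [hz₀, map_sum, ← sum_neg_distrib, ← Nat.sum_antidiagonal_swap]
    refine sum_congr rfl fun a ha => ?_
    rw [map_smul, hB, ← neg_smul]
    congr 1
    have := hN.neg_one_pow (α := k)
    rw [← mem_antidiagonal.mp ha, pow_add] at this
    have h3 : ((-1 : k) ^ a.1) ^ 2 = 1 := by rw [← pow_mul, mul_comm, pow_mul]; simp
    simp only [Prod.fst_swap]
    linear_combination (-1) ^ a.1 * this - (-1) ^ a.2 * h3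
  have a2 : Y z₀ ∈ blSp β {n | N + 1 + 1 ≤ n} := by
    have := h.sum_step N fun a => (-1 : k) ^ a.1
    rwa [sum_eq_zero (s := antidiagonal (N + 1)), sub_zero] at this
    rintro ⟨i, j⟩ hij
    rw [HasAntidiagonal.mem_antidiagonal] at hij
    rcases i with _ | i
    · rw [blB_zero β (by omega), smul_zero]
    rcases j with _ | j
    · rw [blB_zero β (by omega), smul_zero]
    simp [pow_succ]
  obtain ⟨z₁, b1, b2, b3⟩ := hsurj (by omega) (by rw [← hYs, a1, map_neg]) a2
  have a3 : z₀ - z₁ ∈ blSp β {n | d - 1 + 1 ≤ n} := sub_mem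
    (blSp_mono β (fun n (hn : _ ≤ n) => le_trans (by omega) hn) (sum_blB_mem N _))
    (blSp_mono β (fun n (hn : _ ≤ n) => le_trans (by omega) hn) b1)
  obtain ⟨z', -, c1, c2⟩ := hsurj (by omega) (by rw [map_sub, a1, b2]; abel) a3
  refine ⟨z₀ - z₁, by rw [map_sub, b3, sub_self], ⟨z', c1, c2⟩, fun v hv hz => ?_⟩
  set u := blB β 0 1 - blB β 1 0 with hu
  have a4 : ∀ c : k, c • (Y ^ (d + 1)) u ∈ blSp β {n | d + 3 ≤ n} → c = 0 := fun c hc => by
    have h1 := repr_eq_zero (sub_mem hc (Submodule.smul_mem _ c (h.top_mem (d + 1))))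
      (t := (⟨3, by omega⟩, ⟨d - 1, by omega⟩)) (by simp only; omega)
    rw [smul_sub, sub_sub_cancel, map_smul, Finsupp.smul_apply,
      repr_sum_blB _ _ _ (by simp only; omega), smul_eq_mul, mul_eq_zero, sub_eq_zero] at h1
    refine h1.resolve_right fun h3 => ?_
    simp only at h3
    rw [show d - 1 = d + 1 - 2 by omega, Nat.choose_symm (by omega)] at h3
    have h4 := congrArg (Nat.cast (R := k)) (Nat.choose_succ_right_eq (d + 1) 2)
    have h5 := congrArg (Nat.cast (R := k)) (Nat.choose_succ_right_eq (d + 1) 1)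
    obtain ⟨l, rfl⟩ := Nat.exists_eq_add_of_le' hd
    rw [show l + 5 + 1 - 2 = l + 4 by omega] at h4
    have h6 := mul_ne_zero (mul_ne_zero (hk (l + 6) (by omega) (by omega))
      (hk (l + 5) (by omega) (by omega))) (hk (l + 1) (by omega) (by omega))
    simp only [Nat.choose_one_right, Nat.add_sub_cancel] at h5
    push_cast at h3 h4 h5 h6
    exact h6 (by linear_combination 6 * h3 - 2 * h4 - (l + 1) * h5)
  have hu1 : u ∈ blSp β {n | 1 ≤ n} := sub_mem (blB_mem β (le_refl 1)) (blB_mem β (le_refl 1))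
  let f : Fin 3 → Fin d := fun i => ⟨i, by omega⟩
  have a5 : v - β.repr v (f 0, f 1) • u - (β.repr v (f 0, f 2) -
      β.repr v (f 0, f 1) * β.repr u (f 0, f 2)) • Y u ∈ blSp β {n | 3 ≤ n} := by
    have e0 : s u = -u := by rw [hu, map_sub, hB, hB, neg_sub]
    have e1 := repr_eq_zero (h.top_mem 0) (t := (f 0, f 1)) (by simp [f])
    have e2 := repr_eq_zero (h.top_mem 1) (t := (f 0, f 2)) (by simp [f])
    have e3 := repr_eq_zero (h.pow_mem_ge 1 hu1) (t := (f 0, f 1)) (by simp [f])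
    rw [map_sub, Finsupp.sub_apply, repr_sum_blB _ _ _ (by simp [f]), sub_eq_zero] at e1 e2
    simp only [pow_zero, pow_one, End.one_apply, ← hu] at e1 e2 e3
    replace e1 : β.repr u (f 0, f 1) = 1 := e1.trans (by simp [f])
    replace e2 : β.repr (Y u) (f 0, f 2) = 1 := e2.trans (by simp [f])
    set w := v - β.repr v (f 0, f 1) • u - (β.repr v (f 0, f 2) -
      β.repr v (f 0, f 1) * β.repr u (f 0, f 2)) • Y u with hw
    have e4 : s w = -w := by
      rw [hw, map_sub, map_sub, map_smul, map_smul, ← hYs, e0, hv, map_neg]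
      simp only [smul_neg]
      abel
    have e5 : β.repr w (f 0, f 1) = 0 := by simp [hw, e1, e3]
    have e6 : β.repr w (f 0, f 2) = 0 := by simp [hw, e2]
    refine (mem_blSp β).mpr fun ⟨i, j⟩ ht => by_contra fun h1 => ht ?_
    simp only [Set.mem_ofPred_eq] at h1
    obtain rfl | ⟨rfl, rfl⟩ | ⟨rfl, rfl⟩ | ⟨rfl, rfl⟩ | ⟨rfl, rfl⟩ : i = j ∨ i = f 0 ∧ j = f 1 ∨
        i = f 0 ∧ j = f 2 ∨ i = f 1 ∧ j = f 0 ∨ i = f 2 ∧ j = f 0 := by
      simp only [f, Fin.ext_iff, Fin.val_zero, Fin.val_one, Fin.val_two]; omega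
    exacts [hd0 e4 i, e5, e6, (ha e4 (f 0, f 1)).trans (by rw [e5, neg_zero]),
      (ha e4 (f 0, f 2)).trans (by rw [e6, neg_zero])]
  have a6 : (Y ^ d) v = 0 := by
    rw [← Nat.sub_add_cancel (show 1 ≤ d by omega), pow_succ', End.mul_apply, hz, map_sub, b3,
      sub_self]
  generalize β.repr v (f 0, f 2) - β.repr v (f 0, f 1) * β.repr u (f 0, f 2) = c₂ at a5
  generalize β.repr v (f 0, f 1) = c₁ at a5
  obtain rfl : c₁ = 0 := a4 _ (by
    have h1 := add_mem (blSp_mono β (T' := {n | d + 3 ≤ n})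
      (fun n (hn : _ ≤ n) => le_trans (by omega) hn) (h.pow_mem_ge (d + 1) a5))
      (Submodule.smul_mem _ c₂ (blSp_mono β (T' := {n | d + 3 ≤ n})
        (fun n (hn : _ ≤ n) => le_trans (by omega) hn) (h.pow_mem_ge (d + 1 + 1) hu1)))
    rwa [map_sub, map_sub, map_smul, map_smul, pow_succ Y (d + 1), End.mul_apply,
      sub_add_cancel, pow_succ', End.mul_apply, a6, map_zero, zero_sub, neg_mem_iff,
      ← pow_succ'] at h1)
  obtain rfl : c₂ = 0 := a4 _ (by
    have h1 := h.pow_mem_ge d a5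
    rwa [zero_smul, sub_zero, map_sub, a6, zero_sub, neg_mem_iff, map_smul, ← End.mul_apply,
      ← pow_succ, add_comm 3] at h1)
  rw [zero_smul, zero_smul, sub_zero, sub_zero] at a5
  have h1 := add_mem (blSp_mono β (T' := {n | N + 1 ≤ n})
    (fun n (hn : _ ≤ n) => le_trans (by omega) hn) (h.pow_mem_ge (d - 1) a5)) b1
  rw [hz, sub_add_cancel] at h1
  have h3 := repr_eq_zero h1 (t := (⟨N - (d - 1), by omega⟩, ⟨d - 1, by omega⟩))
    (by simp only; omega)
  rw [hz₀, repr_sum_blB _ _ _ (by simp only; omega)] at h3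
  simp at h3

end BlT

end Cfsg.Agent.H34
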