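import Cfsg.Agent.H34.BlauRed

/-! Lower bounds for the multiplicity of an exceptional character in the square of a character of
degree `p - e`. -/

set_option autoImplicit false
set_option linter.unusedSectionVars false

namespace Cfsg.Agent.H34

open Finset Matrix Polynomial Subgroup Cfsg Cfsg.Agent.H35

variable {G : Type*} [Group G] [Fintype G] {p : ℕ} [hp : Fact p.Prime] (S : Setup G p)

theorem bl_realize [DecidableEq S.K] (hK : ∀ a b : S.K, a * b = b * a) {ζ ψ : G → ℂ}
    (hζ : IsIrrCharacter G ζ) (hψ : IsIrrCharacter G ψ) :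
    ∃ (O : Type) (_ : CommRing O) (_ : IsDomain O) (_ : IsDiscreteValuationRing O)
      (ι : O →+* ℂ) (ω : O) (n d : ℕ) (A : G →* Matrix (Fin n) (Fin n) O)
      (X : G →* Matrix (Fin d) (Fin d) O) (η : IrrCharacter S.K → S.K →* O)
      (lam : IrrCharacter S.K → S.K →* ℂˣ), Function.Injective ι ∧
      CharP (IsLocalRing.ResidueField O) p ∧ ι ω = ech p 1 ∧ (∀ g, ι (A g).trace = ψ g) ∧
      (∀ g, ι (X g).trace = ζ g) ∧ Hollow (blRep (IsLocalRing.residue O) A) ∧
      Hollow (blRep (IsLocalRing.residue O) X) ∧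
      (∀ g, ∑ j, η j g = if g = 1 then (Nat.card S.K : O) else 0) ∧
      ∀ j, ι.toMonoidHom.comp (η j) = (Units.coeHom ℂ).comp (lam j) := by
  have h0 : NeZero (Nat.card G) := ⟨Nat.card_pos.ne'⟩
  have hz := Complex.isPrimitiveRoot_exp _ h0.out
  obtain ⟨O, _, _, _, ι, n, d, A, R, z, hι, hpu, hA, hA', hR, hz'⟩ :=
    exists_realization hp.out hψ (H5.isCharacter_of_isIrr hζ) (hz.isIntegral Nat.card_pos)
  obtain ⟨X, hX, hX'⟩ := exists_hollow ι hι R (by simpa only [hR] using hζ)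
  have h1 : ∀ u : ℂ, u ^ Nat.card G = 1 → ∃ a : O, ι a = u := fun u hu => by
    obtain ⟨i, -, rfl⟩ := hz.eq_pow_of_pow_eq_one hu
    exact ⟨z ^ i, by rw [map_pow, hz']⟩
  obtain ⟨ω, hω⟩ := h1 (ech p 1) (by
    obtain ⟨c, hc⟩ : p ∣ Nat.card G := S.hx ▸ orderOf_dvd_natCard S.x
    rw [hc, pow_mul, ech_pow_prime, one_pow])
  choose lam hlam using fun j : IrrCharacter S.K => H5.exists_monoidHom_of_comm hK j.2
  choose η hη using fun (j : IrrCharacter S.K) (l : S.K) => h1 (lam j l) (by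
    obtain ⟨c, hc⟩ := S.K.card_subgroup_dvd_card
    rw [← Units.val_pow_eq_pow_val, ← map_pow, hc, pow_mul, pow_card_eq_one', one_pow, map_one,
      Units.val_one])
  refine ⟨O, inferInstance, inferInstance, inferInstance, ι, ω, n, d, A, X, fun j =>
    ⟨⟨η j, hι (by simp [hη])⟩, fun a b => hι (by simp [hη])⟩, lam, hι,
    (CharP.charP_iff_prime_eq_zero hp.out).mpr (by
      rw [← map_natCast (IsLocalRing.residue O), IsLocalRing.residue_eq_zero_iff]; exact hpu),
    hω, hA, fun g => by rw [hX, hR], hA', hX', fun g => hι ?_, fun j => MonoidHom.ext (hη j)⟩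
  have := H5.sum_degree_mul_irr (G := S.K) g
  simp only [hlam, map_one, Units.val_one, one_mul] at this
  simpa [hη, apply_ite ι] using this

theorem bl_bound (hK : ∀ a b : S.K, a * b = b * a) {ζ ψ : G → ℂ} (hζ : IsIrrCharacter G ζ)
    (hψ : IsIrrCharacter G ψ) {θ : S.V → ℂ} (hζV : ∀ g (v : S.V), ζ (g * (v : S.K)) = ζ g * θ v)
    (hψV : ∀ g (v : S.V), ψ (g * (v : S.K)) = ψ g * θ v ^ 2) {d : ℕ} (hd : d + 1 + S.V.index = p)
    (he : S.V.index ∣ d) (he1 : 2 ≤ S.V.index) (hd0 : d ≠ 0) {C D : Finset (ZMod p)}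
    (hC : C.card = d + 1) (hC0 : 0 ∈ C) (hm : ∀ c, blM S ζ c = (0 : ℕ) + if c ∈ C then 1 else 0)
    (hD : ∀ (l : S.K) c, c ∈ D ↔ c * S.κ l ∈ D) (hD0 : 0 ∉ D) (hDc : D.card = S.V.index) {M b m : ℕ}
    (hM : ∀ c ∈ D, blM S (fun g => ζ g ^ 2) c = M) (hb : classInner (fun g => ζ g ^ 2) ψ = b)
    (hp6 : 6 ≤ p) (hI : ∀ R : Subgroup G, R.Normal → ¬ p ∣ Nat.card R →
      R ≤ normalizer ((zpowers S.x : Subgroup G) : Set G)) :
    (4 ≤ d → p + 1 = 2 * (d + 1) → Nat.card (Sylow p G) ≤ p + 1) ∧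
    ((∀ c, blM S ψ c = m + if c ∈ D then 1 else 0) → 2 * S.V.index ≤ d + 1 →
      M + S.V.index ≤ b + (d + 1) ∧ (m = 0 → Nat.card (Sylow p G) ≤ p + 1)) ∧
    ((∀ c, blM S ψ c = m + if c ∈ Dᶜ then 1 else 0) → ∃ lam μ : S.K →* ℂˣ,
      classInner (S.fixK ζ) (fun l => lam l) ≠ 0 ∧ classInner (S.fixK ψ) (fun l => μ l) ≠ 0 ∧
      d + 1 ≤ b + M + S.V.index / 2 ∧ (μ = lam ^ 2 → d + 1 ≤ b + M)) := by
  classical
  obtain ⟨O, _, _, _, ι, ω, n, d', A, X, η, lam, hι, _, hω, hA, hX, hA', hX', hη, hl⟩ :=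
    bl_realize S hK hζ hψ
  obtain rfl : ψ = _ := (funext hA).symm
  obtain rfl : ζ = _ := (funext hX).symm
  clear hA hX
  set r := IsLocalRing.residue O
  have hr : Function.Surjective r := IsLocalRing.residue_surjective
  have hη' : ∀ g, ∑ j, (r.toMonoidHom.comp (η j)) g =
      if g = 1 then (Nat.card S.K : IsLocalRing.ResidueField O) else 0 :=
    fun g => by simpa [apply_ite r] using congrArg r (hη g)
  have hfix : ∀ {n : ℕ} (A : G →* Matrix (Fin n) (Fin n) O) j,
      blE S (blMap ι A) 0 * blK S (blMap ι A) (ι.toMonoidHom.comp (η j)) ≠ 0 →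
      classInner (S.fixK fun g => ι (A g).trace) (fun l => lam j l) ≠ 0 := fun A j h => by
    have h1 := EK_idem S (blMap ι A) (C := {0}) (by simp) (ι.toMonoidHom.comp (η j))
    rw [sum_singleton] at h1
    have h2 := bl_trace_ne_zero h1 h
    rw [hl, trace_EK_zero] at h2
    simpa only [trace_blMap] using h2
  obtain ⟨i, w, φ₀, -, -, a1, a2, a3, a4⟩ := bl_hollow_data S r hι hω X hX' η hη hC (by omega) hm
  have hd' : Fintype.card (Fin d') = d + 1 := by
    have h1 := bl_rank_sumE S (blMap ι X) univ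
    simp only [sum_blE, rank_one, trace_blMap, hm, Nat.cast_zero, zero_add, sum_boole,
      filter_mem_eq_inter, univ_inter, hC, Nat.cast_inj] at h1
    exact h1
  have a5 : (blRep r X S.x - 1) ^ (d + 1) = 0 := LinearMap.ker_eq_top.mp (top_le_iff.mp
    ((LinearMap.ker_eq_top.mpr (ito_sub_one_pow_char (blRep r X) S.hx)).ge.trans
      ((Module.End.ker_pow_le_ker_pow_finrank _ p).trans_eq (by simp [← hd']))))
  obtain ⟨β, b1, b2, b3, s, b4, b5⟩ := bl_tensor_sq S r X hd' (w := w)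
    (fun h => a1 (by rw [h, dotProduct_zero])) (by rw [a5]; rfl)
    (ν := r.toMonoidHom.comp (η i)) a2
  have a6 := bl_res S (blMap ι X) (by simpa only [trace_blMap] using hζV) a3
  have key : ∀ {E : Finset (ZMod p)} {a : ℕ}, (∀ (l : S.K) c, c ∈ E ↔ c * S.κ l ∈ E) →
      E.card = a + 1 → a + 1 < p →
      (∀ c, blM S (fun g => ι (A g).trace) c = m + if c ∈ E then 1 else 0) →
      ∃ j t, (∃ v, ((blRep r A S.x - 1) ^ a) v ≠ 0) ∧ (0 ∈ E → S.V.index ∣ a →
        classInner (S.fixK fun g => ι (A g).trace) (fun l => lam j l) ≠ 0) ∧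
        (∀ v : S.V, η j v = η i v ^ 2) ∧
        ((∑ c ∈ E, blE S (blMap ι (blSq X)) c) *
          blK S (blMap ι (blSq X)) (ι.toMonoidHom.comp (η j))).trace = (t : ℕ) ∧
        t ≤ b + Module.finrank (IsLocalRing.ResidueField O) (LinearMap.range (blY S (blRep r (blSq X)) ^ (p - (a + 1))) ⊓
          blWt ((blRep r (blSq X)).comp S.K.subtype) (r.toMonoidHom.comp (η j)) :
          Submodule (IsLocalRing.ResidueField O) _) := fun {E a} hE h1 h2 h3 => by
    obtain ⟨j, v, φ, c1, c2, c3, c4, c5, c6⟩ := bl_hollow_data S r hι hω A hA' η hη h1 h2 h3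
    have c7 := trace_eq_rank_of_idem (EK_idem S (blMap ι (blSq X)) hE (ι.toMonoidHom.comp (η j)))
    obtain ⟨s, Q, d1, d2, d3, d4⟩ := bl_exists_Q S r hι hω (blSq X) hE (η j) c7
    refine ⟨j, _, ⟨v, fun h => c3 (by rw [h, dotProduct_zero])⟩, fun a b => hfix A j (c6 a b),
      fun v => hι ?_, c7, d4.trans ?_⟩
    · rw [map_pow]
      exact (bl_res S (blMap ι A) (by simpa only [trace_blMap] using hψV) c5 v).trans
        (congrArg (· ^ 2) (a6 v)).symm
    · rw [blY_range]
      exact bl_lattice S r hr ι hι A (blSq X) _ (h1 ▸ blG_map r hι hω E) φ c2 c1 c3 _ c4 Q d1 d2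
        (fun l => by rw [← Matrix.map_mul, d3, bl_map_smul]; rfl)
        (by simpa only [trace_blSq, map_pow] using hb)
  have hwt : ∀ j, (∀ v : S.V, η j v = η i v ^ 2) → ∃ a, r.toMonoidHom.comp (η j) =
      r.toMonoidHom.comp (η i) ^ 2 * blKap _ S ^ a := fun j h => by
    obtain ⟨a, ha⟩ := bl_exists_kap S (μ := r.toMonoidHom.comp (η j) * (Units.coeHom _).comp
      (r.toMonoidHom.comp (η i) ^ 2).toHomUnits⁻¹) fun v hv => by
        have : (r.toMonoidHom.comp (η j)) v = (r.toMonoidHom.comp (η i) ^ 2).toHomUnits v :=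
          (congrArg r (h ⟨v, hv⟩)).trans (by simp)
        rw [MonoidHom.mul_apply, this]
        exact Units.mul_inv _
    refine ⟨a, MonoidHom.ext fun l => ?_⟩
    rw [← ha, MonoidHom.mul_apply, MonoidHom.mul_apply, mul_left_comm]
    exact ((congrArg _ (Units.mul_inv ((r.toMonoidHom.comp (η i) ^ 2).toHomUnits l))).trans
      (mul_one _)).symm
  have horb : ∀ j, (∀ v : S.V, η j v = η i v ^ 2) → ((∑ c ∈ D, blE S (blMap ι (blSq X)) c) *
      blK S (blMap ι (blSq X)) (ι.toMonoidHom.comp (η j))).trace = M := fun j h =>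
    bl_trace_orbit S _ _ (fun g v => by
      simp only [trace_blMap, trace_blSq, map_pow, hζV, mul_pow, ← a6]
      exact congrArg _ ((congrArg ι (h v)).trans (map_pow _ _ _)).symm) hD0 hDc
      (by simpa only [trace_blMap, trace_blSq, map_pow] using hM)
  refine ⟨fun h1 h2 => bl_half S _ (bl_cardK_ne_zero S) hη' _ b2 (by omega) h2 b4 b5 hI,
    fun h1 h2 => ?_, fun h1 => ?_⟩
  · obtain ⟨j, t, ⟨v, c1⟩, -, c2, c3, c4⟩ := key (a := S.V.index - 1) hD (by omega) (by omega) h1
    obtain ⟨a, ha⟩ := hwt j c2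
    obtain rfl : t = M := Nat.cast_injective (c3.symm.trans (horb j c2))
    rw [ha, b3, show p - (S.V.index - 1 + 1) = d + 1 by omega] at c4
    have c5 := b1.bound_pos (by omega) h2 (LinearMap.ext fun z => (blY_ker S _ _ z).mpr (by
      rw [hd, ito_sub_one_pow_char _ S.hx]; rfl)) a
    refine ⟨by omega, fun h0 => S.card_sylow_le_of_dim (blRep r A) ?_ (fun h => c1 ?_)
      (Or.inl hp6) hI⟩
    · have h3 := bl_rank_sumE S (blMap ι A) univ
      simp only [sum_blE, rank_one, trace_blMap, h1, h0, Nat.cast_zero, zero_add, sum_boole,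
        filter_mem_eq_inter, univ_inter, hDc, Nat.cast_inj] at h3
      rw [Module.finrank_fintype_fun_eq_card, h3]
      omega
    · rw [h, sub_self, zero_pow (by omega)]; rfl
  · obtain ⟨j, t, -, c1, c2, c3, c4⟩ := key (E := Dᶜ) (a := d) (fun l c => by
      simp only [mem_compl, hD l c]) (by rw [card_compl, ZMod.card]; omega) (by omega) h1
    have c5 := bl_finrank_wt S r hr hι (blSq X) (η j)
    have c6 : (blK S (blMap ι (blSq X)) (ι.toMonoidHom.comp (η j))).rank = M + t :=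
      Nat.cast_injective (R := ℂ) (by
        rw [← trace_eq_rank_of_idem (blK_idem S _ _), Nat.cast_add, ← c3, ← horb j c2,
          ← trace_add, ← add_mul, sum_add_sum_compl, sum_blE, one_mul])
    rw [show p - (d + 1) = S.V.index by omega] at c4
    have c7 : ∀ a c, r.toMonoidHom.comp (η j) = r.toMonoidHom.comp (η i) ^ 2 * blKap _ S ^ a →
        c ≤ a + 1 → c + a + 1 ≤ 2 * (d + 1) → c ≤ d + 1 → c ≤ b + M := fun a c ha e1 e2 e3 => by
      rw [ha, b3] at c4 c5
      have := b1.bound_neg (by omega) a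
      have := le_finrank_blSp β e1 e2 e3
      omega
    refine ⟨lam i, lam j, hfix X i (a4 hC0 he), c1 (mem_compl.mpr hD0) he, ?_, fun h => ?_⟩
    · obtain ⟨a, ha⟩ := hwt j c2
      have e1 := Nat.le_of_dvd (by omega) he
      have e2 := Nat.mod_lt (a + (S.V.index - 1) * (d - S.V.index / 2)) (show 0 < S.V.index by omega)
      have := c7 (d - S.V.index / 2 + (a + (S.V.index - 1) * (d - S.V.index / 2)) % S.V.index)
        (d + 1 - S.V.index / 2) (by
          rw [ha, (blKap_pow_iff S).mpr]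
          refine Nat.ModEq.symm ((((Nat.mod_modEq _ _).add_left _)).trans ?_)
          obtain ⟨e, he⟩ := Nat.exists_eq_succ_of_ne_zero (show S.V.index ≠ 0 by omega)
          generalize d - S.V.index / 2 = u
          rw [he, Nat.succ_sub_one, add_left_comm, add_comm u, ← Nat.succ_mul]
          simp [Nat.ModEq]) (by omega) (by omega) (by omega)
      omega
    · refine c7 d _ ?_ le_rfl (by omega) le_rfl
      obtain ⟨u, rfl⟩ := he
      rw [pow_mul, blKap_pow_index, one_pow, mul_one]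
      refine MonoidHom.ext fun l => (congrArg r (hι ?_)).trans (map_pow r (η i l) 2)
      have e1 := DFunLike.congr_fun (hl j) l
      have e2 := DFunLike.congr_fun (hl i) l
      rw [h] at e1
      rw [map_pow]
      exact e1.trans ((Units.val_pow_eq_pow_val _ _).trans (congrArg (· ^ 2) e2.symm))

end Cfsg.Agent.H34
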