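import Cfsg.Agent.H34.BlauBound
import Cfsg.Agent.H35.PMinus2

/-! Character computations in a block of defect one over a linear invariant character. -/

set_option autoImplicit false
set_option linter.unusedSectionVars false

namespace Cfsg.Agent.H34

open Finset Subgroup Cfsg Cfsg.Agent.H35
open scoped ComplexConjugate

variable {G : Type*} [Group G] [Fintype G] {p : ℕ} [hp : Fact p.Prime] (S : Setup G p)

theorem blM_inv (χ : G → ℂ) (i : ZMod p) : ∑ c, blM S χ c * ech p (c * i) = χ (S.xp i) :=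
  fourier_inv (fun i => χ (S.xp i)) i

theorem exists_blM {χ : G → ℂ} (hχ : IsCharacter G χ) :
    ∃ n : ZMod p → ℕ, (∀ c, blM S χ c = n c) ∧ ∑ c, n c = charDegree χ := by
  obtain ⟨n, A, hA⟩ := exists_matrix_of_isCharacter hχ
  have h : ∀ c, blM S χ c = (blE S A c).rank := fun c => by
    simpa only [hA, sum_singleton] using (bl_rank_sumE S A {c}).symm
  refine ⟨_, h, Nat.cast_injective (R := ℂ) ?_⟩
  simpa [h, S.xp_zero, cast_degree hχ] using blM_inv S χ 0

theorem blM_mul {χ : G → ℂ} (hχ : IsClassFunction G χ) (c : ZMod p) (l : S.K) :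
    blM S χ (c * S.κ l) = blM S χ c := by
  rw [blM, blM]
  congr 1
  refine Fintype.sum_equiv (Units.mulLeft (S.κ l)) _ _ fun i => ?_
  rw [Units.mulLeft_apply, ← S.conj_xp, hχ, mul_assoc]

theorem fixK_V {f : G → ℂ} {θ : S.V → ℂ}
    (h : ∀ i (v : S.V), f (S.xp i * (v : S.K)) = f (S.xp i) * θ v) (v : S.V) :
    S.fixK f v = blM S f 0 * θ v := by
  simp [Setup.fixK, blM, h, ← sum_mul, mul_assoc]

theorem bl_res_fixK {f : G → ℂ} {θ : S.V → ℂ} (h : ∀ g (v : S.V), f (g * (v : S.K)) = f g * θ v)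
    {μ : S.K →* ℂˣ} (h0 : classInner (S.fixK f) (fun l => μ l) ≠ 0) (v : S.V) :
    (μ v : ℂ) = θ v := by
  refine mul_right_cancel₀ h0 ?_
  rw [H5.classInner_eq_sum_inv _ (H5.isCharacter_monoidHom μ), mul_left_comm, mul_left_comm (θ v)]
  congr 1
  rw [mul_sum, mul_sum]
  refine (Fintype.sum_equiv (Equiv.mulRight (v : S.K)) _ _ fun l => ?_).symm
  simp only [Setup.fixK, Equiv.coe_mulRight, Subgroup.coe_mul, ← mul_assoc, h, ← sum_mul, mul_inv_rev,
    map_mul, map_inv, Units.val_mul, Units.val_inv_eq_inv_val]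
  field_simp

theorem bl_inner_fixK {f : G → ℂ} (hf : IsClassFunction G f) {θ : S.V → ℂ}
    (h : ∀ i (v : S.V), f (S.xp i * (v : S.K)) = f (S.xp i) * θ v) {c : ℂ} {lam μ : S.K →* ℂˣ}
    [Decidable (lam = μ)] (hl : ∀ l, l ∉ S.V → f l = c * lam l) (h1 : ∀ v : S.V, (lam v : ℂ) = θ v)
    (h2 : ∀ v : S.V, (μ v : ℂ) = θ v) : S.V.index * classInner (S.fixK f) (fun l => μ l) + c =
      S.V.index * (if lam = μ then c else 0) + blM S f 0 := by
  classical
  have h3 : classInner (S.fixK f - c • fun l => (lam l : ℂ)) (fun l => μ l) =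
      (S.V.index : ℂ)⁻¹ * (blM S f 0 - c) := by
    rw [H5.classInner_eq_sum_inv _ (H5.isCharacter_monoidHom μ), bl_sum_K S _ fun l hl' => by
      simp [S.fixK_apply hf hl', hl l hl'], sum_congr rfl (g := fun _ => blM S f 0 - c) fun v _ => by
        have := (μ v).ne_zero
        simp only [Pi.sub_apply, Pi.smul_apply, fixK_V S h, h1, ← h2, smul_eq_mul, map_inv,
          Units.val_inv_eq_inv_val]
        field_simp, sum_const, card_univ, ← Nat.card_eq_fintype_card, S.card_K, nsmul_eq_mul]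
    have h2 := H5.natCard_ne_zero (G := S.V)
    push_cast
    field_simp
  rw [H5.classInner_sub_left, H5.classInner_smul_left, H5.classInner_monoidHom] at h3
  have h4 : (S.V.index : ℂ) ≠ 0 := Nat.cast_ne_zero.mpr index_ne_zero_of_finite
  rw [eq_inv_mul_iff_mul_eq₀ h4] at h3
  split_ifs at h3 ⊢ <;> linear_combination h3

theorem bl_fixK_le {f : G → ℂ} (hf : IsCharacter G f) (T : Finset (IrrCharacter G))
    {b : IrrCharacter G → ℕ} (hb : ∀ χ : IrrCharacter G, classInner f χ = b χ) {φ : S.K → ℂ}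
    (hφ : IsCharacter S.K φ) (hT : ∀ χ ∈ T, classInner (S.fixK χ) φ ≠ 0) {q : ℕ}
    (hq : classInner (S.fixK f) φ = q) : ∑ χ ∈ T, b χ ≤ q := by
  choose m hm using fun χ : IrrCharacter G =>
    H5.exists_nat_classInner (S.isCharacter_fixK (H5.isCharacter_of_isIrr χ.2)) hφ
  have h1 : S.fixK f = ∑ χ : IrrCharacter G, (b χ : ℂ) • S.fixK χ := funext fun l => by
    simp only [Setup.fixK, H5.classFunction_apply_eq_sum (H5.isClassFunction_of_isCharacter hf), hb,
      Finset.sum_apply, Pi.smul_apply, smul_eq_mul, mul_sum]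
    rw [sum_comm]
    exact sum_congr rfl fun _ _ => sum_congr rfl fun _ _ => by ring
  simp only [h1, H5.classInner_sum_left, H5.classInner_smul_left, hm] at hq hT
  have h2 : ∑ χ, b χ * m χ = q := by exact_mod_cast hq
  exact (sum_le_sum fun χ hχ => Nat.le_mul_of_pos_right _ (Nat.pos_of_ne_zero fun e =>
    hT χ hχ (by simp [e]))).trans ((sum_le_sum_of_subset (subset_univ T)).trans h2.le)

variable {S} {θ : S.V →* ℂˣ} (hI : S.inertia (fun v => θ v) = ⊤) (B : S.Blk fun v => θ v)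

open Classical in
/-- the orbit attached to an exceptional character -/
noncomputable def blOrb (χ : IrrCharacter G) : Finset (ZMod p) :=
  univ.filter fun c => ∃ h ∈ S.autH fun v => θ v, c = B.α χ * h

theorem zero_not_mem_blOrb (χ : IrrCharacter G) : 0 ∉ blOrb B χ := fun h => by
  classical
  obtain ⟨h, -, e⟩ := (mem_filter.mp h).2
  exact mul_ne_zero (B.α χ).ne_zero h.ne_zero e.symm

include hI

theorem mem_blOrb {χ : IrrCharacter G} {c : ZMod p} :
    c ∈ blOrb B χ ↔ ∃ l : S.K, c = B.α χ * S.κ l := by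
  classical
  refine mem_filter.trans ⟨?_, fun ⟨l, h⟩ => ⟨mem_univ _, _, ⟨l, hI ▸ mem_top l, rfl⟩, h⟩⟩
  rintro ⟨-, _, ⟨l, -, rfl⟩, h⟩
  exact ⟨l, h⟩

theorem blOrb_inv (χ : IrrCharacter G) (l : S.K) (c : ZMod p) :
    c ∈ blOrb B χ ↔ c * S.κ l ∈ blOrb B χ := by
  simp only [mem_blOrb hI]
  exact ⟨fun ⟨l', h⟩ => ⟨l' * l, by simp [h, mul_assoc]⟩,
    fun ⟨l', h⟩ => ⟨l' * l⁻¹, by
      rw [map_mul, Units.val_mul, ← mul_assoc, ← h, map_inv, Units.mul_inv_cancel_right]⟩⟩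

theorem bl_card_autH : Nat.card (S.autH fun v => θ v) = S.V.index :=
  Setup.card_autH_of_top (H5.isClassFunction_of_isIrr (H5.isIrrCharacter_monoidHom θ)) hI

theorem card_blOrb (χ : IrrCharacter G) : (blOrb B χ).card = S.V.index := by
  classical
  have := sum_ite_orbit (S.autH fun v => θ v) (B.α χ) fun _ => 1
  rw [sum_const, card_univ, ← Nat.card_eq_fintype_card, bl_card_autH hI, smul_eq_mul, mul_one,
    sum_boole, Nat.cast_id] at this
  exact this

theorem bl_val {χ : IrrCharacter G} (hχ : χ ∈ B.Y) {i : ZMod p} (hi : i ≠ 0) :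
    (χ : G → ℂ) (S.xp i) = B.ε * ∑ h : S.autH fun v => θ v, ech p (B.α χ * (h : (ZMod p)ˣ) * i) := by
  simpa using B.valY_inv (H5.isIrrCharacter_monoidHom θ) hI hχ hi 1

theorem blM_Y {χ : IrrCharacter G} (hχ : χ ∈ B.Y) (c : ZMod p) :
    blM S χ c = blM S χ 0 + if c ∈ blOrb B χ then (B.ε : ℂ) else 0 := by
  classical
  have := fourier_sub (f := blM S χ) (g := fun c => if c ∈ blOrb B χ then (B.ε : ℂ) else 0)
    (fun i hi => by
      rw [blM_inv, bl_val hI B hχ hi, mul_sum,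
        ← sum_ite_orbit _ (B.α χ) fun a => (B.ε : ℂ) * ech p (a * i)]
      simp only [blOrb, mem_filter, mem_univ, true_and, ite_mul, zero_mul]) c
  rw [if_neg (zero_not_mem_blOrb B χ)] at this
  linear_combination this

theorem bl_scal (hV : ∀ v : S.V, ((v : S.K) : G) ∈ center G) {χ : IrrCharacter G} (hχ : χ ∈ B.Y)
    (g : G) (v : S.V) : (χ : G → ℂ) (g * (v : S.K)) = (χ : G → ℂ) g * θ v := by
  obtain ⟨ω, -, -, hω⟩ := H5.exists_apply_mul_eq_of_norm_eq (H5.isCharacter_of_isIrr χ.2)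
    (H5.norm_apply_of_mem_center χ.2 (hV v))
  obtain ⟨i, hi, h⟩ := B.exists_psi_ne_zero (Or.inr hχ)
  rw [B.psiY χ hχ i hi, ← bl_val hI B hχ hi] at h
  have h1 := B.valY_inv (H5.isIrrCharacter_monoidHom θ) hI hχ hi v
  rw [← bl_val hI B hχ hi, mem_center_iff.mp (hV v), hω, mul_comm] at h1
  rw [mem_center_iff.mp (hV v), hω, mul_left_cancel₀ h h1, mul_comm]

theorem bl_fixK_eq {χ ψ : IrrCharacter G} (hχ : χ ∈ B.Y) (hψ : ψ ∈ B.Y) :
    S.fixK χ = S.fixK ψ := funext fun l => by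
  have h1 := B.eq_on_regular hχ hψ (S.not_dvd_orderOf l)
  by_cases hl : l ∈ S.V
  · have h2 : ∀ χ ∈ B.Y, ∑ i, (χ : G → ℂ) (S.xp i * l) = (χ : G → ℂ) l +
        B.ε * -Nat.card (S.autH fun v => θ v) * θ ⟨l, hl⟩ := fun χ hχ => by
      rw [← add_sum_erase _ _ (mem_univ 0), S.xp_zero, one_mul, sum_congr rfl fun i hi =>
        B.valY_inv (H5.isIrrCharacter_monoidHom θ) hI hχ (ne_of_mem_erase hi) ⟨l, hl⟩,
        ← sum_mul, ← mul_sum, Setup.sum_ech_ne_zero]
    rw [Setup.fixK, Setup.fixK, h2 χ hχ, h2 ψ hψ, h1]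
  · rw [S.fixK_apply (H5.isClassFunction_of_isIrr χ.2) hl,
      S.fixK_apply (H5.isClassFunction_of_isIrr ψ.2) hl, h1]

theorem bl_diff {f : G → ℂ} (hf : IsClassFunction G f)
    (h : ∀ i (v : S.V), f (S.xp i * (v : S.K)) = f (S.xp i) * θ v) {χ ψ : IrrCharacter G}
    (hχ : χ ∈ B.Y) (hψ : ψ ∈ B.Y) : classInner f χ - classInner f ψ =
      B.ε * (blM S f (B.α χ) - blM S f (B.α ψ)) := by
  have hc := fun χ : IrrCharacter G => H5.isClassFunction_of_isIrr χ.2
  have h1 := S.classInner_singular (χ := (χ : G → ℂ) - ψ) hf (fun g k => by simp [hc _ g k])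
    fun g hg => Or.inr (sub_eq_zero.mpr (B.eq_on_regular hχ hψ hg))
  have h2 : ∀ χ : IrrCharacter G, ∑ i, f (S.xp i) * conj (∑ h : S.autH fun v => θ v,
      ech p (B.α χ * (h : (ZMod p)ˣ) * i)) = S.V.index * (p * blM S f (B.α χ)) := fun χ => by
    simp only [map_sum, mul_sum, conj_ech]
    rw [sum_comm, sum_congr rfl (g := fun _ => p * blM S f (B.α χ)) fun ⟨_, l, _, rfl⟩ _ => by
      rw [← blM_mul S hf _ l, blM, mul_inv_cancel_left₀ natCast_prime_ne_zero], sum_const,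
      card_univ, ← Nat.card_eq_fintype_card, bl_card_autH hI, nsmul_eq_mul]
  rw [H5.classInner_sub_right, sum_congr rfl (g := fun i => Nat.card S.V * (B.ε *
    (f (S.xp i) * conj (∑ h : S.autH fun v => θ v, ech p (B.α χ * (h : (ZMod p)ˣ) * i)) -
      f (S.xp i) * conj (∑ h : S.autH fun v => θ v, ech p (B.α ψ * (h : (ZMod p)ˣ) * i)))))
    fun i hi => ?_, sum_erase _ (by simp), ← mul_sum, ← mul_sum, sum_sub_distrib, h2, h2] at h1
  · refine mul_left_cancel₀ S.cardN_ne_zero (h1.trans ?_)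
    rw [S.card_K]
    push_cast
    ring
  · have hi := ne_of_mem_erase hi
    rw [Nat.card_eq_fintype_card, ← nsmul_eq_mul, ← card_univ, ← sum_const]
    refine sum_congr rfl fun v _ => ?_
    have h3 : (θ v : ℂ) * conj (θ v : ℂ) = 1 := by rw [H5.conj_monoidHom]; simp
    simp only [Pi.sub_apply, B.valY_inv (H5.isIrrCharacter_monoidHom θ) hI hχ hi,
      B.valY_inv (H5.isIrrCharacter_monoidHom θ) hI hψ hi, h, map_sub, map_mul, map_intCast]
    linear_combination (B.ε * (f (S.xp i) * conj (∑ h : S.autH fun v => θ v,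
      ech p (B.α χ * (h : (ZMod p)ˣ) * i)) - f (S.xp i) * conj (∑ h : S.autH fun v => θ v,
        ech p (B.α ψ * (h : (ZMod p)ˣ) * i)))) * h3

theorem bl_cap {f : G → ℂ} (hf : IsCharacter G f)
    (h : ∀ i (v : S.V), f (S.xp i * (v : S.K)) = f (S.xp i) * θ v) {ψ : IrrCharacter G}
    (hψ : ψ ∈ B.Y) {φ : S.K → ℂ} (hφ : IsCharacter S.K φ) (h0 : classInner (S.fixK ψ) φ ≠ 0)
    {n : ZMod p → ℕ} (hn : ∀ c, blM S f c = n c) (hn' : ∑ c, n c = charDegree f) {b q : ℕ}
    (hb : classInner f ψ = b) (hq : classInner (S.fixK f) φ = q) :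
    ((p : ℤ) - 1) * b + B.ε * (charDegree f - n 0 - (p - 1) * n (B.α ψ)) ≤ S.V.index * q := by
  have hc := H5.isClassFunction_of_isCharacter hf
  choose m hm using fun χ : IrrCharacter G =>
    H5.exists_nat_classInner hf (H5.isCharacter_of_isIrr χ.2)
  have h1 := bl_fixK_le S hf B.Y hm hφ (fun χ hχ => by rwa [bl_fixK_eq hI B hχ hψ]) hq
  have h2 : ∀ χ ∈ B.Y, (m χ : ℤ) = b + B.ε * (n (B.α χ) - n (B.α ψ)) := fun χ hχ => by
    have := bl_diff hI B hc h hχ hψ
    rw [hm, hb, hn, hn, sub_eq_iff_eq_add'] at this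
    exact_mod_cast this
  have h3 := B.sum_orbits n
  rw [sum_congr rfl (g := fun χ => S.V.index * n (B.α χ)) fun χ _ => by
    rw [sum_congr rfl (g := fun _ => n (B.α χ)) fun ⟨_, l, _, rfl⟩ _ => Nat.cast_injective (R := ℂ)
      (by rw [← hn, ← hn, blM_mul S hc]), sum_const, card_univ, ← Nat.card_eq_fintype_card,
      bl_card_autH hI, smul_eq_mul], ← mul_sum] at h3
  rw [← add_sum_erase _ _ (mem_univ 0), ← h3] at hn'
  have h4 := B.cardY
  rw [bl_card_autH hI] at h4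
  have h5 : (p : ℤ) - 1 = B.Y.card * S.V.index := by have := hp.out.pos; zify [this] at h4; omega
  have h6 : ((∑ χ ∈ B.Y, m χ : ℕ) : ℤ) ≤ q := by exact_mod_cast h1
  rw [Nat.cast_sum, sum_congr rfl h2, sum_add_distrib, ← mul_sum, sum_sub_distrib, sum_const,
    sum_const, ← Nat.cast_sum] at h6
  have h7 := mul_le_mul_of_nonneg_left h6 (Nat.cast_nonneg S.V.index)
  rw [h5, ← hn']
  simp only [nsmul_eq_mul] at h7
  push_cast at h7 ⊢
  linarith

end Cfsg.Agent.H34
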