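import Cfsg.Agent.H34.BlauSq

/-! Perfect groups with a faithful irreducible character of degree `p - e`. -/

set_option autoImplicit false
set_option linter.unusedSectionVars false

namespace Cfsg.Agent.H34

open Finset Subgroup Cfsg Cfsg.Agent.H35

variable {G : Type*} [Group G] [Fintype G] {p : ℕ} [hp : Fact p.Prime] {S : Setup G p}
  {θ : S.V →* ℂˣ} (hI : S.inertia (fun v => θ v) = ⊤) (B : S.Blk fun v => θ v)
include hI

theorem bl_cap' {f : G → ℂ} (hf : IsCharacter G f)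
    (h : ∀ i (v : S.V), f (S.xp i * (v : S.K)) = f (S.xp i) * θ v) {ψ : IrrCharacter G}
    (hψ : ψ ∈ B.Y) {lam μ : S.K →* ℂˣ} [Decidable (lam = μ)]
    (h0 : classInner (S.fixK ψ) (fun l => μ l) ≠ 0) (hV : ∀ v : S.V, ((v : S.K) : G) ∈ center G)
    {c : ℕ} (hl : ∀ l, l ∉ S.V → f l = c * lam l) (h1 : ∀ v : S.V, (lam v : ℂ) = θ v)
    {n : ZMod p → ℕ} (hn : ∀ c, blM S f c = n c) (hn' : ∑ c, n c = charDegree f) {b : ℕ}
    (hb : classInner f ψ = b) : ((p : ℤ) - 1) * b + B.ε * (charDegree f - n 0 -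
      (p - 1) * n (B.α ψ)) + c ≤ S.V.index * (if lam = μ then c else 0 : ℕ) + n 0 := by
  obtain ⟨q, hq⟩ := H5.exists_nat_classInner (S.isCharacter_fixK hf) (H5.isCharacter_monoidHom μ)
  have h2 := bl_cap hI B hf h hψ (H5.isCharacter_monoidHom μ) h0 hn hn' hb hq
  have h3 := bl_inner_fixK S (H5.isClassFunction_of_isCharacter hf) h hl h1
    (bl_res_fixK S (bl_scal hI B hV hψ) h0)
  rw [hq, hn] at h3
  have h4 : (S.V.index : ℤ) * q + c = S.V.index * (if lam = μ then c else 0 : ℕ) + n 0 := by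
    split_ifs at h3 ⊢ <;> exact_mod_cast h3
  omega

theorem blM_sq_odd {ζ : IrrCharacter G} (he : Odd S.V.index) (hp2 : p ≠ 2)
    (hm : ∀ c, blM S ζ c = (0 : ℕ) + if c ∈ (blOrb B ζ)ᶜ then 1 else 0) :
    blM S (fun g => (ζ : G → ℂ) g ^ 2) 0 + 2 * S.V.index = p := by
  have h1 : ∀ c, c ∈ blOrb B ζ → -c ∉ blOrb B ζ := fun c h h' => by
    obtain ⟨l, rfl⟩ := (mem_blOrb hI B).mp h
    obtain ⟨l', e⟩ := (mem_blOrb hI B).mp h'
    have h2 : ∀ l : S.K, (S.κ l : ZMod p) ^ S.V.index = 1 := fun l => by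
      rw [← Units.val_pow_eq_pow_val, ← map_pow, MonoidHom.mem_ker.mp (S.V.pow_index_mem l),
        Units.val_one]
    rw [← mul_neg, Units.mul_right_inj] at e
    have h3 := h2 l'
    rw [← e, he.neg_pow, h2, neg_eq_iff_add_eq_zero, one_add_one_eq_two] at h3
    exact hp2 ((Nat.prime_dvd_prime_iff_eq hp.out Nat.prime_two).mp
      ((ZMod.natCast_eq_zero_iff 2 p).mp h3))
  have h2 : ∑ c : ZMod p, (if -c ∈ blOrb B ζ then 1 else 0 : ℂ) = S.V.index := by
    refine (Equiv.sum_comp (Equiv.neg _) fun c => (if c ∈ blOrb B ζ then 1 else 0 : ℂ)).trans ?_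
    simp [card_blOrb hI]
  rw [blM_sq_zero, sum_congr rfl (g := fun c => 1 - (if c ∈ blOrb B ζ then 1 else 0) -
    if -c ∈ blOrb B ζ then 1 else 0) fun c _ => by
      by_cases a : c ∈ blOrb B ζ <;> by_cases b : -c ∈ blOrb B ζ <;>
        simp [hm, a, b] <;> exact h1 c a b, sum_sub_distrib, sum_sub_distrib, h2]
  simp [card_blOrb hI]
  ring

theorem bl_core (hG : commutator G = ⊤) {ζ : IrrCharacter G}
    (hf : ∀ g : G, (ζ : G → ℂ) g = (ζ : G → ℂ) 1 → g = 1)
    (hV : ∀ v : S.V, ((v : S.K) : G) ∈ center G) (hY : ζ ∈ B.Y) (hε : B.ε = -1)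
    (hd : charDegree (ζ : G → ℂ) + S.V.index = p) (he : 2 ≤ S.V.index) (hp7 : 7 < p) :
    (2 * S.V.index = p - 1 → Nat.card (Sylow p G) ≤ p + 1) ∧ (3 ≤ S.V.index →
      2 * S.V.index ≠ p - 1 → S.V.index * (S.V.index + 3) ≤ p - 1 ∧
        ∀ r, Odd r → ¬ ∀ v : S.V, v ^ r = 1) := by
  classical
  have hc := H5.isCharacter_of_isIrr ζ.2
  have hcl := H5.isClassFunction_of_isIrr ζ.2
  have h2 := S.two_le_degree_of_faithful hc hf (S.card_sylow_ne_one' hG)
  obtain ⟨m, hm1, hm⟩ := blM_neg hI B hY hε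
  obtain rfl : m = 0 := by
    rw [hd] at hm1
    simpa [mul_add, hp.out.ne_zero] using hm1
  have hI' := bl_inertia S hV fun v => (θ ^ 2) v
  obtain ⟨B', -⟩ := S.exists_blk (H5.isIrrCharacter_monoidHom (θ ^ 2)) ζ
  obtain ⟨ψ, hψ⟩ := B'.nonempty_Y
  have hζV := bl_scal hI B hV hY
  have hψV := bl_scal hI' B' hV hψ
  have hsq : IsCharacter G fun g => (ζ : G → ℂ) g ^ 2 := by
    simp only [sq]; exact H5.isCharacter_mul hc hc
  obtain ⟨n, hn, hn'⟩ := exists_blM S hsq
  obtain ⟨b, hb⟩ := H5.exists_nat_classInner hsq (H5.isCharacter_of_isIrr ψ.2)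
  obtain ⟨t, ht⟩ := S.index_dvd_pred
  obtain ⟨d, hd'⟩ : ∃ d, charDegree (ζ : G → ℂ) = d + 1 := ⟨charDegree (ζ : G → ℂ) - 1, by omega⟩
  have key := fun m => bl_bound S (m := m) (bl_K_comm S hV) ζ.2 ψ.2 hζV (by simpa using hψV)
    (d := d) (by omega) ((Nat.dvd_add_left dvd_rfl).mp ⟨t, by omega⟩) he (by omega)
    (by rw [card_compl, ZMod.card, card_blOrb hI]; omega) (mem_compl.mpr (zero_not_mem_blOrb B ζ))
    hm (blOrb_inv hI' B' ψ) (zero_not_mem_blOrb B' ψ) (card_blOrb hI' B' ψ) (M := n (B'.α ψ))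
    (fun c h => by
      obtain ⟨l, rfl⟩ := (mem_blOrb hI' B').mp h
      rw [blM_mul S (H5.isClassFunction_of_isCharacter hsq), hn]) hb (by omega)
    (S.le_normalizer_of_normal hc hf (by omega))
  refine ⟨fun h => (key 0).1 (by omega) (by omega), fun he3 ht2 => ?_⟩
  have ht3 : 3 ≤ t := by
    rcases t with _ | _ | _ | t <;> omega
  have hD : (charDegree (ζ : G → ℂ) : ℤ) = (t - 1) * S.V.index + 1 := by
    have : (p : ℤ) - 1 = S.V.index * t := by zify [hp.out.pos] at ht; omega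
    zify at hd
    linear_combination hd + this
  have hp' : (p : ℤ) - 1 = t * S.V.index := by zify at hd; linear_combination hD - hd
  have h0 : blM S ζ 0 = 1 := by simp [hm, zero_not_mem_blOrb]
  obtain ⟨lam, hlam⟩ := H5.exists_monoidHom_of_degree_one (S.isCharacter_fixK hc) (by
    simpa [h0] using fixK_V S (fun i => hζV _) 1)
  have hl : ∀ l, l ∉ S.V → (ζ : G → ℂ) l = lam l := fun l h => by
    rw [← S.fixK_apply hcl h, hlam]
  have hl' : ∀ v : S.V, ((lam ^ 2) v : ℂ) = (θ ^ 2) v := fun v => by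
    have := fixK_V S (fun i => hζV _) v
    rw [hlam, h0, one_mul] at this
    simp [this]
  have hdeg : charDegree (fun g => (ζ : G → ℂ) g ^ 2) = charDegree (ζ : G → ℂ) ^ 2 :=
    Nat.cast_injective (R := ℂ) (by rw [← cast_degree hsq, Nat.cast_pow, cast_degree hc])
  have hε' : B'.ε = 1 := B'.ε_sign.resolve_right fun hε' => by
    obtain ⟨m, -, hm'⟩ := blM_neg hI' B' hψ hε'
    obtain ⟨lam', μ, a1, a2, a3, a4⟩ := (key m).2.2 hm'
    obtain rfl : lam = lam' := by
      rw [hlam, H5.classInner_monoidHom] at a1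
      exact of_not_not fun h => a1 (if_neg h)
    have a5 := bl_cap' hI' B' hsq (fun i v => by simp [hζV, mul_pow]) hψ a2 hV (c := 1)
      (fun l h => by simp [hl l h]) hl' hn hn' hb
    rw [hε', hdeg, hp'] at a5
    refine bl_arith_neg (x := b + n (B'.α ψ)) (by exact_mod_cast he3) (by exact_mod_cast ht3) hD ?_
    split_ifs at a5 with h
    · exact Or.inr ⟨by push_cast at a5; linarith, by have := a4 h.symm; omega⟩
    · exact Or.inl ⟨by push_cast at a5; linarith, by omega⟩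
  have hodd : ∀ r, Odd r → ¬ ∀ v : S.V, v ^ r = 1 := fun r hr hv => by
    have := bl_sign_odd hI' B' ζ.2 rfl hζV hd he h2 hr hv
    omega
  refine ⟨?_, hodd⟩
  have hp2 := hp.out.odd_of_ne_two (by omega)
  have he' : Odd S.V.index := by
    have := mt (fun h => hodd _ h fun v => Subtype.ext (Subtype.ext
      (pow_degree_of_mem_center hG ζ.2 hf (hV v)))) id
    rw [← hd, Nat.odd_add'] at hp2
    exact hp2.mpr (Nat.not_odd_iff_even.mp this)
  obtain ⟨m, hm', -⟩ := exists_blM S (H5.isCharacter_of_isIrr ψ.2)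
  obtain ⟨a1, a2⟩ := (key (m 0)).2.1 (fun c => by rw [blM_Y hI' B' hψ, hε', hm', Int.cast_one])
    (by nlinarith)
  obtain ⟨μ, a3, a4⟩ := H5.exists_irr_constituent (S.isCharacter_fixK
    (H5.isCharacter_of_isIrr ψ.2)) fun h => by
      have a3 := fixK_V S (fun i => hψV _) 1
      rw [h, hm', map_one, Units.val_one, mul_one, Pi.zero_apply, eq_comm, Nat.cast_eq_zero] at a3
      have := S.pred_le_two_mul_index hG
        (Setup.card_sylow_eq_of_le (S.card_sylow_ne_one' hG) (a2 a3))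
      nlinarith
  obtain ⟨μ, rfl⟩ := H5.exists_monoidHom_of_comm (bl_K_comm S hV) a3
  have b1 : ∀ l, l ∉ S.V → (ζ : G → ℂ) (l * l) = lam l ^ 2 := fun l h => by
    obtain ⟨k, hk⟩ := he'
    have := S.V.pow_index_mem l
    rw [hk, pow_succ, pow_mul] at this
    simpa [sq] using hl (l * l) fun h' => h ((S.V.mul_mem_cancel_left
      (pow_mem (sq l ▸ h') k)).mp this)
  have b2 : ∀ i (v : S.V), (ζ : G → ℂ) (S.xp i * (v : S.K) * (S.xp i * (v : S.K))) =
      (ζ : G → ℂ) (S.xp i * S.xp i) * θ v ^ 2 := fun i v => by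
    rw [← (S.commute_xp i v).mul_mul_mul_comm, ← mul_assoc, hζV, hζV, sq, mul_assoc]
  have hA := H6.isCharacter_altSq hc
  have hS := H6.isCharacter_symSq hc
  obtain ⟨nA, c1, c2⟩ := exists_blM S hA
  obtain ⟨nS, c3, c4⟩ := exists_blM S hS
  obtain ⟨bA, c5⟩ := H5.exists_nat_classInner hA (H5.isCharacter_of_isIrr ψ.2)
  obtain ⟨bS, c6⟩ := H5.exists_nat_classInner hS (H5.isCharacter_of_isIrr ψ.2)
  have d1 := bl_cap' hI' B' hA (fun i v => by simp [hζV, b2]; ring) hψ a4 hV (c := 0)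
    (fun l h => by simp [hl l h, b1 l h]) hl' c1 c2 c5
  have d2 := bl_cap' hI' B' hS (fun i v => by simp [hζV, b2]; ring) hψ a4 hV (c := 1)
    (fun l h => by simp [hl l h, b1 l h]) hl' c3 c4 c6
  have d3 : ∀ c, n c = nA c + nS c := fun c => Nat.cast_injective (R := ℂ) (by
    rw [Nat.cast_add, ← hn, ← c1, ← c3, blM, blM, blM, ← mul_add, ← sum_add_distrib]
    exact congrArg _ (sum_congr rfl fun _ _ => by ring))
  have d4 : b = bA + bS := Nat.cast_injective (R := ℂ) (by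
    rw [Nat.cast_add, ← hb, ← c5, ← c6, ← H5.classInner_add_left]
    exact congrArg (classInner · _) (funext fun _ => by simp; ring))
  have d5 : nS 0 = nA 0 + 1 := Nat.cast_injective (R := ℂ) (by
    rw [Nat.cast_add, ← c1, ← c3, Nat.cast_one, ← h0, ← blM_comp_sq S (by omega) ζ, blM, blM, blM,
      ← mul_add, ← sum_add_distrib]
    exact congrArg _ (sum_congr rfl fun _ _ => by ring))
  have d6 : n 0 + 2 * S.V.index = p := by
    exact_mod_cast hn 0 ▸ blM_sq_odd hI B he' (by omega) hm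
  have d7 := cast_degree hA
  have d8 := cast_degree hS
  simp only [mul_one, cast_degree hc, div_eq_iff (two_ne_zero (α := ℂ))] at d7 d8
  rw [hε', hp'] at d1 d2
  generalize charDegree (fun g => ((ζ : G → ℂ) g ^ 2 - (ζ : G → ℂ) (g * g)) / 2) = dA at d1 d7
  generalize charDegree (fun g => ((ζ : G → ℂ) g ^ 2 + (ζ : G → ℂ) (g * g)) / 2) = dS at d2 d8
  have := bl_arith_pos (x := nA (B'.α ψ) - bA) (y := nS (B'.α ψ) - bS) (a := nA 0) (s := nS 0)
    (dA := dA) (dS := dS) (by exact_mod_cast he3) (by exact_mod_cast ht3) hD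
    (by have := d3 (B'.α ψ); omega) (by have := d3 0; omega) (by omega)
    (Int.cast_injective (α := ℂ) (by push_cast; linear_combination -d7))
    (Int.cast_injective (α := ℂ) (by push_cast; linear_combination -d8)) (by simp at d1; linarith)
    (by split_ifs at d2 <;> push_cast at d2 <;> linarith)
  exact ht ▸ Nat.mul_le_mul_left _ (by omega)

end Cfsg.Agent.H34
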