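import Cfsg.Agent.H34.BlauMod
import Cfsg.Agent.H35.Below

/-! Idempotents of the normalizer of a Sylow subgroup of order `p`, and pure sublattices. -/

set_option autoImplicit false
set_option linter.unusedSectionVars false

namespace Cfsg.Agent.H34

open Finset Matrix Polynomial Subgroup Cfsg Cfsg.Agent.H35

variable {G I : Type*} [Group G] [Finite G] [Fintype I] [DecidableEq I] {p : ℕ}
  [hp : Fact p.Prime] (S : Setup G p)

/-- multiplicity of an eigenvalue of `x` -/
noncomputable def blM (χ : G → ℂ) (c : ZMod p) : ℂ := (p : ℂ)⁻¹ * ∑ i, χ (S.xp i) * ech p (-(c * i))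

/-- projection on an eigenspace of `x` -/
noncomputable def blE (B : G →* Matrix I I ℂ) (c : ZMod p) : Matrix I I ℂ :=
  (p : ℂ)⁻¹ • ∑ i, ech p (-(c * i)) • B (S.xp i)

/-- projection on a weight space of `K` -/
noncomputable def blK (B : G →* Matrix I I ℂ) (η : S.K →* ℂ) : Matrix I I ℂ :=
  (Nat.card S.K : ℂ)⁻¹ • ∑ l : S.K, η l⁻¹ • B l

variable (B : G →* Matrix I I ℂ)

theorem xp_mul_blE (j c : ZMod p) : B (S.xp j) * blE S B c = ech p (c * j) • blE S B c := by
  rw [blE, Matrix.mul_smul, smul_comm (ech p (c * j))]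
  congr 1
  rw [mul_sum, smul_sum]
  refine Fintype.sum_equiv (Equiv.addLeft j) _ _ fun i => ?_
  rw [Matrix.mul_smul, ← map_mul, ← S.xp_add, smul_smul, ← AddChar.map_add_eq_mul,
    Equiv.coe_addLeft]
  congr 2
  ring

theorem blE_mul_blE (c c' : ZMod p) :
    blE S B c' * blE S B c = if c = c' then blE S B c else 0 := by
  rw [blE.eq_1 S B c', Matrix.smul_mul, sum_mul]
  simp only [Matrix.smul_mul, xp_mul_blE, smul_smul, ← sum_smul, ← AddChar.map_add_eq_mul]
  rw [sum_congr rfl fun i _ => by rw [show -(c' * i) + c * i = i * (c - c') by ring], sum_ech]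
  simp only [sub_eq_zero]
  split_ifs <;> simp [hp.out.ne_zero]

theorem sum_blE : ∑ c, blE S B c = 1 := by
  simp only [blE, ← smul_sum]
  rw [sum_comm]
  simp only [← sum_smul, ← mul_neg, sum_ech, neg_eq_zero, ite_smul, zero_smul, sum_ite_eq',
    mem_univ, if_true, S.xp_zero, map_one, smul_smul, inv_mul_cancel₀ natCast_prime_ne_zero,
    one_smul]

theorem trace_blE (c : ZMod p) : (blE S B c).trace = blM S (fun g => (B g).trace) c := by
  simp only [blE, blM, trace_smul, trace_sum, smul_eq_mul, mul_comm]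

theorem blE_mul_K (l : S.K) (c : ZMod p) : blE S B c * B l = B l * blE S B (c * S.κ l) := by
  rw [blE, blE, Matrix.mul_smul, Matrix.smul_mul, mul_sum, sum_mul]
  congr 1
  refine (Fintype.sum_equiv (Units.mulLeft (S.κ l)) _ _ fun i => ?_).symm
  rw [Matrix.mul_smul, Matrix.smul_mul, ← map_mul, ← map_mul, Units.mulLeft_apply, ← S.conj_xp,
    inv_mul_cancel_right, mul_assoc]

theorem K_mul_blK (η : S.K →* ℂ) (l : S.K) : B l * blK S B η = η l • blK S B η := by
  rw [blK, Matrix.mul_smul, smul_comm (η l)]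
  congr 1
  rw [mul_sum, smul_sum]
  refine Fintype.sum_equiv (Equiv.mulLeft l) _ _ fun l' => ?_
  rw [Matrix.mul_smul, ← map_mul, smul_smul, Equiv.coe_mulLeft, _root_.mul_inv_rev, map_mul η,
    mul_left_comm, ← map_mul η, mul_inv_cancel, map_one, mul_one, Subgroup.coe_mul]

theorem blK_mul {J : Type*} (η : S.K →* ℂ) {Z : Matrix I J ℂ} (h : ∀ l : S.K, B l * Z = η l • Z) :
    blK S B η * Z = Z := by
  rw [blK, Matrix.smul_mul, Matrix.sum_mul]
  simp only [Matrix.smul_mul, h, smul_smul, ← map_mul, inv_mul_cancel, map_one, one_smul,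
    sum_const, card_univ, ← Nat.card_eq_fintype_card, ← Nat.cast_smul_eq_nsmul ℂ,
    inv_mul_cancel₀ (H5.natCard_ne_zero (G := S.K))]

theorem sumE_mul_sumE (C : Finset (ZMod p)) :
    (∑ c ∈ C, blE S B c) * ∑ c ∈ C, blE S B c = ∑ c ∈ C, blE S B c := by
  rw [sum_mul_sum, sum_comm]
  exact sum_congr rfl fun c hc => by simp [blE_mul_blE, hc]

theorem K_mul_sumE {C : Finset (ZMod p)} (hC : ∀ (l : S.K) c, c ∈ C ↔ c * S.κ l ∈ C) (l : S.K) :
    B l * ∑ c ∈ C, blE S B c = (∑ c ∈ C, blE S B c) * B l := by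
  rw [mul_sum, sum_mul]
  exact (sum_equiv (Units.mulRight (S.κ l)) (hC l) fun c _ => blE_mul_K S B l c).symm

theorem K_mul_EK {C : Finset (ZMod p)} (hC : ∀ (l : S.K) c, c ∈ C ↔ c * S.κ l ∈ C)
    (η : S.K →* ℂ) (l : S.K) : B l * ((∑ c ∈ C, blE S B c) * blK S B η) =
      η l • ((∑ c ∈ C, blE S B c) * blK S B η) := by
  rw [← mul_assoc, K_mul_sumE S B hC, mul_assoc, K_mul_blK, Matrix.mul_smul]

theorem EK_idem {C : Finset (ZMod p)} (hC : ∀ (l : S.K) c, c ∈ C ↔ c * S.κ l ∈ C)
    (η : S.K →* ℂ) : (∑ c ∈ C, blE S B c) * blK S B η * ((∑ c ∈ C, blE S B c) * blK S B η) =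
      (∑ c ∈ C, blE S B c) * blK S B η := by
  rw [mul_assoc, blK_mul S B η (K_mul_EK S B hC η), ← mul_assoc, sumE_mul_sumE]

theorem trace_EK (c : ZMod p) (η : S.K →* ℂ) : (blE S B c * blK S B η).trace =
    (Nat.card S.K : ℂ)⁻¹ * ∑ l : S.K, ((p : ℂ)⁻¹ *
      ∑ i, (B (S.xp i * l)).trace * ech p (-(c * i))) * η l⁻¹ := by
  simp only [blE, blK, Matrix.mul_smul, Matrix.smul_mul, mul_sum, sum_mul, trace_smul, trace_sum,
    smul_eq_mul, map_mul]
  exact sum_congr rfl fun _ _ => sum_congr rfl fun _ _ => by ring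

theorem trace_EK_zero (η : S.K →* ℂˣ) [Fintype G] :
    (blE S B 0 * blK S B ((Units.coeHom ℂ).comp η)).trace =
      classInner (S.fixK fun g => (B g).trace) fun l => η l := by
  rw [trace_EK, H5.classInner_eq_sum_inv _ (H5.isCharacter_monoidHom η)]
  simp [Setup.fixK]

theorem bl_sum_K (f : S.K → ℂ) (h : ∀ l, l ∉ S.V → f l = 0) : ∑ l, f l = ∑ v : S.V, f v := by
  classical
  rw [← sum_subtype (univ.filter (· ∈ S.V)) (by simp), sum_filter]
  exact sum_congr rfl fun l _ => by split_ifs with h1; exacts [rfl, h l h1]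

theorem trace_EK_ne {c : ZMod p} (hc : c ≠ 0) (η : S.K →* ℂ)
    (h : ∀ g (v : S.V), (B (g * (v : S.K))).trace = (B g).trace * η v) :
    S.V.index * (blE S B c * blK S B η).trace = blM S (fun g => (B g).trace) c := by
  rw [trace_EK, bl_sum_K, sum_congr rfl (g := fun _ => blM S (fun g => (B g).trace) c) fun v _ => ?_,
    sum_const, card_univ, ← Nat.card_eq_fintype_card, S.card_K, nsmul_eq_mul]
  · have h1 : (S.V.index : ℂ) ≠ 0 := Nat.cast_ne_zero.mpr index_ne_zero_of_finite
    have h2 := H5.natCard_ne_zero (G := S.V)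
    push_cast
    field_simp
  · simp only [h, blM, mul_right_comm _ (η _), ← sum_mul]
    rw [mul_assoc, mul_assoc, ← map_mul, mul_inv_cancel, map_one, mul_one]
  · intro l hl
    rw [sum_congr rfl (g := fun i => (B l).trace * ech p (i * -c)) fun i _ => ?_, ← mul_sum,
      sum_ech, if_neg (neg_ne_zero.mpr hc), mul_zero, mul_zero, zero_mul]
    obtain ⟨j, hj⟩ := S.exists_conj_xp_mul_K hl i
    rw [hj, map_mul, trace_mul_comm, ← map_mul, ← mul_assoc, inv_mul_cancel, one_mul, mul_neg,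
      mul_comm i]

section
variable {O k : Type*} [CommRing O] [Field k] {ι : O →+* ℂ} {ω : O}

/-- change of the coefficient ring -/
def blMap {R : Type*} [CommRing R] (ι : O →+* R) (A : G →* Matrix I I O) : G →* Matrix I I R :=
  ι.mapMatrix.toMonoidHom.comp A

theorem trace_blMap {R : Type*} [CommRing R] (ι : O →+* R) (A : G →* Matrix I I O) (g : G) :
    (blMap ι A g).trace = ι (A g).trace := (AddMonoidHom.map_trace ι _).symm

/-- the polynomial killing the eigenspaces in `C` of `x - 1` -/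
noncomputable def blG (ω : O) (C : Finset (ZMod p)) : O[X] :=
  ∏ c ∈ C, (X - Polynomial.C (ω ^ c.val - 1))

theorem blG_map [CharP k p] (r : O →+* k) (hι : Function.Injective ι) (hω : ι ω = ech p 1)
    (C : Finset (ZMod p)) : (blG ω C).map r = X ^ C.card := by
  have h : r ω = 1 := map_eq_one_of_pow_eq_one r (p := p)
    (hι (by rw [map_pow, hω, ech_pow_prime, map_one]))
  simp [blG, Polynomial.map_prod, h]

theorem blG_mul (hω : ι ω = ech p 1) (A : G →* Matrix I I O) (C : Finset (ZMod p)) :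
    (aeval (A S.x - 1) (blG ω C)).map ι *
      ∑ c ∈ C, blE S (blMap ι A) c = 0 := by
  rw [mul_sum]
  refine sum_eq_zero fun c hc => ?_
  have h := xp_mul_blE S (blMap ι A) 1 c
  rw [S.xp_one, mul_one] at h
  have h1 : ι (ω ^ c.val) = ech p c := by rw [map_pow, hω, ech_pow]; simp
  rw [blG, ← prod_erase_mul _ _ hc, map_mul, Matrix.map_mul, mul_assoc, map_sub, aeval_X, aeval_C,
    map_sub, map_one, sub_sub_sub_cancel_right, Algebra.algebraMap_eq_smul_one,
    Matrix.map_sub _ (map_sub ι), bl_map_smul, Matrix.map_one _ (map_zero ι) (map_one ι),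
    sub_mul, h1, Matrix.smul_mul, one_mul, ← h]
  exact (congrArg _ (sub_self _)).trans (mul_zero _)

variable [IsDomain O] [IsPrincipalIdealRing O]

theorem bl_exists_Q (r : O →+* k) (hι : Function.Injective ι) (hω : ι ω = ech p 1)
    (A : G →* Matrix I I O) {C : Finset (ZMod p)} (hC : ∀ (l : S.K) c, c ∈ C ↔ c * S.κ l ∈ C)
    (η : S.K →* O) {t : ℕ} (ht : ((∑ c ∈ C, blE S (blMap ι A) c) *
      blK S (blMap ι A) (ι.toMonoidHom.comp η)).trace = t) :
    ∃ (s : ℕ) (Q : Matrix I (Fin s) O), aeval (A S.x - 1) (blG ω C) * Q = 0 ∧ (Q.map r).rank = s ∧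
      (∀ l : S.K, A l * Q = η l • Q) ∧ t ≤ s := by
  classical
  let Z : Option S.K → Matrix I I O := fun o =>
    o.elim (aeval (A S.x - 1) (blG ω C)) fun l => A l - η l • 1
  obtain ⟨s, Q, h1, h2, h3⟩ := bl_saturate r ι hι (of fun (t : Option S.K × I) j => Z t.1 t.2 j)
  have h4 : ∀ o, Z o * Q = 0 := fun o => Matrix.ext fun i j => congrFun (congrFun h1 (o, i)) j
  refine ⟨s, Q, h4 none, h2, fun l => ?_, ?_⟩
  · simpa [Z, Matrix.sub_mul, sub_eq_zero] using h4 (some l)
  rw [trace_eq_rank_of_idem (EK_idem S _ hC _), Nat.cast_inj] at ht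
  have h5 : ∀ o, (Z o).map ι * ((∑ c ∈ C, blE S (blMap ι A) c) *
      blK S (blMap ι A) (ι.toMonoidHom.comp η)) = 0 := by
    rintro (_ | l)
    · exact (mul_assoc _ _ _).symm.trans ((congrArg (· * _) (blG_mul S hω A C)).trans (zero_mul _))
    · change Matrix.map (_ - _) ι * _ = 0
      rw [Matrix.map_sub _ (map_sub ι), bl_map_smul, Matrix.map_one _ (map_zero ι) (map_one ι),
        sub_mul, Matrix.smul_mul, one_mul, sub_eq_zero]
      exact K_mul_EK S (blMap ι A) hC (ι.toMonoidHom.comp η) l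
  have h6 := rank_add_rank_le_card_of_mul_eq_zero
    (A := (of fun (t : Option S.K × I) j => Z t.1 t.2 j).map ι)
    (Matrix.ext fun t j => congrFun (congrFun (h5 t.1) t.2) j)
  omega

end

end Cfsg.Agent.H34
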