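import Cfsg.Agent.H34.BlauLin

/-! A lower bound for the multiplicity of an exceptional character in another character. -/

set_option autoImplicit false

namespace Cfsg.Agent.H34

open Matrix Subgroup Polynomial Cfsg Cfsg.Agent.H35

section
variable {k G M N : Type*} [Field k] [Group G] [AddCommGroup M] [Module k M] [AddCommGroup N]
  [Module k N] {p : ℕ}

/-- weight space -/
def blWt {K : Type*} [Monoid K] (D : K →* Module.End k M) (μ : K →* k) : Submodule k M where
  carrier := {m | ∀ l, D l m = μ l • m}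
  add_mem' ha hb l := by rw [map_add, ha, hb, smul_add]
  zero_mem' l := by simp
  smul_mem' c m h l := by rw [map_smul, h, smul_comm]

theorem bl_range_inv [Finite G] (ρ : G →* Module.End k M) {x n : G}
    (hn : n ∈ normalizer ((zpowers x : Subgroup G) : Set G)) {j : ℕ} {w : M}
    (hw : w ∈ LinearMap.range ((ρ x - 1) ^ j)) : ρ n w ∈ LinearMap.range ((ρ x - 1) ^ j) := by
  obtain ⟨s, hs, h⟩ := exists_conj_sub_one_pow ρ x hn j
  obtain ⟨u, rfl⟩ := hw
  refine ⟨s (ρ n u), ?_⟩
  have := LinearMap.congr_fun h u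
  rw [(hs.pow_right j).eq] at this
  exact this.symm

theorem bl_range_anti (y : Module.End k M) {i j : ℕ} (h : i ≤ j) :
    LinearMap.range (y ^ j) ≤ LinearMap.range (y ^ i) := by
  obtain ⟨l, rfl⟩ := Nat.exists_eq_add_of_le h
  rw [pow_add]
  exact LinearMap.range_comp_le_range _ _

theorem bl_hom_pow (ρ : G →* Module.End k N) (σ : G →* Module.End k M) (x : G) (h : N →ₗ[k] M)
    (n : ℕ) : ∀ (a j : ℕ) (z : N), ((ρ x - 1) ^ a) z = 0 → a + j ≤ n + 1 →
      ((Representation.linHom ρ σ x - 1) ^ n) h z ∈ LinearMap.range ((σ x - 1) ^ j) := by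
  induction n with
  | zero =>
    intro a j z hz hj
    rcases j with _ | j
    · exact ⟨_, rfl⟩
    · obtain rfl : a = 0 := by omega
      rw [show z = 0 from hz, map_zero]
      exact zero_mem _
  | succ n ih =>
    intro a j z hz hj
    rcases j with _ | j
    · exact ⟨_, rfl⟩
    rcases a with _ | a
    · rw [show z = 0 from hz, map_zero]
      exact zero_mem _
    have hc : Commute (ρ x⁻¹) (ρ x - 1) :=
      ((Commute.refl x).inv_left.map ρ).sub_right (Commute.one_right _)
    have h1 : ((ρ x - 1) ^ (a + 1)) (ρ x⁻¹ z) = 0 := by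
      rw [← Module.End.mul_apply, ← (hc.pow_right _).eq, Module.End.mul_apply, hz, map_zero]
    obtain ⟨w, hw⟩ := ih (a + 1) j _ h1 (by omega)
    have h2 := ih a (j + 1) ((ρ x - 1) (ρ x⁻¹ z)) (by
      rwa [← Module.End.mul_apply, ← pow_succ]) (by omega)
    have h3 := sub_mem (LinearMap.mem_range_self ((σ x - 1) ^ (j + 1)) w) h2
    rw [pow_succ' (σ x - 1), Module.End.mul_apply, hw, ← pow_succ'] at h3
    convert h3 using 1
    rw [pow_succ', Module.End.mul_apply]
    generalize ((Representation.linHom ρ σ x - 1) ^ n) h = h'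
    simp [Representation.linHom_apply, ← Module.End.mul_apply, ← map_mul]

theorem bl_fix_zpowers [Finite G] (T : G →* Module.End k M) {x : G} {f : M} (hf : T x f = f)
    {g : G} (hg : g ∈ zpowers x) : T g f = f := by
  obtain ⟨i, rfl⟩ := mem_powers_iff_mem_zpowers.mpr hg
  simp only [map_pow]
  rw [Module.End.pow_apply, Function.iterate_fixed hf]

theorem bl_out_smul [Finite G] (T : G →* Module.End k M) {x : G} {f : M} (hf : T x f = f)
    (g : G) (c : G ⧸ zpowers x) : T (g • c).out f = T g (T c.out f) := by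
  obtain ⟨u, hu⟩ := QuotientGroup.mk_out_eq_mul (zpowers x) (g * c.out)
  rw [← MulAction.Quotient.mk_smul_out, smul_eq_mul, hu, map_mul, map_mul, Module.End.mul_apply,
    bl_fix_zpowers T hf u.2, Module.End.mul_apply]

theorem bl_trace_mem [Finite G] [hp : Fact p.Prime] [CharP k p] (S : Setup G p)
    [Fintype (G ⧸ zpowers S.x)] (ρ : G →* Module.End k N) (σ : G →* Module.End k M) {a : ℕ}
    (f : N →ₗ[k] M) (hf : Representation.linHom ρ σ S.x f = f) {v : N}
    (hv : ((ρ S.x - 1) ^ a) v = 0) (μ : S.K →* k) (hvK : ∀ l : S.K, ρ l v = μ l • v) {u : M}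
    (huK : ∀ l : S.K, σ l u = μ l • u) {c : k} (hc : c ≠ 0)
    (hfv : ∀ j, u ∈ LinearMap.range ((σ S.x - 1) ^ j) →
      f v - c • u ∈ LinearMap.range ((σ S.x - 1) ^ (j + 1)))
    (h0 : ∑ c : G ⧸ zpowers S.x, Representation.linHom ρ σ c.out f v = 0) :
    u ∈ LinearMap.range ((σ S.x - 1) ^ (p - a)) := by
  classical
  have := Fintype.ofFinite (zpowers S.x)
  set T := Representation.linHom ρ σ with hT
  have h1 := fun g => bl_fix_zpowers T hf (g := g)
  have h2 := bl_out_smul T hf
  have h3 := sum_not_fixed_mem hp.out S.hx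
    (LinearMap.range ((σ S.x - 1) ^ (p - a))).toAddSubmonoid
    (fun c : G ⧸ zpowers S.x => T c.out f v) fun c _ => by
      simp only [h2]
      rw [sum_zpowers S.hx fun g => T g (T c.out f) v]
      simp only [map_pow]
      rw [← LinearMap.sum_apply, ← LinearMap.sum_apply, ← sub_one_pow_pred_eq_sum (k := k)]
      rcases le_or_gt a p with h | h
      · exact bl_hom_pow ρ σ S.x _ _ a _ v hv (by have := hp.out.pos; omega)
      · rw [show p - a = 0 by omega]; exact ⟨_, rfl⟩
  set S0 := Finset.univ.filter (fun c : G ⧸ zpowers S.x => S.x • c = c) with hS0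
  rw [← Finset.sum_filter_add_sum_filter_not _ (fun c : G ⧸ zpowers S.x => S.x • c = c)] at h0
  have key : ∀ j, j ≤ p - a → u ∈ LinearMap.range ((σ S.x - 1) ^ j) := fun j => by
    induction j with
    | zero => exact fun _ => ⟨_, rfl⟩
    | succ j ih =>
      intro hj
      have h4 := hfv j (ih (by omega))
      have h5 : ∑ c' ∈ S0, (T c'.out f v - c • u) ∈ LinearMap.range ((σ S.x - 1) ^ (j + 1)) := by
        refine Submodule.sum_mem _ fun c' hc' => ?_
        obtain ⟨i, l, hl⟩ := S.exists_decomp
          (inv_mem ((smul_eq_iff_out_mem S.x c').mp (Finset.mem_filter.mp hc').2))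
        have h6 := Submodule.smul_mem _ (μ l) (bl_range_inv σ (S.K_mem l⁻¹) h4)
        convert h6 using 1
        rw [inv_eq_iff_eq_inv.mp hl, _root_.mul_inv_rev, map_mul, Module.End.mul_apply,
          h1 _ (inv_mem (S.xp_mem i)), map_sub, map_smul, huK, smul_sub, smul_comm c, smul_smul,
          ← map_mul μ, mul_inv_cancel, map_one, one_smul, hT, Representation.linHom_apply]
        simp [hvK]
      rw [Finset.sum_sub_distrib, eq_neg_of_add_eq_zero_left h0, Finset.sum_const,
        ← Nat.cast_smul_eq_nsmul k, smul_smul] at h5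
      have h7 := neg_mem (add_mem h5 (bl_range_anti _ hj h3))
      rwa [sub_add_eq_add_sub, neg_add_cancel, zero_sub, neg_neg,
        Submodule.smul_mem_iff _ (mul_ne_zero (fun h => not_dvd_card_fixed hp.out S.hx S.hsq
          ((CharP.cast_eq_zero_iff k p _).mp h)) hc)] at h7
  exact key _ le_rfl

end

/-- matrix representation with an arbitrary index type -/
noncomputable def blRep {H O k I : Type*} [Monoid H] [CommRing O] [CommRing k] [Fintype I]
    [DecidableEq I] (r : O →+* k) (A : H →* Matrix I I O) : H →* Module.End k (I → k) :=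
  ((Matrix.toLinAlgEquiv' (R := k) (n := I)).toRingEquiv.toRingHom.comp
    r.mapMatrix).toMonoidHom.comp A

theorem blRep_apply {H O k I : Type*} [Monoid H] [CommRing O] [CommRing k] [Fintype I]
    [DecidableEq I] (r : O →+* k) (A : H →* Matrix I I O) (g : H) (w : I → k) :
    blRep r A g w = (A g).map r *ᵥ w := rfl

theorem blRep_pow {H O k I : Type*} [Monoid H] [CommRing O] [CommRing k] [Fintype I]
    [DecidableEq I] (r : O →+* k) (A : H →* Matrix I I O) (g : H) (j : ℕ) (w : I → k) :
    ((blRep r A g - 1) ^ j) w = ((A g - 1) ^ j).map r *ᵥ w := by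
  have := ((Matrix.toLinAlgEquiv' (R := k) (n := I)).toRingEquiv.toRingHom.comp
    r.mapMatrix).map_pow (A g - 1) j
  rw [map_sub, map_one] at this
  exact (LinearMap.congr_fun this w).symm

theorem blRep_character {H O k I : Type*} [Monoid H] [CommRing O] [Field k] [Fintype I]
    [DecidableEq I] (r : O →+* k) (A : H →* Matrix I I O) (g : H) :
    Representation.character (blRep r A) g = r (A g).trace :=
  (trace_toLin'_eq _).trans (AddMonoidHom.map_trace r _).symm

theorem bl_linHom {G O k I J : Type*} [Group G] [CommRing O] [Field k] [Fintype I]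
    [DecidableEq I] [Fintype J] [DecidableEq J] (r : O →+* k) (A : G →* Matrix J J O)
    (B : G →* Matrix I I O) (h : G) (Z : Matrix I J O) :
    Representation.linHom (blRep r A) (blRep r B) h (toLin' (Z.map r)) =
      toLin' ((B h * Z * A h⁻¹).map r) := LinearMap.ext fun w => by
  simp [Representation.linHom_apply, blRep_apply, Matrix.map_mul]

theorem bl_map_sum {O k I J C : Type*} [CommRing O] [CommRing k] (r : O →+* k) (T : Finset C)
    (Z : C → Matrix I J O) : (∑ c ∈ T, Z c).map r = ∑ c ∈ T, (Z c).map r := by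
  ext i j
  simp [Matrix.sum_apply]

theorem bl_map_smul {O k I J : Type*} [CommRing O] [CommRing k] (r : O →+* k) (c : O)
    (Z : Matrix I J O) : (c • Z).map r = r c • Z.map r := by
  ext i j
  simp

theorem bl_toLin_sum {G O k I J C : Type*} [Group G] [CommRing O] [Field k] [Fintype I]
    [DecidableEq I] [Fintype J] [DecidableEq J] [Fintype C] (r : O →+* k) (A : G →* Matrix J J O)
    (B : G →* Matrix I I O) (h : C → G) (Z : Matrix I J O) :
    toLin' ((∑ c, B (h c) * Z * A (h c)⁻¹).map r) =
      ∑ c, Representation.linHom (blRep r A) (blRep r B) (h c) (toLin' (Z.map r)) := by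
  simp only [bl_linHom, ← map_sum, bl_map_sum]

theorem bl_lattice {G O k I J : Type*} [Group G] [Fintype G] [CommRing O] [Field k] [Fintype I]
    [DecidableEq I] [Fintype J] [DecidableEq J] {p s a b : ℕ} [hp : Fact p.Prime] [CharP k p]
    (S : Setup G p) (r : O →+* k) (hr : Function.Surjective r) (ι : O →+* ℂ)
    (hι : Function.Injective ι) (A : G →* Matrix J J O) (B : G →* Matrix I I O) (g : O[X])
    (hg : g.map r = X ^ (a + 1)) (φ : J → O) (hφ : φ ᵥ* aeval (A S.x - 1) g = 0) {v : J → k}
    (hv : ((blRep r A S.x - 1) ^ (a + 1)) v = 0)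
    (hφv : (r ∘ φ) ⬝ᵥ ((blRep r A S.x - 1) ^ a) v ≠ 0) (μ : S.K →* k)
    (hvK : ∀ l : S.K, blRep r A l v = μ l • v) (Q : Matrix I (Fin s) O)
    (hQ : aeval (B S.x - 1) g * Q = 0) (hQr : (Q.map r).rank = s)
    (hQK : ∀ l : S.K, (B l).map r * Q.map r = μ l • Q.map r)
    (hb : classInner (fun g => ι (B g).trace) (fun g => ι (A g).trace) = b) :
    s ≤ b + Module.finrank k (LinearMap.range ((blRep r B S.x - 1) ^ (p - (a + 1))) ⊓
      blWt ((blRep r B).comp S.K.subtype) μ : Submodule k (I → k)) := by
  classical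
  have := Fintype.ofFinite (G ⧸ zpowers S.x)
  let f : (Fin s → O) →ₗ[O] Matrix I J O :=
    { toFun := fun u => ∑ j ∈ Finset.range (g.natDegree + 1), g.coeff j •
        ∑ i ∈ Finset.range j, (B S.x - 1) ^ i * vecMulVec (Q *ᵥ u) φ * (A S.x - 1) ^ (j - 1 - i)
      map_add' := fun u w => by
        simp only [mulVec_add, add_vecMulVec, Matrix.mul_add, Matrix.add_mul,
          Finset.sum_add_distrib, smul_add]
      map_smul' := fun c u => by
        simp only [mulVec_smul, smul_vecMulVec, Matrix.mul_smul, Matrix.smul_mul,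
          ← Finset.smul_sum, smul_comm _ c, RingHom.id_apply] }
  have hfa : ∀ u, f u = ∑ j ∈ Finset.range (g.natDegree + 1), g.coeff j •
      ∑ i ∈ Finset.range j, (B S.x - 1) ^ i * vecMulVec (Q *ᵥ u) φ * (A S.x - 1) ^ (j - 1 - i) :=
    fun _ => rfl
  have hf : ∀ u, B S.x * f u = f u * A S.x := fun u => by
    have h1 : (B S.x - 1) * f u - f u * (A S.x - 1) = 0 := by
      set W := vecMulVec (Q *ᵥ u) φ with hW
      have h2 : ∀ j, (B S.x - 1) * (∑ i ∈ Finset.range j,
          (B S.x - 1) ^ i * W * (A S.x - 1) ^ (j - 1 - i)) - (∑ i ∈ Finset.range j,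
          (B S.x - 1) ^ i * W * (A S.x - 1) ^ (j - 1 - i)) * (A S.x - 1) =
          (B S.x - 1) ^ j * W - W * (A S.x - 1) ^ j := fun j => by
        have := Finset.sum_range_sub (fun i => (B S.x - 1) ^ i * W * (A S.x - 1) ^ (j - i)) j
        rw [Nat.sub_self, pow_zero, pow_zero, Matrix.mul_one, Matrix.one_mul, Nat.sub_zero] at this
        rw [← this, Matrix.mul_sum, Matrix.sum_mul, ← Finset.sum_sub_distrib]
        refine Finset.sum_congr rfl fun i hi => ?_
        rw [Finset.mem_range] at hi
        rw [show j - (i + 1) = j - 1 - i by omega, show j - i = j - 1 - i + 1 by omega,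
          pow_succ (A S.x - 1), pow_succ' (B S.x - 1)]
        simp only [Matrix.mul_assoc]
      have h3 : aeval (B S.x - 1) g * W - W * aeval (A S.x - 1) g = 0 := by
        rw [hW, mul_vecMulVec, vecMulVec_mul, hφ, mulVec_mulVec, hQ]
        ext; simp [vecMulVec_apply]
      rw [aeval_eq_sum_range, aeval_eq_sum_range, Matrix.mul_sum, Matrix.sum_mul,
        ← Finset.sum_sub_distrib] at h3
      rw [← h3, hfa, Matrix.mul_sum, Matrix.sum_mul, ← Finset.sum_sub_distrib]
      refine Finset.sum_congr rfl fun j _ => ?_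
      rw [Matrix.mul_smul, Matrix.smul_mul, Matrix.mul_smul, Matrix.smul_mul, ← smul_sub,
        ← smul_sub, h2]
    rwa [Matrix.sub_mul, Matrix.mul_sub, Matrix.one_mul, Matrix.mul_one, sub_sub_sub_cancel_right,
      sub_eq_zero] at h1
  clear_value f
  have hx : ∀ u, B S.x * f u * A S.x⁻¹ = f u := fun u => by
    rw [hf, Matrix.mul_assoc, ← map_mul, mul_inv_cancel, map_one, Matrix.mul_one]
  let F : (Fin s → O) →ₗ[O] (I × J → O) :=
    { toFun := fun u t => (∑ c : G ⧸ zpowers S.x, B c.out * f u * A c.out⁻¹) t.1 t.2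
      map_add' := fun u w => by
        simp only [map_add, Matrix.mul_add, Matrix.add_mul, Finset.sum_add_distrib]; rfl
      map_smul' := fun c u => by
        simp only [map_smul, Matrix.mul_smul, Matrix.smul_mul, ← Finset.smul_sum]; rfl }
  have h1 : ((LinearMap.toMatrix' F).map ι).rank ≤ b := by
    have : Invertible (Nat.card G : ℂ) := invertibleOfNonzero H5.natCard_ne_zero
    have h2 := (Representation.linHom (blRep ι A) (blRep ι B)).card_inv_mul_sum_char_eq_finrank
    rw [H5.classInner_eq_sum_inv _ (by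
      rw [← funext (blRep_character ι A)]; exact H5.isCharacter_character _)] at hb
    simp only [Representation.char_linHom, blRep_character, mul_comm (ι (A _).trace)] at h2
    rw [← Nat.cast_injective (hb.symm.trans h2).symm, rank_eq_finrank_span_cols]
    let e : (I × J → ℂ) ≃ₗ[ℂ] _ := (LinearEquiv.curry ℂ ℂ I J).trans
      ((ofLinearEquiv ℂ).trans toLin')
    rw [← e.finrank_map_eq]
    refine Submodule.finrank_mono ?_
    rw [Submodule.map_span_le]
    rintro _ ⟨l, rfl⟩ h
    have h4 : e (((LinearMap.toMatrix' F).map ι).col l) = _ :=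
      bl_toLin_sum ι A B (fun c : G ⧸ zpowers S.x => c.out) (f (Pi.single l 1))
    rw [LinearEquiv.coe_coe, h4, map_sum]
    exact Fintype.sum_equiv (MulAction.toPerm h) _ _ fun c =>
      (bl_out_smul _ (by rw [bl_linHom, hx]) h c).symm
  have h2 := LinearMap.finrank_range_add_finrank_ker ((LinearMap.toMatrix' F).map r).mulVecLin
  have h3 := bl_rank_map_le r hr ι hι (LinearMap.toMatrix' F)
  have h4 : Function.Injective (Q.map r).mulVecLin := by
    have := LinearMap.finrank_range_add_finrank_ker (Q.map r).mulVecLin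
    rw [← LinearMap.ker_eq_bot, ← Submodule.finrank_eq_zero]
    rw [← rank, hQr, Module.finrank_fin_fun] at this
    omega
  rw [← rank, Module.finrank_fin_fun] at h2
  rw [← h2, (Submodule.equivMapOfInjective _ h4 _).finrank_eq]
  refine Nat.add_le_add (h3.trans h1) (Submodule.finrank_mono ?_)
  rintro _ ⟨w, hw, rfl⟩
  obtain ⟨u, rfl⟩ := hr.comp_left w
  have h5 : ∀ l : S.K, blRep r B l (Q.map r *ᵥ (r ∘ u)) = μ l • (Q.map r *ᵥ (r ∘ u)) := fun l => by
    rw [blRep_apply, mulVec_mulVec, hQK, smul_mulVec]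
  refine ⟨bl_trace_mem S (blRep r A) (blRep r B) (toLin' ((f u).map r)) (by rw [bl_linHom, hx])
    hv μ hvK (u := Q.map r *ᵥ (r ∘ u)) h5 hφv (fun j hj => ?_) ?_, h5⟩
  · have h6 : ∀ j, r (g.coeff j) = if j = a + 1 then 1 else 0 := fun j => by
      rw [← coeff_map, hg, coeff_X_pow]
    have h7 : a + 1 ∈ Finset.range (g.natDegree + 1) := Finset.mem_range.mpr
      (Nat.lt_succ_of_le (le_natDegree_of_ne_zero fun h => by simpa [h] using h6 (a + 1)))
    have h8 : toLin' ((f u).map r) v = ∑ i ∈ Finset.range (a + 1),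
        ((r ∘ φ) ⬝ᵥ ((blRep r A S.x - 1) ^ (a - i)) v) •
          ((blRep r B S.x - 1) ^ i) (Q.map r *ᵥ (r ∘ u)) := by
      rw [hfa, toLin'_apply, bl_map_sum, sum_mulVec,
        Finset.sum_eq_single_of_mem _ h7 fun j _ hj => by
          rw [bl_map_smul, h6, if_neg hj, zero_smul, zero_mulVec],
        bl_map_smul, h6, if_pos rfl, one_smul,
        bl_map_sum, sum_mulVec]
      refine Finset.sum_congr rfl fun i _ => ?_
      rw [blRep_pow, blRep_pow, Matrix.map_mul, Matrix.map_mul, ← mulVec_mulVec, ← mulVec_mulVec,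
        ← mulVec_smul, Nat.add_sub_cancel]
      congr 1
      ext l
      simp only [vecMulVec_apply, mulVec, dotProduct, map_apply, map_mul, map_sum, Pi.smul_apply,
        Function.comp_apply, smul_eq_mul, mul_assoc, ← Finset.mul_sum]
      exact mul_comm _ _
    rw [h8, Finset.sum_range_succ', Nat.sub_zero, pow_zero, Module.End.one_apply,
      add_sub_cancel_right]
    obtain ⟨w, hw⟩ := hj
    refine Submodule.sum_mem _ fun i _ => Submodule.smul_mem _ _ ?_
    rw [← hw, ← Module.End.mul_apply, ← pow_add]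
    exact bl_range_anti _ (by omega) (LinearMap.mem_range_self _ w)
  · rw [← LinearMap.sum_apply, ← bl_toLin_sum]
    have h6 : (∑ c : G ⧸ zpowers S.x, B c.out * f u * A c.out⁻¹).map r = 0 := by
      ext i j
      change r (F u (i, j)) = 0
      rw [← LinearMap.toMatrix'_mulVec, RingHom.map_mulVec]
      exact congrFun hw (i, j)
    rw [h6, map_zero, LinearMap.zero_apply]

end Cfsg.Agent.H34
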