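import Cfsg.Agent.H34.ItoMod2
import Cfsg.Agent.H35.Rank
import Mathlib.LinearAlgebra.LinearIndependent.BaseChange

/-! Linear algebra for the theorems of Blau on linear groups of degree below `p - 1`. -/

set_option autoImplicit false

namespace Cfsg.Agent.H34

open Matrix Cfsg.Agent.H35

theorem bl_rank_map_le {O k L I J : Type*} [CommRing O] [Field k] [Field L] [Fintype I] [Fintype J]
    (r : O →+* k) (hr : Function.Surjective r) (ι : O →+* L) (hι : Function.Injective ι)
    (B : Matrix J I O) : (B.map r).rank ≤ (B.map ι).rank := by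
  classical
  have h := rank_map_le r hr ι hι (fromBlocks (0 : Matrix J J O) B (0 : Matrix I J O) 0)
  have h1 : B.map r = ((fromBlocks (0 : Matrix J J O) B (0 : Matrix I J O) 0).map r).submatrix
      Sum.inl Sum.inr := rfl
  have h2 : (fromBlocks (0 : Matrix J J O) B (0 : Matrix I J O) (0 : Matrix I I O)).map ι =
      fromRows (1 : Matrix J J L) (0 : Matrix I J L) * B.map ι *
        fromCols (0 : Matrix I J L) (1 : Matrix I I L) := by
    rw [fromRows_mul, fromRows_mul, mul_fromCols, mul_fromCols, fromBlocks_map]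
    ext (i | i) (j | j) <;> simp
  rw [h2] at h
  rw [h1]
  exact (rank_submatrix_le _ _ _).trans (h.trans
    ((rank_mul_le_left _ _).trans (rank_mul_le_right _ _)))

/-- the kernel of a matrix over a principal ideal domain is a pure sublattice -/
theorem bl_saturate {O k L I J : Type*} [CommRing O] [IsDomain O] [IsPrincipalIdealRing O] [Field k]
    [Field L] [Fintype I] [Fintype J] (r : O →+* k) (ι : O →+* L) (hι : Function.Injective ι)
    (T : Matrix J I O) : ∃ (s : ℕ) (Q : Matrix I (Fin s) O), T * Q = 0 ∧ (Q.map r).rank = s ∧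
      Fintype.card I ≤ s + (T.map ι).rank := by
  classical
  set f := T.mulVecLin with hf
  obtain ⟨σ, hσ⟩ := Module.projective_lifting_property f.rangeRestrict LinearMap.id
    f.surjective_rangeRestrict
  let π : (I → O) →ₗ[O] LinearMap.ker f :=
    (LinearMap.id - σ ∘ₗ f.rangeRestrict).codRestrict _ fun u => by
      have := congrArg Subtype.val (LinearMap.congr_fun hσ (f.rangeRestrict u))
      simp only [LinearMap.mem_ker, LinearMap.sub_apply, map_sub, LinearMap.id_apply,
        LinearMap.comp_apply]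
      exact sub_eq_zero.mpr this.symm
  have hπ : π ∘ₗ (LinearMap.ker f).subtype = LinearMap.id := by
    ext u : 1
    refine Subtype.ext ?_
    have : f.rangeRestrict u = 0 := Subtype.ext u.2
    simp [π, this]
  let b := Module.finBasis O (LinearMap.ker f)
  let Q := LinearMap.toMatrix b (Pi.basisFun O I) (LinearMap.ker f).subtype
  let Q' := LinearMap.toMatrix (Pi.basisFun O I) b π
  have hQ : Q' * Q = 1 := by rw [← LinearMap.toMatrix_comp, hπ, LinearMap.toMatrix_id]
  refine ⟨_, Q, ?_, le_antisymm ((rank_le_card_width _).trans_eq (Fintype.card_fin _)) ?_, ?_⟩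
  · ext i j
    refine Eq.trans ?_ (congrFun (b j).2 i)
    simp only [Q, mul_apply, LinearMap.toMatrix_apply, Pi.basisFun_repr]
    rfl
  · have := rank_mul_le_right (Q'.map r) (Q.map r)
    rwa [← Matrix.map_mul, hQ, Matrix.map_one _ (map_zero r) (map_one r), rank_one,
      Fintype.card_fin] at this
  · have h1 := (LinearMap.ker f).finrank_quotient_add_finrank
    rw [f.quotKerEquivRange.finrank_eq, Module.finrank_fintype_fun_eq_card] at h1
    rw [← h1, add_comm]
    refine Nat.add_le_add_left ?_ _
    let c := Module.finBasis O (LinearMap.range f)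
    let _ := ι.toAlgebra
    have : FaithfulSMul O L := (faithfulSMul_iff_algebraMap_injective O L).mpr hι
    have h2 := linearIndependent_algebraMap_comp_iff (S := L).mpr
      (c.linearIndependent.map' (LinearMap.range f).subtype (Submodule.ker_subtype _))
    have h3 : ∀ i, algebraMap O L ∘ ((LinearMap.range f).subtype ∘ c) i ∈
        LinearMap.range (T.map ι).mulVecLin := fun i => by
      obtain ⟨u, hu⟩ := (c i).2
      refine ⟨ι ∘ u, funext fun j => ?_⟩
      change _ = ι ((c i : J → O) j)
      rw [← hu, hf, mulVecLin_apply, mulVecLin_apply, RingHom.map_mulVec]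
    have h4 := (LinearIndependent.of_comp (LinearMap.range (T.map ι).mulVecLin).subtype
      (v := fun i => ⟨_, h3 i⟩) h2).fintype_card_le_finrank
    rwa [Fintype.card_fin] at h4

variable {k M : Type*} [Field k] [AddCommGroup M] [Module k M]

/-- an eigenvector for a split abelian group -/
theorem bl_exists_eigen {K J : Type*} [Group K] [Fintype K] [DecidableEq K] [Fintype J]
    (η : J → K →* k) {c : k} (hc : c ≠ 0) (hη : ∀ g, ∑ j, η j g = if g = 1 then c else 0)
    (D : K →* Module.End k M) (U R : Submodule k M) (hU : ∀ g, ∀ u ∈ U, D g u ∈ U)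
    {v : M} (hv : v ∈ U) (hv' : v ∉ R) :
    ∃ j, ∃ w ∈ U, w ∉ R ∧ ∀ g, D g w = η j g • w := by
  by_contra! h
  refine hv' ?_
  have h1 : c • v = ∑ j, ∑ g, η j g⁻¹ • D g v := by
    rw [Finset.sum_comm]
    simp only [← Finset.sum_smul, hη, inv_eq_one, ite_smul, zero_smul, Finset.sum_ite_eq',
      Finset.mem_univ, if_true, map_one, Module.End.one_apply]
  rw [← R.smul_mem_iff hc, h1]
  refine R.sum_mem fun j _ => by_contra fun h2 => ?_
  obtain ⟨g, hg⟩ := h j _ (U.sum_mem fun g _ => U.smul_mem _ (hU g v hv)) h2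
  refine hg ?_
  rw [map_sum, Finset.smul_sum]
  refine Fintype.sum_equiv (Equiv.mulLeft g) _ _ fun l => ?_
  rw [Equiv.coe_mulLeft, smul_smul, ← map_mul (η j), _root_.mul_inv_rev, map_smul, map_mul D,
    Module.End.mul_apply, map_mul, map_mul, mul_left_comm, ← map_mul, mul_inv_cancel, map_one,
    mul_one]

/-- Jordan type of a nilpotent map with at most one block of size less than `p` -/
theorem bl_blocks [FiniteDimensional k M] {y : Module.End k M} {p r m : ℕ} (hy : y ^ p = 0)
    (hr : r + 1 < p) (hd : Module.finrank k M = r + 1 + m * p) {v : M}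
    (hv : ∀ w, (y ^ (p - 1)) w = 0 → ∃ c : k, w - c • v ∈ LinearMap.range y) :
    Module.finrank k (LinearMap.range (y ^ (r + 1))) = m * (p - (r + 1)) ∧
      Module.finrank k (LinearMap.ker y) = m + 1 ∧
      ∃ u, (y ^ (r + 1)) u = 0 ∧ (y ^ r) u ∉ LinearMap.range (y ^ (r + 1)) := by
  set ρ : ℕ → ℕ := fun j => Module.finrank k (LinearMap.range (y ^ j)) with hρ
  set δ : ℕ → ℕ := fun j => Module.finrank k (LinearMap.ker y ⊓ LinearMap.range (y ^ j) :
    Submodule k M) with hδ
  have h1 : ∀ j, ρ j = ρ (j + 1) + δ j := fun j => by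
    have := LinearMap.finrank_range_add_finrank_ker (y.domRestrict (LinearMap.range (y ^ j)))
    rw [LinearMap.range_domRestrict, ← LinearMap.range_comp, LinearMap.ker_domRestrict,
      ← Submodule.finrank_map_subtype_eq _ (Submodule.comap _ _), Submodule.map_comap_subtype,
      inf_comm, ← Module.End.mul_eq_comp, ← pow_succ'] at this
    exact this.symm
  have h2 : ∀ j, LinearMap.ker y ⊓ LinearMap.range (y ^ (j + 1)) ≤
      LinearMap.ker y ⊓ LinearMap.range (y ^ j) := fun j =>
    inf_le_inf_left _ (by rw [pow_succ]; exact LinearMap.range_comp_le_range _ _)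
  have h3 : Antitone δ := antitone_nat_of_succ_le fun j => Submodule.finrank_mono (h2 j)
  have h4 : ρ p = 0 := by simp [hρ, hy]
  have e0 : LinearMap.range (y ^ 0) = ⊤ := by rw [pow_zero]; exact LinearMap.range_id
  have h5 : ρ 0 = r + 1 + m * p := by
    simp only [hρ]
    rw [← hd, e0, finrank_top]
  obtain ⟨q, rfl⟩ : ∃ q, p = q + 1 := ⟨p - 1, by omega⟩
  have h6 : δ 0 ≤ δ q + 1 := by
    have a1 : LinearMap.ker (y ^ q) ≤ (k ∙ v) ⊔ LinearMap.range y := fun w hw => by
      obtain ⟨c, hc⟩ := hv w hw
      rw [← add_sub_cancel (c • v) w]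
      exact Submodule.add_mem_sup (Submodule.smul_mem _ _ (Submodule.mem_span_singleton_self v)) hc
    have a2 := (Submodule.finrank_mono a1).trans
      (Submodule.finrank_add_le_finrank_add_finrank _ _)
    have a3 : Module.finrank k (k ∙ v) ≤ 1 := by
      simpa using finrank_span_le_card (R := k) ({v} : Set M)
    have a4 := LinearMap.finrank_range_add_finrank_ker (y ^ q)
    have a5 := h1 0
    have a6 := h1 q
    simp only [hρ, zero_add] at a5 a6 h4 h5
    rw [pow_one] at a5
    omega
  have h7 : ∀ j, ρ 0 = ρ j + ∑ i ∈ Finset.range j, δ i := fun j => by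
    induction j with
    | zero => simp
    | succ j ih => rw [Finset.sum_range_succ, ih, h1 j]; ring
  have h8 : ∀ j, ρ j ≤ (q + 1 - j) * δ j ∧ (q + 1 - j) * δ q ≤ ρ j := fun j => by
    rcases le_or_gt (q + 1) j with h | h
    · simp [hρ, pow_eq_zero_of_le h hy, Nat.sub_eq_zero_of_le h]
    obtain ⟨l, hl⟩ : ∃ l, q + 1 = j + l := Nat.exists_eq_add_of_le h.le
    rw [show q + 1 - j = l by omega]
    clear h
    induction l generalizing j with
    | zero => simp [← show q + 1 = j from hl, h4]
    | succ l ih =>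
      obtain ⟨a1, a2⟩ := ih (j + 1) (by omega)
      have a3 := Nat.mul_le_mul_left l (h3 j.le_succ)
      have a4 := h3 (show j ≤ q by omega)
      rw [h1 j, add_mul, add_mul]
      constructor <;> simp only [Nat.succ_eq_add_one] at a3 <;> omega
  have h9 : ∀ j, j * δ j ≤ ∑ i ∈ Finset.range j, δ i ∧ ∑ i ∈ Finset.range j, δ i ≤ j * δ 0 :=
    fun j => ⟨by
      simpa using Finset.card_nsmul_le_sum (Finset.range j) δ (δ j)
        fun i hi => h3 (Finset.mem_range.mp hi).le, by
      simpa using Finset.sum_le_card_nsmul (Finset.range j) δ (δ 0) fun i _ => h3 i.zero_le⟩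
  have hq : δ q = m := by
    have a1 := (h8 0).2
    have a2 := h7 q
    have a3 := (h9 q).2
    have a4 := (h8 q).1
    have a5 := Nat.mul_le_mul_left q h6
    rw [Nat.sub_zero, h5] at a1
    rw [Nat.add_sub_cancel_left, one_mul] at a4
    apply le_antisymm
    · by_contra! h
      have := Nat.mul_le_mul_left (q + 1) (show m + 1 ≤ δ q from h)
      nlinarith
    · by_contra! h
      have := Nat.mul_le_mul_left (q + 1) (show δ q + 1 ≤ m from h)
      nlinarith
  have hr1 : δ r = m + 1 := by
    have a1 := h3 r.zero_le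
    refine le_antisymm (by omega) (not_lt.mp fun h => ?_)
    have a2 := (h8 r).1
    have a3 := h7 r
    have a4 := (h9 r).2
    have a5 := Nat.mul_le_mul_left r (show δ 0 ≤ m + 1 by omega)
    have a6 := Nat.mul_le_mul_left (q + 1 - r) (show δ r ≤ m by omega)
    obtain ⟨l, rfl⟩ : ∃ l, q = r + l := Nat.exists_eq_add_of_le (by omega)
    rw [show r + l + 1 - r = l + 1 by omega] at a2 a6
    nlinarith
  have h0 : δ 0 = m + 1 := by have := h3 r.zero_le; omega
  have hs : ∑ i ∈ Finset.range (r + 1), δ i = (r + 1) * (m + 1) := by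
    rw [Finset.sum_congr rfl (g := fun _ => m + 1) fun i hi => le_antisymm
      (h0 ▸ h3 i.zero_le) (hr1 ▸ h3 (Nat.lt_succ_iff.mp (Finset.mem_range.mp hi)))]
    simp
  have hρr : ρ (r + 1) = m * (q + 1 - (r + 1)) := by
    have a1 := h7 (r + 1)
    obtain ⟨l, rfl⟩ : ∃ l, q = r + l := Nat.exists_eq_add_of_le (by omega)
    rw [show r + l + 1 - (r + 1) = l by omega]
    rw [hs, h5] at a1
    nlinarith
  refine ⟨hρr, by simp only [hδ] at h0; rwa [e0, inf_top_eq] at h0, ?_⟩
  have hr2 : δ (r + 1) = m := by
    have a1 := h3 (show r + 1 ≤ q by omega)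
    refine le_antisymm (not_lt.mp fun h => ?_) (by omega)
    have a2 := h1 (r + 1)
    have a3 := (h8 (r + 2)).2
    obtain ⟨l, rfl⟩ : ∃ l, q = r + 1 + l := Nat.exists_eq_add_of_le (by omega)
    rw [show r + 1 + l + 1 - (r + 2) = l by omega, hq] at a3
    rw [show r + 1 + l + 1 - (r + 1) = l + 1 by omega] at hρr
    nlinarith
  obtain ⟨w, ⟨hw, u, rfl⟩, hw'⟩ := SetLike.exists_of_lt (lt_of_le_of_ne (h2 r) fun h => by
    have := congrArg (fun W : Submodule k M => Module.finrank k W) h
    change δ (r + 1) = δ r at this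
    omega)
  exact ⟨u, by rw [pow_succ']; exact hw, fun h => hw' ⟨hw, h⟩⟩

end Cfsg.Agent.H34
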