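import Cfsg.Agent.H34.BlauCore

/-! Faithful irreducible characters of degree less than `p - 1`. -/

set_option autoImplicit false
set_option linter.unusedSectionVars false

namespace Cfsg.Agent.H34

open Finset Matrix Polynomial Subgroup Cfsg Cfsg.Agent.H35

variable {G : Type*} [Group G] [Fintype G] {p : ℕ} [hp : Fact p.Prime] (S : Setup G p)

theorem bl_few_eigen {ζ : G → ℂ} (hζ : IsIrrCharacter G ζ) (hf : ∀ g : G, ζ g = ζ 1 → g = 1)
    (hd : charDegree ζ + 1 < p) (hp6 : 6 ≤ p) {C : Finset (ZMod p)} (hC : 2 * C.card ≤ p)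
    (h : ∀ c, c ∉ C → blM S ζ c = 0) : Nat.card (Sylow p G) ≤ p + 1 := by
  classical
  have hc := H5.isCharacter_of_isIrr hζ
  obtain ⟨O, _, _, _, ι, n, -, A, -, ω, hι, hpu, hA, -, -, hω⟩ :=
    exists_realization hp.out hζ hc (isIntegral_ech (p := p) 1)
  let r := IsLocalRing.residue O
  have : CharP (IsLocalRing.ResidueField O) p := (CharP.charP_iff_prime_eq_zero hp.out).mpr (by
    rw [← map_natCast r, IsLocalRing.residue_eq_zero_iff]; exact hpu)
  obtain rfl : charDegree ζ = n := charDegree_eq (by rw [← hA]; simp)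
  have h1 : ∑ c ∈ C, blE S (blMap ι A) c = 1 := by
    rw [← sum_blE S (blMap ι A), ← sum_subset (subset_univ C) fun c _ hc => by_contra fun h0 =>
      bl_trace_ne_zero (by rw [blE_mul_blE, if_pos rfl]) h0 (by
        simpa only [trace_blE, trace_blMap, hA] using h c hc)]
  have h2 := blG_mul S hω A C
  rw [h1, mul_one] at h2
  replace h2 : aeval (A S.x - 1) (blG ω C) = 0 := by
    ext i j; exact hι (by simpa using congrFun₂ h2 i j)
  have h3 : ∃ s, (blRep r A S.x - 1) ^ s = 0 ∧ s ≤ C.card := ⟨_, LinearMap.ext fun w => by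
    have := map_aeval_eq_aeval_map (φ := r) (ψ := r.mapMatrix (m := Fin (charDegree ζ)))
      (by ext; simp [algebraMap_eq_diagonal, diagonal_apply, apply_ite r]) (blG ω C) (A S.x - 1)
    rw [h2, blG_map r hι hω, map_zero, map_pow, aeval_X, ← map_pow] at this
    rw [blRep_pow, show ((A S.x - 1) ^ C.card).map r = 0 from this.symm, zero_mulVec]; rfl, le_rfl⟩
  obtain ⟨h4, h5⟩ := Nat.find_spec h3
  by_cases h6 : 2 ≤ Nat.find h3
  · obtain ⟨m, hm⟩ := Nat.exists_eq_add_of_le' h6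
    exact S.card_sylow_le_of_small (blRep r A) (by simp; omega) (m := m) (hm ▸ h4)
      (fun e => Nat.find_min h3 (m := m + 1) (by omega) ⟨e, by omega⟩) (by omega) (Or.inl hp6)
      (S.le_normalizer_of_normal hc hf hd)
  have hx : S.x ∈ (blRep r A).ker := sub_eq_zero.mp (by
    simpa using pow_eq_zero_of_le (by omega : Nat.find h3 ≤ 1) h4)
  have h7 : IsPGroup p (blRep r A).ker := IsPGroup.iff_card.mpr
    ⟨_, Nat.eq_prime_pow_of_unique_prime_dvd Nat.card_pos.ne' fun {q} hq hd => by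
      by_contra hne
      have := Fact.mk hq
      obtain ⟨⟨g, hg⟩, hg'⟩ := exists_prime_orderOf_dvd_card' q hd
      replace hg' : orderOf g = q := (orderOf_coe ⟨g, hg⟩).trans hg'
      replace hg : r.mapMatrix (A g) = 1 := ext_iff_mulVec.mpr fun z =>
        (LinearMap.congr_fun hg z).trans (one_mulVec z).symm
      have h4 : IsUnit (∑ j ∈ range q, A g ^ j) := by
        rw [isUnit_iff_isUnit_det, ← IsLocalRing.residue_ne_zero_iff_isUnit, RingHom.map_det,
          map_sum, sum_congr rfl fun j _ => by rw [map_pow, hg, one_pow], sum_const, card_range,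
          ← Nat.cast_smul_eq_nsmul (IsLocalRing.ResidueField O), det_smul, det_one, mul_one]
        exact pow_ne_zero _ fun h => hne ((Nat.prime_dvd_prime_iff_eq hp.out hq).mp
          ((CharP.cast_eq_zero_iff _ p _).mp h)).symm
      have h5 := mul_geom_sum (A g) q
      rw [← map_pow, ← hg', pow_orderOf_eq_one, map_one, sub_self, hg', h4.mul_left_eq_zero,
        sub_eq_zero] at h5
      rw [hf g (by rw [← hA, ← hA, h5, map_one]), orderOf_one] at hg'
      exact hq.ne_one hg'.symm⟩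
  obtain ⟨P, hP⟩ := exists_sylow_eq_zpowers S.hx S.hsq
  rw [S.normalClosure_le_of_le hx ((h7.le_sylow_of_normal P).trans (hP ▸ le_normalizer))]
  omega

theorem bl_plus_supp {χ θ} (B : S.Blk (θ : IrrCharacter S.V)) (hY : χ ∈ B.Y) (hε : B.ε = 1)
    (hd : charDegree (χ : G → ℂ) = S.V.index * charDegree (θ : S.V → ℂ)) :
    ∃ C : Finset (ZMod p), C.card = S.V.index ∧ 0 ∉ C ∧ ∀ c, c ∉ C → blM S χ c = 0 := by
  classical
  have hc := H5.isCharacter_of_isIrr χ.2
  have hcl := H5.isClassFunction_of_isIrr χ.2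
  choose n hn using fun (θ : IrrCharacter S.V) c =>
    S.exists_nat_mult (H5.isCharacter_of_isIrr θ.2) hc c
  obtain ⟨m, h1, h2⟩ := exists_blM S hc
  have h3 : m (B.α χ) = ∑ θ, n θ (B.α χ) * charDegree (θ : S.V → ℂ) := Nat.cast_injective (R := ℂ) (by
    have h := fun i => S.apply_eq_sum_psi hcl i 1
    simp only [OneMemClass.coe_one, mul_one] at h
    simp only [← h1, blM, Nat.cast_sum, Nat.cast_mul, ← hn, ← cast_degree_irr, Setup.mult, h,
      sum_mul, mul_sum]
    rw [sum_comm]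
    exact sum_congr rfl fun _ _ => sum_congr rfl fun _ _ => by ring)
  have h4 := fourier_sub (f := fun c => n θ c)
    (g := fun c => if ∃ h ∈ S.autH θ, c = B.α χ * h then (B.ε : ℂ) else 0) (fun i hi => by
      simp only [← hn, ← Setup.psi_eq_sum_mult, B.psiY χ hY i hi, ite_mul, zero_mul, mul_sum]
      exact (sum_ite_orbit (S.autH θ) (B.α χ) fun a => (B.ε : ℂ) * ech p (a * i)).symm) (B.α χ)
  rw [if_pos ⟨1, one_mem _, by simp⟩, if_neg fun ⟨h, _, e⟩ =>
    mul_ne_zero (B.α χ).ne_zero h.ne_zero e.symm, hε, sub_zero, sub_eq_iff_eq_add] at h4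
  have h5 : charDegree (θ : S.V → ℂ) ≤ m (B.α χ) := h3 ▸ (Nat.le_mul_of_pos_left _ (by
    have : n θ (B.α χ) = 1 + n θ 0 := by exact_mod_cast h4
    omega)).trans (single_le_sum (f := fun θ => n θ (B.α χ) * charDegree (θ : S.V → ℂ))
      (fun _ _ => Nat.zero_le _) (mem_univ θ))
  set C := univ.filter fun c : ZMod p => ∃ h ∈ S.autH fun _ => 1, c = B.α χ * h with hC
  have h6 : C.card = S.V.index := by
    have := sum_ite_orbit (S.autH fun _ => 1) (B.α χ) fun _ => 1
    rwa [sum_const, card_univ, ← Nat.card_eq_fintype_card, S.card_autH_one, smul_eq_mul, mul_one,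
      sum_boole, Nat.cast_id] at this
  refine ⟨C, h6, fun h => ?_, fun c hc => ?_⟩
  · obtain ⟨h, -, e⟩ := (mem_filter.mp h).2
    exact mul_ne_zero (B.α χ).ne_zero h.ne_zero e.symm
  rw [← sum_add_sum_compl C, sum_congr rfl (g := fun _ => m (B.α χ)) fun c h => by
    obtain ⟨_, ⟨l, -, rfl⟩, rfl⟩ := (mem_filter.mp h).2
    exact Nat.cast_injective (R := ℂ) (by rw [← h1, ← h1, blM_mul S hcl]), sum_const, h6, hd,
    smul_eq_mul] at h2
  have := Nat.mul_le_mul_left S.V.index h5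
  rw [h1, sum_eq_zero_iff.mp (show ∑ c ∈ Cᶜ, m c = 0 by omega) c (mem_compl.mpr hc), Nat.cast_zero]

theorem bl_index_eq {ζ : G → ℂ} (hζ : IsIrrCharacter G ζ) (hf : ∀ g : G, ζ g = ζ 1 → g = 1)
    (hd : charDegree ζ + S.V.index = p) (he : 2 ≤ S.V.index) (h0 : blM S ζ 0 = 1) {H : Subgroup G}
    [H.Normal] [Fintype H] (hH : commutator H = ⊤) (hx : S.x ∈ H) (T : Setup H p)
    (hT : T.x = ⟨S.x, hx⟩) : S.V.index ≤ T.V.index := by
  classical
  have hc := H5.isCharacter_restrict (H5.isCharacter_of_isIrr hζ) H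
  choose n hn using fun χ : IrrCharacter H =>
    H5.exists_nat_classInner hc (H5.isCharacter_of_isIrr χ.2)
  choose m hm _ using fun χ : IrrCharacter H => exists_blM T (H5.isCharacter_of_isIrr χ.2)
  have h1 : ∑ χ, n χ * m χ 0 = 1 := Nat.cast_injective (R := ℂ) (by
    have h := fun i => H5.classFunction_apply_eq_sum (H5.isClassFunction_of_isCharacter hc) (T.xp i)
    simp only [Setup.xp, hT, SubmonoidClass.coe_pow] at h
    simp only [Nat.cast_one, ← h0, blM, Nat.cast_sum, Nat.cast_mul, ← hn, ← hm, Setup.xp, hT, h,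
      sum_mul, mul_sum]
    rw [sum_comm]
    exact sum_congr rfl fun _ _ => sum_congr rfl fun _ _ => by ring)
  obtain ⟨χ, -, h2⟩ := exists_ne_zero_of_sum_ne_zero (h1 ▸ one_ne_zero)
  have h3 : classInner (fun h : H => ζ h) χ ≠ 0 := by
    rw [hn]; exact Nat.cast_ne_zero.mpr (left_ne_zero_of_mul h2)
  have h4 : charDegree (χ : H → ℂ) ≤ charDegree ζ := by
    simpa [charDegree] using sum_degree_le hc {χ} (by simpa using h3)
  by_cases h5 : (χ : H → ℂ) T.x = (χ : H → ℂ) 1
  · have h6 : m χ 0 = charDegree (χ : H → ℂ) := Nat.cast_injective (R := ℂ) (by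
      have : ∀ i, (χ : H → ℂ) (T.xp i) = (χ : H → ℂ) 1 := fun i =>
        pow_mem (S := H5.charKer (H5.isCharacter_of_isIrr χ.2)) h5 _
      simp [← hm, blM, this, cast_degree_irr, hp.out.ne_zero])
    have h7 := (Nat.le_mul_of_pos_left _ (Nat.pos_of_ne_zero (left_ne_zero_of_mul h2))).trans
      (h1 ▸ single_le_sum (f := fun χ => n χ * m χ 0) (fun _ _ => Nat.zero_le _) (mem_univ χ))
    obtain rfl := eq_triv_of_degree_one hH (χ := χ) (by have := degree_pos χ; omega)
    have h8 := H6.res_eq_smul_of_invariant H hζ (triv H).2 h3 fun _ => rfl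
    exact absurd (by rw [← S.hx, hf S.x ((congrFun h8 ⟨_, hx⟩).trans (congrFun h8 1).symm),
      orderOf_one]) hp.out.ne_one
  obtain ⟨θ, B, hY, ⟨a, b⟩ | ⟨-, -, -, a, -⟩⟩ := T.below_pred (χ := χ) (by omega) h5
  · obtain ⟨C, -, c1, c2⟩ := bl_plus_supp T B hY a b
    exact absurd (Nat.cast_eq_zero.mp ((hm χ 0).symm.trans (c2 0 c1))) (right_ne_zero_of_mul h2)
  · omega

theorem bl_psl2 (h1 : Nat.card (Sylow p G) = p + 1) (h2 : 2 * S.V.index = p - 1) (hp5 : 5 ≤ p)
    {H : Subgroup G} (h4 : commutator H = ⊤) (h5 : ∀ g, ∃ h ∈ H, ∃ v : S.V, g = h * (v : S.K))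
    (h6 : ∀ v : S.V, ((v : S.K) : G) ∈ center G) :
    Nonempty (G ⧸ center G ≃* ProjectiveSpecialLinearGroup (Fin 2) (ZMod p)) := by
  have h7 : ¬ p ∣ Nat.card (center G) := fun h => by
    have := S.normalClosure_le_of_le (S.x_mem_of_normal _ h) (center_le_normalizer _)
    omega
  have hc := (center G).card_eq_card_quotient_mul_card_subgroup
  obtain ⟨y, hy⟩ := exists_prime_orderOf_dvd_card' (G := G ⧸ center G) p
    ((hp.out.dvd_mul.mp (hc ▸ S.hx ▸ orderOf_dvd_natCard S.x)).resolve_right h7)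
  obtain ⟨T, -⟩ := exists_setup hy fun h => S.hsq (hc ▸ h.mul_right _)
  have : Group.IsPerfect H := ⟨h4⟩
  have hG : commutator (G ⧸ center G) = ⊤ := (Group.IsPerfect.ofSurjective
    (f := (QuotientGroup.mk' (center G)).comp H.subtype) fun c => by
      obtain ⟨g, rfl⟩ := QuotientGroup.mk_surjective c
      obtain ⟨h, hh, w, rfl⟩ := h5 g
      exact ⟨⟨h, hh⟩, QuotientGroup.eq.mpr (by simpa using h6 w)⟩).1
  obtain ⟨P, hP⟩ := exists_sylow_eq_zpowers S.hx S.hsq
  have h8 := H85.card_sylow_eq_mul (QuotientGroup.mk' (center G)) (QuotientGroup.mk'_surjective _) P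
  rw [QuotientGroup.ker_mk', H85.card_sylow_of_le P le_sup_left, relIndex_eq_one.mpr
    (sup_le P.1.le_normalizer (center_le_normalizer _) : _ ≤ normalizer (P : Set G)), mul_one, h1,
    eq_comm] at h8
  have h9 := T.pred_le_two_mul_index hG h8
  have h10 : Nat.card S.V ≤ Nat.card (center G) := Nat.card_le_card_of_injective
    (fun v => ⟨_, h6 v⟩) fun v w e => Subtype.ext (Subtype.ext (Subtype.mk.inj e))
  rw [S.card_eq, T.card_eq, h1, h8] at hc
  have h11 : Nat.card S.V * S.V.index = Nat.card T.V * T.V.index * Nat.card (center G) :=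
    Nat.eq_of_mul_eq_mul_left (Nat.mul_pos hp.out.pos p.add_one_pos) (by linear_combination hc)
  have h12 : Nat.card T.V * T.V.index ≤ S.V.index := Nat.le_of_mul_le_mul_right
    (by rw [← h11, mul_comm]; exact Nat.mul_le_mul_left _ h10) Nat.card_pos
  have h13 : Nat.card T.V = 1 := by
    rcases hi : Nat.card T.V with _ | _ | i
    · exact absurd hi Nat.card_pos.ne'
    · rfl
    · have := Nat.mul_le_mul_right T.V.index (by omega : 2 ≤ i + 1 + 1)
      rw [hi] at h12
      omega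
  rw [h13] at h12
  exact (T.psl2_of hG h13 (by omega) (by omega) h8).2

theorem bl_main {ζ : G → ℂ} (hζ : IsIrrCharacter G ζ) (hf : ∀ g : G, ζ g = ζ 1 → g = 1)
    (hd : charDegree ζ + 1 < p) (hp7 : 7 < p) (hn : Nat.card (Sylow p G) ≠ 1) :
    (Nonempty (G ⧸ center G ≃* ProjectiveSpecialLinearGroup (Fin 2) (ZMod p)) ∧
      (2 * charDegree ζ = p + 1 ∨ 2 * charDegree ζ = p - 1) ∧ 2 * S.V.index = p - 1) ∨
    charDegree ζ + S.V.index = p ∧ (S.V.index = 2 ∨
      S.V.index * (S.V.index + 3) ≤ p - 1 ∧ ¬ Odd (Nat.card (center G))) := by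
  classical
  have hc := H5.isCharacter_of_isIrr hζ
  have hH := S.perfect_normalClosure hc hf hd hn
  set H := normalClosure ({S.x} : Set G)
  have := Fintype.ofFinite H
  have hx : S.x ∈ H := subset_normalClosure rfl
  obtain ⟨T, hT⟩ := S.exists_setup_sub hx
  have h1 := S.index_mul_index hx T hT
  have h2 : T.V.index ≤ S.V.index := Nat.le_of_dvd (Nat.pos_of_ne_zero index_ne_zero_of_finite)
    ⟨_, h1.symm⟩
  by_cases h3 : 2 * charDegree ζ ≤ p
  · obtain ⟨-, a, b, -⟩ := S.small_degree hc hf h3 hn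
    exact Or.inl ⟨S.psl2_of_small_degree hc hf h3 hn, Or.inr b, a⟩
  have hx1 : ζ S.x ≠ ζ 1 := fun e => hp.out.ne_one (by rw [← S.hx, hf _ e, orderOf_one])
  have he := lt_of_dvd_pred S.index_dvd_pred
  obtain ⟨θ, B, hY, ⟨a1, a2⟩ | ⟨a1, a2, a3, a4, a5⟩⟩ := S.below_pred (χ := ⟨ζ, hζ⟩) hd hx1
  · obtain ⟨C, c1, -, c2⟩ := bl_plus_supp S B hY a1 a2
    change charDegree ζ = _ at a2
    obtain b | b : charDegree (θ : S.V → ℂ) = 1 ∨ 2 ≤ charDegree (θ : S.V → ℂ) := by
      have := degree_pos θ; omega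
    · obtain ⟨t, ht⟩ := S.index_dvd_pred
      rw [b, mul_one] at a2
      rcases t with _ | _ | t <;> [omega; omega; (simp only [mul_add] at ht; omega)]
    have b1 := Nat.mul_le_mul_left S.V.index b
    have b2 := T.pred_le_two_mul_index hH ((S.card_sylow_normal hx).trans
      (Setup.card_sylow_eq_of_le hn (bl_few_eigen S hζ hf hd (by omega) (C := C) (by omega) c2)))
    omega
  change charDegree ζ + _ = p at a4
  obtain ⟨lam, hl⟩ := H5.exists_monoidHom_of_degree_one (H5.isCharacter_of_isIrr θ.2)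
    (by rw [cast_degree_irr, a3, Nat.cast_one])
  have hV : ∀ v : S.V, ((v : S.K) : G) ∈ center G := fun v => mem_center_of_norm hc hf (by
    rw [show ζ _ = _ from a5 v, norm_mul, hl, H5.norm_monoidHom, mul_one, cast_degree hc])
  obtain ⟨θ, hθ⟩ := θ
  obtain rfl : θ = _ := hl
  obtain ⟨m, b1, b2⟩ := blM_neg a2 B hY a1
  obtain rfl : m = 0 := by
    rw [show charDegree _ + _ = p from a4] at b1
    simpa [mul_add, hp.out.ne_zero] using b1
  have b3 := le_antisymm h2 (bl_index_eq S hζ hf a4 (by omega)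
    (by simpa [zero_not_mem_blOrb] using b2 0) hH hx T hT)
  have b4 := S.exists_mul_V hx (by
    rw [b3] at h1; exact (Nat.mul_eq_left index_ne_zero_of_finite).mp h1)
  have b5 := isIrr_restrict_of_center hζ H fun g =>
    let ⟨a, ha, v, e⟩ := b4 g; ⟨a, ha, _, hV v, e⟩
  have b6 : ∀ v : T.V, (((v : T.K) : H) : G) ∈ center G := fun v => by
    obtain ⟨w, hw⟩ := S.exists_eq_of_regular (c := ((v : T.K) : H))
      (by simpa [hT] using (T.commute_x v).map H.subtype) (by
        rw [orderOf_coe]; exact T.not_dvd_orderOf _)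
    exact hw ▸ hV w
  have b7 : ∀ v : T.V, ((v : T.K) : H) ∈ center H := fun v =>
    mem_center_iff.mpr fun g => Subtype.ext (mem_center_iff.mp (b6 v) g)
  obtain ⟨θ, B', hY', ⟨c1, c2⟩ | ⟨c1, c2, c3, -⟩⟩ := T.below_pred (χ := ⟨_, b5⟩) hd (hT ▸ hx1)
  · obtain ⟨C, -, c3, c4⟩ := bl_plus_supp T B' hY' c1 c2
    have := c4 0 c3
    simp only [blM, Setup.xp, hT, SubmonoidClass.coe_pow] at this
    simpa [zero_not_mem_blOrb] using (b2 0).symm.trans this
  obtain ⟨μ, hl⟩ := H5.exists_monoidHom_of_degree_one (H5.isCharacter_of_isIrr θ.2)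
    (by rw [cast_degree_irr, c3, Nat.cast_one])
  obtain ⟨θ, hθ'⟩ := θ
  obtain rfl : θ = _ := hl
  obtain ⟨d1, d2⟩ := bl_core c2 B' hH (fun g hg => Subtype.ext (hf g hg)) b7 hY' c1 (b3 ▸ a4)
    (by omega) hp7
  rw [b3, S.card_sylow_normal hx] at d1
  rw [b3] at d2
  by_cases d3 : 2 * S.V.index = p - 1
  · exact Or.inl ⟨bl_psl2 S (Setup.card_sylow_eq_of_le hn (d1 d3)) d3 (by omega) hH b4 hV,
      Or.inl (by omega), d3⟩
  refine Or.inr ⟨a4, or_iff_not_imp_left.mpr fun d4 => ?_⟩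
  obtain ⟨d5, d6⟩ := d2 (by omega) d3
  exact ⟨d5, fun h => d6 _ h fun v => Subtype.ext (Subtype.ext (Subtype.ext
    (congrArg Subtype.val (pow_card_eq_one' (x := (⟨_, b6 v⟩ : center G))) :)))⟩

theorem bl_setup {G : Type*} [Group G] [Finite G] (P : Sylow p G) (hP : Nat.card P = p)
    (hnn : ¬ (P : Subgroup G).Normal) : ∃ S : Setup G p, Nat.card (Sylow p G) ≠ 1 ∧
      Nat.card {c : ConjClasses G // ∃ g : G, ConjClasses.mk g = c ∧ orderOf g = p} *
        S.V.index = p - 1 := by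
  obtain ⟨x, hx, -⟩ := exists_zpowers_eq_of_card hp.out hP
  obtain ⟨S, rfl⟩ := exists_setup hx (not_sq_dvd_of_sylow P hP)
  refine ⟨S, fun h => hnn ?_, S.relIndex_eq ▸ card_classes_mul_relIndex S.hx S.hsq⟩
  exact normalizer_eq_top_iff.mp (index_eq_one.mp (P.card_eq_index_normalizer ▸ h))

end Cfsg.Agent.H34
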