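import Cfsg.Agent.H34.BlauAlt

/-! Modules for a group with a Sylow subgroup of order `p`: weights, and the tensor square of a
module on which the Sylow subgroup has a single Jordan block. -/

set_option autoImplicit false
set_option linter.unusedSectionVars false

namespace Cfsg.Agent.H34

open Finset Module Polynomial Subgroup Cfsg.Agent.H35

variable {k G M L : Type*} [Field k] [Group G] [Finite G] [AddCommGroup M] [Module k M]
  [AddCommGroup L] [Module k L] {p : ℕ} [hp : Fact p.Prime] [CharP k p] (S : Setup G p)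

variable (k) in
/-- the action of `K` on the Sylow subgroup as a linear character -/
def blKap : S.K →* k := ((ZMod.castHom dvd_rfl k).toMonoidHom.comp (Units.coeHom _)).comp S.κ

omit [Finite G] in
theorem blKap_apply (l : S.K) : blKap k S l = ((S.κ l : ZMod p).val : k) :=
  (ZMod.natCast_val _).symm

variable (k) in
/-- a generator of the augmentation ideal that is an eigenvector of `K` -/
noncomputable def blP : k[X] :=
  ∑ l : S.K, C ((Nat.card S.K : k)⁻¹ * blKap k S l⁻¹) * ((X + 1) ^ (S.κ l : ZMod p).val - 1)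

theorem blP_eq : ∃ P : k[X], blP k S = X + X ^ 2 * P := by
  have h : (Nat.card S.K : k) ≠ 0 := fun h => S.cop ((CharP.cast_eq_zero_iff k p _).mp h)
  obtain ⟨P, hP⟩ : X ^ 2 ∣ blP k S - X := X_pow_dvd_iff.mpr fun i hi => by
    simp only [blP, coeff_sub, finsetSum_coeff, coeff_C_mul, coeff_X_add_one_pow]
    interval_cases i
    · simp
    · simp only [Nat.choose_one_right, ← blKap_apply, coeff_one, one_ne_zero, if_false, sub_zero,
        mul_assoc, ← map_mul, inv_mul_cancel, map_one, sum_const, card_univ, coeff_X_one,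
        ← Nat.card_eq_fintype_card, nsmul_eq_mul, mul_one, mul_inv_cancel₀ h, sub_self]
  exact ⟨P, by rw [← hP]; ring⟩

/-- the operator of `blP` -/
noncomputable def blY (ρ : G →* End k M) : End k M := aeval (ρ S.x - 1) (blP k S)

theorem blY_conj (ρ : G →* End k M) (l : S.K) :
    ρ l * blY S ρ = blKap k S l • (blY S ρ * ρ l) := by
  simp only [blY, blP, map_sum, map_mul, aeval_C, map_sub, map_pow, map_add, aeval_X, map_one,
    sub_add_cancel, smul_smul, mul_sum, sum_mul, smul_sum,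
    Algebra.algebraMap_eq_smul_one, smul_mul_assoc, one_mul, mul_smul_comm]
  simp only [← map_pow]
  refine Fintype.sum_equiv (Equiv.mulLeft l) _ _ fun l' => ?_
  have h : ρ l * ρ (S.xp (S.κ l')) = ρ (S.xp (S.κ (l * l'))) * ρ l := by
    rw [map_mul S.κ, Units.val_mul, ← S.conj_xp, ← map_mul, ← map_mul, inv_mul_cancel_right]
  rw [Equiv.coe_mulLeft, mul_sub, sub_mul, mul_one, one_mul, _root_.mul_inv_rev, map_mul]
  congr 1
  · have : blKap k S l * blKap k S l⁻¹ = 1 := by rw [← map_mul, mul_inv_cancel, map_one]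
    linear_combination (-(Nat.card S.K : k)⁻¹ * blKap k S l'⁻¹) * this
  · exact congrArg (· - _) h

theorem blY_unit (ρ : G →* End k M) :
    ∃ u, IsUnit u ∧ Commute (ρ S.x - 1) u ∧ blY S ρ = (ρ S.x - 1) * u := by
  obtain ⟨P, hP⟩ := blP_eq (k := k) S
  have hc : Commute (ρ S.x - 1) (aeval (ρ S.x - 1) P) := by
    simpa using (Commute.all X P).map (aeval (ρ S.x - 1))
  refine ⟨1 + (ρ S.x - 1) * aeval (ρ S.x - 1) P, IsNilpotent.isUnit_one_add
    (hc.isNilpotent_mul_right ⟨p, ito_sub_one_pow_char ρ S.hx⟩),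
    (Commute.one_right _).add_right ((Commute.refl _).mul_right hc), ?_⟩
  simp [blY, hP, mul_add, sq, mul_assoc]

theorem blY_range (ρ : G →* End k M) (j : ℕ) :
    LinearMap.range (blY S ρ ^ j) = LinearMap.range ((ρ S.x - 1) ^ j) := by
  obtain ⟨u, hu, hc, h⟩ := blY_unit S ρ
  rw [h, hc.mul_pow, End.mul_eq_comp, LinearMap.range_comp_of_range_eq_top]
  exact LinearMap.range_eq_top.mpr ((End.isUnit_iff _).mp (hu.pow j)).2

theorem blY_ker (ρ : G →* End k M) (j : ℕ) (w : M) :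
    (blY S ρ ^ j) w = 0 ↔ ((ρ S.x - 1) ^ j) w = 0 := by
  obtain ⟨u, hu, hc, h⟩ := blY_unit S ρ
  rw [h, hc.eq, hc.symm.mul_pow, End.mul_apply,
    map_eq_zero_iff _ ((End.isUnit_iff _).mp (hu.pow j)).1]

theorem blY_pow_wt (ρ : G →* End k M) {μ : S.K →* k} {w : M} (hw : ∀ l : S.K, ρ l w = μ l • w)
    (j : ℕ) (l : S.K) : ρ l ((blY S ρ ^ j) w) = (μ * blKap k S ^ j) l • (blY S ρ ^ j) w := by
  induction j with
  | zero => simp [hw]
  | succ j ih =>
    rw [pow_succ', End.mul_apply, ← End.mul_apply (ρ l), blY_conj, LinearMap.smul_apply,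
      End.mul_apply, ih, map_smul, smul_smul, pow_succ']
    congr 1
    simp only [MonoidHom.mul_apply]
    ring

omit [Finite G] in
theorem blKap_pow_index : blKap k S ^ S.V.index = 1 := MonoidHom.ext fun l => by
  rw [MonoidHom.pow_apply, ← map_pow]
  simp [blKap, MonoidHom.mem_ker.mp (S.V.pow_index_mem l)]

omit [Finite G] in
theorem bl_exists_gen : ∃ l : S.K, orderOf (S.κ l) = S.V.index := by
  obtain ⟨⟨_, l, rfl⟩, hl⟩ := IsCyclic.exists_ofOrder_eq_natCard (α := S.κ.range)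
  exact ⟨l, by rw [index_ker, ← hl]; exact (orderOf_mk _ _).symm⟩

omit [Finite G] in
theorem blKap_pow_iff {a b : ℕ} : blKap k S ^ a = blKap k S ^ b ↔ a ≡ b [MOD S.V.index] := by
  constructor
  · intro h
    obtain ⟨l, hl⟩ := bl_exists_gen S
    rw [← hl, ← pow_eq_pow_iff_modEq]
    have := DFunLike.congr_fun h l
    exact Units.ext ((ZMod.castHom dvd_rfl k).injective (by simpa [blKap] using this))
  · intro h
    rw [← Nat.div_add_mod a S.V.index, ← Nat.div_add_mod b S.V.index, h]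
    simp [pow_add, pow_mul, blKap_pow_index]

theorem bl_exists_kap {μ : S.K →* k} (h : ∀ v ∈ S.V, μ v = 1) : ∃ a, μ = blKap k S ^ a := by
  obtain ⟨l, hl⟩ := bl_exists_gen S
  have : NeZero S.V.index := ⟨index_ne_zero_of_finite⟩
  have h1 : IsPrimitiveRoot (blKap k S l) S.V.index :=
    (IsPrimitiveRoot.coe_units_iff.mpr (hl ▸ IsPrimitiveRoot.orderOf _)).map_of_injective
      (ZMod.castHom dvd_rfl k).injective
  obtain ⟨a, -, ha⟩ := h1.eq_pow_of_pow_eq_one (ξ := μ l)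
    (by rw [← map_pow, h _ (S.V.pow_index_mem l)])
  refine ⟨a, MonoidHom.ext fun l' => ?_⟩
  obtain ⟨n, hn⟩ : S.κ l' ∈ Submonoid.powers (S.κ l) := by
    rw [mem_powers_iff_mem_zpowers, eq_of_le_of_card_ge (zpowers_le.mpr ⟨l, rfl⟩ : _ ≤ S.κ.range)
      (by rw [Nat.card_zpowers, hl, index_ker])]
    exact ⟨l', rfl⟩
  have h2 : (l ^ n)⁻¹ * l' ∈ S.V := by
    rw [MonoidHom.mem_ker, map_mul, map_inv, map_pow, show S.κ l ^ n = _ from hn, inv_mul_cancel]
  generalize hv : (l ^ n)⁻¹ * l' = v at h2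
  rw [inv_mul_eq_iff_eq_mul.mp hv, map_mul, map_mul, h _ h2, map_pow, map_pow, ← ha]
  simp [blKap, MonoidHom.mem_ker.mp h2]

theorem bl_tensor [FiniteDimensional k L] {d : ℕ} (ρ : G →* End k L) (σ : G →* End k M)
    (τ : L →ₗ[k] L →ₗ[k] M) (hτ : ∀ g u v, σ g (τ u v) = τ (ρ g u) (ρ g v))
    (hs : ∀ W : Submodule k M, (∀ u v, τ u v ∈ W) → W = ⊤) (hL : finrank k L = d + 1)
    (hM : finrank k M = (d + 1) * (d + 1)) {w : L} (hw : ((ρ S.x - 1) ^ d) w ≠ 0)
    (hw' : ((ρ S.x - 1) ^ (d + 1)) w = 0) {ν : S.K →* k} (hν : ∀ l : S.K, ρ l w = ν l • w) :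
    ∃ β : Basis (Fin (d + 1) × Fin (d + 1)) k M, BlT β (blY S σ) S.V.index ∧
      BlT β (σ S.x - 1) 1 ∧ (∀ a, blWt (σ.comp S.K.subtype) (ν ^ 2 * blKap k S ^ a) =
        blSp β {n | n ≡ a [MOD S.V.index]}) ∧
      ∃ b : Fin (d + 1) → L, ∀ t, β t = τ (b t.1) (b t.2) := by
  set Y := blY S ρ with hY
  have h1 := (blY_ker S ρ _ w).mpr hw'
  let b := basisOfLinearIndependentOfCardEqFinrank
    (linearIndependent_chain h1 (mt (blY_ker S ρ _ w).mp hw)) (by simp [hL])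
  have hb : ∀ i, b i = (Y ^ (i : ℕ)) w := fun i =>
    congrFun (coe_basisOfLinearIndependentOfCardEqFinrank _ _) i
  have h2 : ∀ (i j : ℕ) (W : Submodule k M),
      (∀ a c : ℕ, τ ((Y ^ (i + a)) w) ((Y ^ (j + c)) w) ∈ W) →
      ∀ u v, τ ((Y ^ i) u) ((Y ^ j) v) ∈ W := fun i j W h u v => by
    rw [← b.sum_repr u, ← b.sum_repr v]
    simp only [map_sum, map_smul, LinearMap.sum_apply, LinearMap.smul_apply, hb, ← End.mul_apply,
      ← pow_add]
    exact W.sum_mem fun _ _ => W.smul_mem _ (W.sum_mem fun _ _ => W.smul_mem _ (h _ _))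
  have h3 : ∀ i, d + 1 ≤ i → (Y ^ i) w = 0 := fun i hi => pow_apply_eq_zero_of_le h1 hi
  let β := basisOfTopLeSpanOfCardEqFinrank
    (fun t : Fin (d + 1) × Fin (d + 1) => τ (b t.1) (b t.2)) (by
      refine (hs _ (h2 0 0 _ fun a c => ?_)).ge
      rw [zero_add, zero_add]
      rcases le_or_gt (d + 1) a with ha | ha
      · simp [h3 a ha]
      rcases le_or_gt (d + 1) c with hc | hc
      · simp [h3 c hc]
      exact Submodule.subset_span ⟨(⟨a, ha⟩, ⟨c, hc⟩), by simp only [hb]⟩) (by simp [hM])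
  have hβ : ∀ t, β t = τ (b t.1) (b t.2) := fun t =>
    congrFun (coe_basisOfTopLeSpanOfCardEqFinrank _ _ _) t
  have hB : ∀ i j, blB β i j = τ ((Y ^ i) w) ((Y ^ j) w) := fun i j => by
    unfold blB
    split_ifs with h
    · rw [hβ, hb, hb]
    · rcases not_and_or.mp h with h | h <;> simp [h3 _ (not_lt.mp h)]
  have h4 : ∀ {i j u v}, u ∈ LinearMap.range (Y ^ i) → v ∈ LinearMap.range (Y ^ j) →
      τ u v ∈ blSp β {n | i + j ≤ n} := by
    rintro i j _ _ ⟨u, rfl⟩ ⟨v, rfl⟩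
    exact h2 i j _ (fun a c => hB _ _ ▸ blB_mem β (by simp only [Set.mem_ofPred_eq]; omega)) u v
  obtain ⟨P, hP⟩ := blP_eq (k := k) S
  have h5 : ∀ i, (ρ S.x - 1) ((Y ^ i) w) - (Y ^ (i + 1)) w ∈ LinearMap.range (Y ^ (i + 2)) :=
    fun i => by
      obtain ⟨u, hu⟩ : (Y ^ i) w ∈ LinearMap.range ((ρ S.x - 1) ^ i) :=
        blY_range S ρ i ▸ LinearMap.mem_range_self _ w
      have hc : Commute ((ρ S.x - 1) ^ i) (aeval (ρ S.x - 1) P) := by
        simpa using (Commute.all (X ^ i) P).map (aeval (ρ S.x - 1))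
      rw [blY_range, pow_succ' Y, End.mul_apply, ← hu, hY, blY, hP, add_comm i, pow_add]
      refine ⟨-aeval (ρ S.x - 1) P u, ?_⟩
      simp [LinearMap.congr_fun hc.eq u, ← End.mul_apply ((ρ S.x - 1) ^ i)]
  have h6 : BlT β (σ S.x - 1) 1 := ⟨fun t => by
    have a1 : ∀ i, (Y ^ i) w ∈ LinearMap.range (Y ^ i) := fun i => LinearMap.mem_range_self _ w
    have a2 : ∀ i, (ρ S.x - 1) ((Y ^ i) w) ∈ LinearMap.range (Y ^ (i + 1)) := fun i => by
      simpa using add_mem (bl_range_anti Y (i + 1).le_succ (h5 i)) (a1 (i + 1))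
    have a3 := add_mem (add_mem (h4 (h5 t.1) (a1 t.2))
      (by rw [add_right_comm, add_assoc]; exact h4 (a1 t.1) (h5 t.2)))
      (by rw [show (t.1 : ℕ) + 2 + t.2 = t.1 + 1 + (t.2 + 1) by omega]; exact h4 (a2 t.1) (a2 t.2))
    rw [add_right_comm (t.1 : ℕ)] at a3
    convert a3 using 1
    simp only [hB, hβ, hb, LinearMap.sub_apply, hτ, map_sub, End.one_apply]
    abel, fun t => mem_blSp_univ β (fun n => Nat.modEq_one) _⟩
  have h7 : ∀ (l : S.K) t, σ l (β t) = (ν ^ 2 * blKap k S ^ ((t.1 : ℕ) + t.2)) l • β t :=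
    fun l t => by
      rw [hβ, hτ, hb, hb, blY_pow_wt S ρ hν, blY_pow_wt S ρ hν, map_smul, map_smul,
        LinearMap.smul_apply, smul_smul]
      congr 1
      simp only [MonoidHom.mul_apply, MonoidHom.pow_apply]
      ring
  have h8 : ∀ a, blWt (σ.comp S.K.subtype) (ν ^ 2 * blKap k S ^ a) =
      blSp β {n | n ≡ a [MOD S.V.index]} := fun a => by
    refine le_antisymm (fun m hm => (mem_blSp β).mpr fun t ht => (blKap_pow_iff (k := k) S).mp
      (MonoidHom.ext fun l => ?_)) (Submodule.span_le.mpr ?_)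
    · have a1 : β.coord t ∘ₗ σ l = (ν ^ 2 * blKap k S ^ ((t.1 : ℕ) + t.2)) l • β.coord t :=
        β.ext fun t' => by
          rw [LinearMap.comp_apply, h7, map_smul, LinearMap.smul_apply, Basis.coord_apply,
            β.repr_self, Finsupp.single_apply]
          split_ifs with h <;> simp [h]
      have a2 := LinearMap.congr_fun a1 m
      rw [LinearMap.comp_apply, show σ l m = _ from hm l, map_smul] at a2
      exact (mul_left_cancel₀ ((Group.isUnit l).map (ν ^ 2)).ne_zero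
        (mul_right_cancel₀ ht a2)).symm
    · rintro _ ⟨t, ht, rfl⟩ l
      rw [← (blKap_pow_iff S).mpr ht]
      exact h7 l t
  refine ⟨β, ⟨fun t => ?_, fun t => ?_⟩, h6, h8, b, hβ⟩
  · have := add_mem (h6.step t) (h6.pow_mem_ge 2 (aeval_apply_smul_mem_of_le_comap
      (blB_mem β (T := {n | (t.1 : ℕ) + t.2 ≤ n}) (le_refl ((t.1 : ℕ) + t.2))) P (σ S.x - 1)
      fun m hm => blSp_mono β (fun n (hn : _ ≤ n) => le_trans (Nat.le_succ _) hn)
        (h6.pow_mem_ge 1 hm)))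
    convert this using 1
    simp only [blY, hP, map_add, map_mul, map_pow, aeval_X, LinearMap.add_apply, End.mul_apply,
      blB_coe]
    abel
  · rw [← h8, pow_succ (blKap k S), ← mul_assoc]
    have := blY_pow_wt S σ (fun l => h7 l t) 1
    rw [pow_one, pow_one] at this
    exact this

omit hp [CharP k p] in
theorem bl_eigen_block {J : Type*} [Fintype J] [DecidableEq S.K] (η : J → S.K →* k) {c : k}
    (hc : c ≠ 0) (hη : ∀ g, ∑ j, η j g = if g = 1 then c else 0) (ρ : G →* End k M) {i : ℕ} {v : M}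
    (hv : ((ρ S.x - 1) ^ (i + 1)) v = 0)
    (hv' : ((ρ S.x - 1) ^ i) v ∉ LinearMap.range ((ρ S.x - 1) ^ (i + 1))) :
    ∃ j w, ((ρ S.x - 1) ^ (i + 1)) w = 0 ∧
      ((ρ S.x - 1) ^ i) w ∉ LinearMap.range ((ρ S.x - 1) ^ (i + 1)) ∧
      ∀ l : S.K, ρ l w = η j l • w := by
  obtain ⟨j, w, h1, h2, h3⟩ := bl_exists_eigen η hc hη (ρ.comp S.K.subtype)
    (LinearMap.ker ((ρ S.x - 1) ^ (i + 1)))
    ((LinearMap.range ((ρ S.x - 1) ^ (i + 1))).comap ((ρ S.x - 1) ^ i))
    (fun l u hu => pow_apply_eq_zero_of_mem_normalizer ρ S.x (S.K_mem l) hu) hv hv'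
  exact ⟨j, w, h1, h2, h3⟩

omit [CharP k p] in
theorem bl_eigen_norm (ρ : G →* End k M) {μ : S.K → k} {w : M} (hw : ∀ l : S.K, ρ l w = μ l • w)
    {n : G} (hn : n ∈ normalizer ((zpowers S.x : Subgroup G) : Set G)) :
    ∃ c : k, ρ n w - c • w ∈ LinearMap.range (ρ S.x - 1) := by
  obtain ⟨i, l, rfl⟩ := S.exists_decomp hn
  rw [map_mul, End.mul_apply, hw]
  exact ⟨_, apply_sub_mem_range_of_mem_zpowers ρ S.x (S.xp_mem i) _⟩

theorem bl_small_block [FiniteDimensional k M] {J : Type*} [Fintype J] [DecidableEq S.K]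
    (η : J → S.K →* k) {c : k} (hc : c ≠ 0) (hη : ∀ g, ∑ j, η j g = if g = 1 then c else 0)
    (ρ : G →* End k M) (hy : (ρ S.x - 1) ^ (p - 1) = 0) {i : ℕ} (hi : i ≠ 0)
    (hi' : 2 * (i + 1) ≤ p) {v : M} (hv : ((ρ S.x - 1) ^ (i + 1)) v = 0)
    (hv' : ((ρ S.x - 1) ^ i) v ∉ LinearMap.range ((ρ S.x - 1) ^ (i + 1))) (hp6 : 6 ≤ p)
    (hI : ∀ R : Subgroup G, R.Normal → ¬ p ∣ Nat.card R →
      R ≤ normalizer ((zpowers S.x : Subgroup G) : Set G)) :
    Nat.card (Sylow p G) ≤ p + 1 := by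
  obtain ⟨j, w, h1, h2, h3⟩ := bl_eigen_block S η hc hη ρ hv hv'
  obtain ⟨φ, hφ1, hφ2⟩ := Submodule.exists_dual_map_eq_bot_of_notMem h2 inferInstance
  obtain ⟨π, hπ, ⟨u, hu⟩, hW⟩ := exists_proj ρ S.hx S.hsq hy h1 φ (fun z => by
    have : φ _ ∈ (LinearMap.range ((ρ S.x - 1) ^ (i + 1))).map φ := ⟨_, ⟨z, rfl⟩, rfl⟩
    rwa [hφ2] at this) hφ1 fun n hn => bl_eigen_norm S ρ h3 hn
  refine S.card_sylow_le_of_dim (Representation.subrepresentation ρ (LinearMap.range π) fun g => by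
    rintro _ ⟨z, rfl⟩
    exact ⟨ρ g z, (LinearMap.congr_fun (hπ g).eq z).symm⟩) (le_trans (Nat.mul_le_mul_left 2 ?_) hi')
    (fun h => h2 ⟨-u, ?_⟩) (Or.inl hp6) hI
  · refine (Submodule.finrank_mono (by rintro _ ⟨z, rfl⟩; exact hW z)).trans ?_
    exact (finrank_range_le_card (R := k) _).trans_eq (Fintype.card_fin _)
  · have h4 : (ρ S.x - 1) (π w) = 0 :=
      sub_eq_zero.mpr (congrArg Subtype.val (LinearMap.congr_fun h ⟨π w, w, rfl⟩))
    obtain ⟨i, rfl⟩ := Nat.exists_eq_succ_of_ne_zero hi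
    rw [pow_succ, End.mul_apply, map_neg, hu, neg_sub, map_sub, pow_succ, End.mul_apply _ _ (π w),
      h4, map_zero, sub_zero]

theorem bl_half [FiniteDimensional k M] {J : Type*} [Fintype J] [DecidableEq S.K]
    (η : J → S.K →* k) {c : k} (hc : c ≠ 0) (hη : ∀ g, ∑ j, η j g = if g = 1 then c else 0)
    (σ : G →* End k M) {d : ℕ} {β : Basis (Fin d × Fin d) k M} (h : BlT β (σ S.x - 1) 1)
    (hd : 5 ≤ d) (hpd : p + 1 = 2 * d) {s : End k M} (hs : ∀ t, s (β t) = β t.swap)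
    (hσ : ∀ g, Commute (σ g) s)
    (hI : ∀ R : Subgroup G, R.Normal → ¬ p ∣ Nat.card R →
      R ≤ normalizer ((zpowers S.x : Subgroup G) : Set G)) :
    Nat.card (Sylow p G) ≤ p + 1 := by
  classical
  obtain ⟨h1, z, h2, ⟨z', h3, h4⟩, h5⟩ := h.small_block hd (fun a h h' e =>
    (Nat.le_of_dvd (Nat.pos_of_ne_zero h) ((CharP.cast_eq_zero_iff k p a).mp e)).not_gt
      (by omega)) hs ((hσ _).sub_left (Commute.one_left _))
  have hW : ∀ v, v ∈ LinearMap.ker (s + 1) ↔ s v = -v := fun v => add_eq_zero_iff_eq_neg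
  let ρ : G →* End k (LinearMap.ker (s + 1)) := Representation.subrepresentation σ _ fun g v hv =>
    (hW _).mpr (by rw [← End.mul_apply, ← (hσ g).eq, End.mul_apply, (hW v).mp hv, map_neg])
  have hρ : ∀ (j : ℕ) v, (((ρ S.x - 1) ^ j) v : M) = ((σ S.x - 1) ^ j) v := fun j v => by
    induction j with
    | zero => rfl
    | succ j ih => rw [pow_succ', pow_succ', End.mul_apply, End.mul_apply, ← ih]; rfl
  let z₁ : LinearMap.ker (s + 1) := ((ρ S.x - 1) ^ (1 : ℕ)) ⟨z', (hW _).mpr h3⟩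
  have hz : (z₁ : M) = z := (hρ _ _).trans (by rwa [pow_one])
  have hex : ∃ j, z₁ ∉ LinearMap.range ((ρ S.x - 1) ^ (j + 1)) := ⟨d - 2, fun ⟨v, hv⟩ =>
    h5 v ((hW _).mp v.2) (by rw [← hz, ← hv, hρ, show d - 2 + 1 = d - 1 by omega])⟩
  have h6 : Nat.find hex ≤ d - 2 := Nat.find_min' hex fun ⟨v, hv⟩ =>
    h5 v ((hW _).mp v.2) (by rw [← hz, ← hv, hρ, show d - 2 + 1 = d - 1 by omega])
  have h7 := Nat.find_spec hex
  obtain ⟨i, hi⟩ : ∃ i, Nat.find hex = i + 1 :=
    Nat.exists_eq_succ_of_ne_zero fun e => h7 (by rw [e]; exact ⟨_, rfl⟩)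
  obtain ⟨v, hv⟩ := not_not.mp (Nat.find_min hex (m := i) (by omega))
  rw [hi] at h6 h7
  refine bl_small_block S η hc hη ρ (LinearMap.ext fun v => Subtype.ext ?_) i.succ_ne_zero
    (by omega) (v := v) (Subtype.ext ?_) (hv ▸ h7) (by omega) hI
  · rw [hρ, show p - 1 = 2 * d - 2 by omega]
    exact h1 v ((hW _).mp v.2)
  · rw [pow_succ', End.mul_apply, hv, ← pow_one (ρ S.x - 1), hρ, hz]
    exact h2

end Cfsg.Agent.H34
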