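import Cfsg.Agent.H34.BlauIdem

/-! Reduction modulo `p` of an exceptional character. -/

set_option autoImplicit false
set_option linter.unusedSectionVars false

namespace Cfsg.Agent.H34

open Finset Matrix Polynomial Subgroup Cfsg Cfsg.Agent.H35

variable {G I : Type*} [Group G] [Finite G] [Fintype I] [DecidableEq I] {p : ℕ}
  [hp : Fact p.Prime] (S : Setup G p) {O k : Type*} [CommRing O] [Field k] [CharP k p]
  {ι : O →+* ℂ} {ω : O} (r : O →+* k)

theorem bl_cardK_ne_zero : (Nat.card S.K : k) ≠ 0 :=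
  fun h => S.cop ((CharP.cast_eq_zero_iff k p _).mp h)

theorem blK_mul_ne_zero {J : Type*} [Fintype J]
    (hι : Function.Injective ι) (A : G →* Matrix I I O) (η : S.K →* O) (Q : Matrix I J O)
    {z : I → k} (hz : z ≠ 0) (hQ : z ∈ LinearMap.range (Q.map r).mulVecLin)
    (hη : ∀ l : S.K, blRep r A l z = r (η l) • z) :
    blK S (blMap ι A) (ι.toMonoidHom.comp η) * Q.map ι ≠ 0 := fun h => by
  obtain ⟨u, rfl⟩ := hQ
  have h1 : (∑ l : S.K, η l⁻¹ • A l) * Q = 0 := Matrix.map_injective hι (by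
    rw [blK, Matrix.smul_mul, smul_eq_zero, or_iff_right (inv_ne_zero H5.natCard_ne_zero)] at h
    simp only [Matrix.map_mul, bl_map_sum, bl_map_smul, Matrix.map_zero _ (map_zero ι)]
    exact h)
  have h2 := congrArg (fun Z => Z.map r *ᵥ u) h1
  simp only [Matrix.map_mul, ← mulVec_mulVec, bl_map_sum, bl_map_smul, sum_mulVec, smul_mulVec,
    ← blRep_apply, Matrix.map_zero _ (map_zero r), zero_mulVec] at h2
  rw [mulVecLin_apply] at hη hz
  simp only [hη, smul_smul, ← map_mul, inv_mul_cancel, map_one, one_smul, sum_const, card_univ,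
    ← Nat.card_eq_fintype_card, ← Nat.cast_smul_eq_nsmul k] at h2
  exact smul_ne_zero (bl_cardK_ne_zero S) hz h2

theorem bl_rank_sumE (B : G →* Matrix I I ℂ) (C : Finset (ZMod p)) :
    ((∑ c ∈ C, blE S B c).rank : ℂ) = ∑ c ∈ C, blM S (fun g => (B g).trace) c := by
  rw [← trace_eq_rank_of_idem (sumE_mul_sumE S B C), trace_sum]
  simp only [trace_blE]

theorem bl_trace_ne_zero {E : Matrix I I ℂ} (h : E * E = E) (h0 : E ≠ 0) : E.trace ≠ 0 := by
  rw [trace_eq_rank_of_idem h, Nat.cast_ne_zero, rank, Ne, Submodule.finrank_eq_zero,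
    LinearMap.range_eq_bot]
  exact fun e => h0 (toLin'.injective (e.trans (map_zero _).symm))

theorem blK_idem (B : G →* Matrix I I ℂ) (η : S.K →* ℂ) : blK S B η * blK S B η = blK S B η :=
  blK_mul S B η (K_mul_blK S B η)

theorem bl_res (B : G →* Matrix I I ℂ) {η : S.K →* ℂ} {θ : S.V → ℂ}
    (h : ∀ g (v : S.V), (B (g * (v : S.K))).trace = (B g).trace * θ v) (h0 : blK S B η ≠ 0)
    (v : S.V) : η v = θ v := by
  have h1 := congrArg trace (K_mul_blK S B η v)
  rw [trace_smul, trace_mul_comm, smul_eq_mul] at h1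
  refine mul_right_cancel₀ (bl_trace_ne_zero (blK_idem S B η) h0) (h1.symm.trans ?_)
  simp only [blK, Matrix.smul_mul, sum_mul, trace_smul, trace_sum, ← map_mul, h, smul_eq_mul,
    mul_sum]
  exact sum_congr rfl fun _ _ => by ring

theorem bl_finrank_wt (hr : Function.Surjective r) (hι : Function.Injective ι)
    (B : G →* Matrix I I O) (η : S.K →* O) :
    Module.finrank k (blWt ((blRep r B).comp S.K.subtype) (r.toMonoidHom.comp η)) ≤
      (blK S (blMap ι B) (ι.toMonoidHom.comp η)).rank := by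
  have h := bl_rank_map_le r hr ι hι (∑ l : S.K, η l⁻¹ • B l)
  rw [blK, rank_smul_of_mem_nonZeroDivisors _
    (mem_nonZeroDivisors_of_ne_zero (inv_ne_zero H5.natCard_ne_zero))]
  simp only [bl_map_sum, bl_map_smul] at h
  refine (Submodule.finrank_mono fun z hz => ?_).trans h
  refine ⟨(Nat.card S.K : k)⁻¹ • z, ?_⟩
  replace hz : ∀ l : S.K, (B l).map r *ᵥ z = r (η l) • z := hz
  simp only [map_smul, mulVecLin_apply, sum_mulVec, smul_mulVec, hz, smul_smul, ← map_mul,
    inv_mul_cancel, map_one, one_smul, sum_const, card_univ, ← Nat.card_eq_fintype_card,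
    ← Nat.cast_smul_eq_nsmul k, inv_mul_cancel₀ (bl_cardK_ne_zero (k := k) S)]

theorem bl_trace_orbit (B : G →* Matrix I I ℂ) (η : S.K →* ℂ)
    (h : ∀ g (v : S.V), (B (g * (v : S.K))).trace = (B g).trace * η v) {D : Finset (ZMod p)}
    (h0 : 0 ∉ D) (hD : D.card = S.V.index) {M : ℂ}
    (hM : ∀ c ∈ D, blM S (fun g => (B g).trace) c = M) :
    ((∑ c ∈ D, blE S B c) * blK S B η).trace = M := by
  refine mul_left_cancel₀ (Nat.cast_ne_zero.mpr index_ne_zero_of_finite : (S.V.index : ℂ) ≠ 0) ?_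
  rw [sum_mul, trace_sum, mul_sum, sum_congr rfl fun c hc =>
    (trace_EK_ne S B (ne_of_mem_of_not_mem hc h0) η h).trans (hM c hc), sum_const, hD, nsmul_eq_mul]

/-- tensor square of a matrix representation -/
def blSq (X : G →* Matrix I I O) : G →* Matrix (I × I) (I × I) O where
  toFun g := kroneckerMap (· * ·) (X g) (X g)
  map_one' := by rw [map_one]; exact one_kronecker_one
  map_mul' g h := by rw [map_mul]; exact mul_kronecker_mul _ _ _ _

theorem trace_blSq (X : G →* Matrix I I O) (g : G) : (blSq X g).trace = (X g).trace ^ 2 :=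
  (trace_kronecker _ _).trans (sq _).symm

theorem bl_tensor_sq (X : G →* Matrix I I O) {d : ℕ} (hd : Fintype.card I = d + 1) {w : I → k}
    (hw : ((blRep r X S.x - 1) ^ d) w ≠ 0) (hw' : ((blRep r X S.x - 1) ^ (d + 1)) w = 0)
    {ν : S.K →* k} (hν : ∀ l : S.K, blRep r X l w = ν l • w) :
    ∃ β : Module.Basis (Fin (d + 1) × Fin (d + 1)) k (I × I → k),
      BlT β (blY S (blRep r (blSq X))) S.V.index ∧ BlT β (blRep r (blSq X) S.x - 1) 1 ∧
      (∀ a, blWt ((blRep r (blSq X)).comp S.K.subtype) (ν ^ 2 * blKap k S ^ a) =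
        blSp β {n | n ≡ a [MOD S.V.index]}) ∧ ∃ s : Module.End k (I × I → k),
      (∀ t, s (β t) = β t.swap) ∧ ∀ g, Commute (blRep r (blSq X) g) s := by
  let τ : (I → k) →ₗ[k] (I → k) →ₗ[k] (I × I → k) := LinearMap.mk₂ k (fun u v t => u t.1 * v t.2)
    (fun _ _ _ => funext fun _ => add_mul _ _ _) (fun _ _ _ => funext fun _ => mul_assoc _ _ _)
    (fun _ _ _ => funext fun _ => mul_add _ _ _) fun _ _ _ => funext fun _ => mul_left_comm _ _ _
  obtain ⟨β, h1, h2, h3, b, h4⟩ := bl_tensor S (blRep r X) (blRep r (blSq X)) τ (fun g u v => by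
      ext t
      simp only [τ, blRep_apply, LinearMap.mk₂_apply, mulVec, dotProduct, blSq, MonoidHom.coe_mk,
        OneHom.coe_mk, map_apply, kroneckerMap_apply, map_mul, Fintype.sum_prod_type, sum_mul_sum]
      exact sum_congr rfl fun _ _ => sum_congr rfl fun _ _ => by ring)
    (fun W hW => eq_top_iff.mpr ((Pi.basisFun k (I × I)).span_eq.ge.trans
      (Submodule.span_le.mpr (by
        rintro _ ⟨t, rfl⟩
        refine (congrArg (· ∈ W) (funext fun t' => ?_)).mpr (hW (Pi.single t.1 1) (Pi.single t.2 1))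
        simp [τ, Pi.single_apply, Prod.ext_iff, ← ite_and, and_comm]))))
    (by simp [hd]) (by simp [hd]) hw hw' hν
  refine ⟨β, h1, h2, h3, LinearMap.funLeft k k Prod.swap, fun t => ?_,
    fun g => LinearMap.ext fun z => funext fun t => ?_⟩
  · rw [h4, h4]
    exact funext fun _ => mul_comm _ _
  · simp only [Module.End.mul_apply, LinearMap.funLeft_apply, blRep_apply, mulVec, dotProduct,
      blSq, MonoidHom.coe_mk, OneHom.coe_mk, map_apply, kroneckerMap_apply, Fintype.sum_prod_type,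
      Prod.swap_prod_mk, Prod.fst_swap, Prod.snd_swap]
    rw [sum_comm]
    simp only [mul_comm (X g t.1 _)]

variable [IsDomain O] [IsPrincipalIdealRing O]

theorem bl_hollow_data {J : Type*} [Fintype J] [DecidableEq S.K]
    (hι : Function.Injective ι) (hω : ι ω = ech p 1) (A : G →* Matrix I I O)
    (hA : Hollow (blRep r A)) (η : J → S.K →* O)
    (hη : ∀ g, ∑ j, η j g = if g = 1 then (Nat.card S.K : O) else 0) {C : Finset (ZMod p)}
    {a m : ℕ} (hC : C.card = a + 1) (ha : a + 1 < p)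
    (hm : ∀ c, blM S (fun g => ι (A g).trace) c = m + if c ∈ C then 1 else 0) :
    ∃ j v φ, ((blRep r A S.x - 1) ^ (a + 1)) v = 0 ∧ φ ᵥ* aeval (A S.x - 1) (blG ω C) = 0 ∧
      (r ∘ φ) ⬝ᵥ ((blRep r A S.x - 1) ^ a) v ≠ 0 ∧ (∀ l : S.K, blRep r A l v = r (η j l) • v) ∧
      blK S (blMap ι A) (ι.toMonoidHom.comp (η j)) ≠ 0 ∧ (0 ∈ C → S.V.index ∣ a →
        blE S (blMap ι A) 0 * blK S (blMap ι A) (ι.toMonoidHom.comp (η j)) ≠ 0) := by
  classical
  set ρ := blRep r A with hρ
  set y := ρ S.x - 1 with hy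
  have hη' : ∀ g, ∑ j, (r.toMonoidHom.comp (η j)) g = if g = 1 then (Nat.card S.K : k) else 0 :=
    fun g => by simpa [apply_ite r] using congrArg r (hη g)
  have hE : ∀ C' : Finset (ZMod p), (∑ c ∈ C', blE S (blMap ι A) c).rank =
      C'.card * m + (C' ∩ C).card := fun C' => Nat.cast_injective (R := ℂ) (by
    simp [bl_rank_sumE, trace_blMap, hm, sum_add_distrib])
  have hn : Fintype.card I = a + 1 + m * p := by
    have := hE univ
    rw [sum_blE, rank_one, univ_inter, hC, card_univ, ZMod.card] at this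
    rw [this]; ring
  obtain ⟨v₀, hv₀⟩ : ∃ v₀, ∀ w, (y ^ (p - 1)) w = 0 → ∃ c : k, w - c • v₀ ∈ LinearMap.range y := by
    by_cases h : ∀ w, (y ^ (p - 1)) w = 0 → w ∈ LinearMap.range y
    · exact ⟨0, fun w hw => ⟨0, by simpa using h w hw⟩⟩
    push Not at h
    obtain ⟨w₀, h1, h2⟩ := h
    obtain ⟨j, v, h3, h4, h5⟩ := bl_exists_eigen _ (bl_cardK_ne_zero S) hη' (ρ.comp S.K.subtype)
      (LinearMap.ker (y ^ (p - 1))) (LinearMap.range y)
      (fun l u hu => pow_apply_eq_zero_of_mem_normalizer ρ S.x (S.K_mem l) hu) h1 h2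
    refine ⟨v, fun w hw => ?_⟩
    obtain ⟨_, h6, z, hz, rfl⟩ := Submodule.mem_sup.mp ((sup_le (Submodule.span_le.mpr (by
      rintro _ ⟨n, hn, rfl⟩
      obtain ⟨c, hc⟩ := bl_eigen_norm S ρ h5 hn
      rw [← add_sub_cancel (c • v) (ρ n v)]
      exact Submodule.add_mem_sup (Submodule.smul_mem _ _ (Submodule.mem_span_singleton_self v))
        hc)) le_sup_right : _ ≤ (k ∙ v) ⊔ LinearMap.range y)
      (mem_span_of_hollow hA S.hx S.hsq h3 h4 hw))
    obtain ⟨c, rfl⟩ := Submodule.mem_span_singleton.mp h6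
    exact ⟨c, by rwa [add_sub_cancel_left]⟩
  obtain ⟨h1, h2, u, h3, h4⟩ := bl_blocks (ito_sub_one_pow_char ρ S.hx) ha
    (by rw [Module.finrank_fintype_fun_eq_card, hn]) hv₀
  obtain ⟨j, v, h5, h6, h7⟩ := bl_eigen_block S _ (bl_cardK_ne_zero S) hη' ρ h3 h4
  have h8 : (y ^ a) v ≠ 0 := fun h => h6 (h ▸ zero_mem _)
  obtain ⟨φ, hφ, hφ'⟩ : ∃ φ, φ ᵥ* aeval (A S.x - 1) (blG ω C) = 0 ∧ (r ∘ φ) ⬝ᵥ (y ^ a) v ≠ 0 := by
    obtain ⟨s, Q, a1, a2, a3⟩ := bl_saturate r ι hι (aeval (A S.x - 1) (blG ω C))ᵀ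
    replace a1 : Qᵀ * aeval (A S.x - 1) (blG ω C) = 0 := by simpa using congrArg transpose a1
    by_contra! h
    have a4 := rank_add_rank_le_card_of_mul_eq_zero (blG_mul S hω A C)
    rw [hE, inter_self, hC] at a4
    rw [transpose_map, rank_transpose] at a3
    have a5 := LinearMap.finrank_range_add_finrank_ker (Q.map r)ᵀ.mulVecLin
    rw [← rank, rank_transpose, a2, Module.finrank_fintype_fun_eq_card] at a5
    have a6 : LinearMap.range (y ^ (a + 1)) ≤ LinearMap.ker (Q.map r)ᵀ.mulVecLin := by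
      rintro _ ⟨w, rfl⟩
      have b1 := map_aeval_eq_aeval_map (φ := r) (ψ := r.mapMatrix (m := I)) (by
        ext c i j; simp [algebraMap_matrix_apply, apply_ite r]) (blG ω C) (A S.x - 1)
      rw [blG_map r hι hω, hC, map_pow, aeval_X, ← map_pow] at b1
      rw [LinearMap.mem_ker, mulVecLin_apply, hy, hρ, blRep_pow, ← RingHom.mapMatrix_apply, ← b1,
        mulVec_mulVec, ← transpose_map, RingHom.mapMatrix_apply, ← Matrix.map_mul, a1]
      simp
    refine h6 ((Submodule.eq_of_le_of_finrank_le a6 ?_).ge (funext fun l =>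
      h (Qᵀ l) (congrFun a1 l)))
    rw [h1]
    obtain ⟨q, rfl⟩ := Nat.exists_eq_add_of_le ha.le
    rw [Nat.add_sub_cancel_left]
    nlinarith
  refine ⟨j, v, φ, h5, hφ, hφ', h7, fun h => blK_mul_ne_zero S r hι A (η j) (1 : Matrix I I O)
    (z := v) (fun h => h8 (by rw [h, map_zero])) ⟨v, by simp⟩ h7 (by rw [h, zero_mul]),
    fun h0 ⟨b, hb⟩ h => ?_⟩
  obtain ⟨s, Q, a1, a2, a3⟩ := bl_saturate r ι hι (A S.x - 1)
  have a4 := rank_add_rank_le_card_of_mul_eq_zero (blG_mul S hω A {0})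
  rw [hE, inter_eq_left.mpr (singleton_subset_iff.mpr h0), card_singleton, one_mul, blG,
    prod_singleton, ZMod.val_zero, pow_zero, sub_self, map_zero, sub_zero, aeval_X] at a4
  have a5 : LinearMap.range (Q.map r).mulVecLin ≤ LinearMap.ker y := by
    rintro _ ⟨w, rfl⟩
    rw [LinearMap.mem_ker, ← pow_one y, hy, hρ, blRep_pow, pow_one, mulVecLin_apply, mulVec_mulVec,
      ← Matrix.map_mul, a1]
    simp
  refine blK_mul_ne_zero S r hι A (η j) Q h8 ((Submodule.eq_of_le_of_finrank_le a5 (by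
    rw [h2, ← rank, a2]; omega)).ge (by rwa [pow_succ'] at h5)) (fun l => ?_) ?_
  · rw [← hρ, apply_pow_of_conj ρ (S.conj l)
      (pow_apply_eq_zero_of_mem_normalizer ρ S.x (S.K_mem l) h5), h7, map_smul, ← blKap_apply,
      ← MonoidHom.pow_apply, hb, pow_mul, blKap_pow_index, one_pow, MonoidHom.one_apply, one_smul]
    rfl
  · have b1 : ∀ i : ℕ, blMap ι A S.x ^ i * Q.map ι = Q.map ι := fun i => by
      induction i with
      | zero => simp
      | succ i ih =>
        rw [Matrix.sub_mul, Matrix.one_mul, sub_eq_zero] at a1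
        rw [pow_succ, Matrix.mul_assoc, show blMap ι A S.x = (A S.x).map ι from rfl,
          ← Matrix.map_mul, a1]
        exact ih
    have b2 : blE S (blMap ι A) 0 * Q.map ι = Q.map ι := by
      simp [blE, Matrix.sum_mul, Setup.xp, b1, ← Nat.cast_smul_eq_nsmul ℂ, smul_smul,
        hp.out.ne_zero]
    have b3 : Commute (blE S (blMap ι A) 0) (blK S (blMap ι A) (ι.toMonoidHom.comp (η j))) :=
      (Commute.sum_right _ _ _ fun l _ => Commute.smul_right
        (by have := blE_mul_K S (blMap ι A) l 0; rwa [zero_mul] at this) _).smul_right _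
    rw [← b2, ← Matrix.mul_assoc, ← b3.eq, h, Matrix.zero_mul]

end Cfsg.Agent.H34
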