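import Cfsg.Agent.H34.BlauChar
import Cfsg.Agent.H6.Clifford

/-! The square of a character of degree `p - e`: the two signs of the block over `θ ^ 2`. -/

set_option autoImplicit false
set_option linter.unusedSectionVars false

namespace Cfsg.Agent.H34

open Finset Subgroup Cfsg Cfsg.Agent.H35

variable {G : Type*} [Group G] [Fintype G] {p : ℕ} [hp : Fact p.Prime] (S : Setup G p)

theorem blM_sq_zero (f : G → ℂ) : blM S (fun g => f g ^ 2) 0 = ∑ a, blM S f a * blM S f (-a) := by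
  have : ∀ a, blM S f a * blM S f (-a) =
      (p : ℂ)⁻¹ * ∑ i, f (S.xp i) * (blM S f a * ech p (a * i)) := fun a => by
    rw [blM.eq_1 S f (-a), mul_left_comm, mul_sum]
    exact congrArg _ (sum_congr rfl fun i _ => by rw [neg_mul, neg_neg]; ring)
  rw [sum_congr rfl fun a _ => this a, ← mul_sum, sum_comm]
  exact congrArg _ (sum_congr rfl fun i _ => by simp [← mul_sum, blM_inv, sq])

theorem blM_comp_sq (hp2 : p ≠ 2) (f : G → ℂ) : blM S (fun g => f (g * g)) 0 = blM S f 0 := by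
  have h2 : (2 : ZMod p) ≠ 0 := fun h => hp2 ((Nat.prime_dvd_prime_iff_eq hp.out Nat.prime_two).mp
    ((ZMod.natCast_eq_zero_iff 2 p).mp h))
  refine congrArg _ (Fintype.sum_equiv (Equiv.mulLeft₀ 2 h2) _ _ fun i => ?_)
  simp [← S.xp_add, two_mul]

theorem bl_K_comm (hV : ∀ v : S.V, ((v : S.K) : G) ∈ center G) (a b : S.K) : a * b = b * a :=
  (S.κ.isMulCommutative_of_isCyclic_of_ker_le_center fun v hv => mem_center_iff.mpr fun g =>
    Subtype.ext (mem_center_iff.mp (hV ⟨v, hv⟩) g)).1.1 a b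

theorem bl_inertia (hV : ∀ v : S.V, ((v : S.K) : G) ∈ center G) (θ : S.V → ℂ) :
    S.inertia θ = ⊤ := eq_top_iff.mpr fun _ _ => S.mem_inertia.mpr (funext fun _ => congrArg θ
  (Subtype.ext (mul_inv_eq_iff_eq_mul.mpr (bl_K_comm S hV _ _))))

variable {S} {θ : S.V →* ℂˣ} (hI : S.inertia (fun v => θ v) = ⊤) (B : S.Blk fun v => θ v)
include hI

theorem blM_neg {χ : IrrCharacter G} (hχ : χ ∈ B.Y) (hε : B.ε = -1) : ∃ m : ℕ,
    charDegree (χ : G → ℂ) + S.V.index = p * (m + 1) ∧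
      ∀ c, blM S χ c = m + if c ∈ (blOrb B χ)ᶜ then 1 else 0 := by
  obtain ⟨n, h1, h2⟩ := exists_blM S (H5.isCharacter_of_isIrr χ.2)
  have h3 := blM_Y hI B hχ
  have h4 : ∀ c, blM S χ c = n (B.α χ) + if c ∈ (blOrb B χ)ᶜ then 1 else 0 := fun c => by
    have h5 := h3 (B.α χ)
    rw [if_pos ((mem_blOrb hI B).mpr ⟨1, by simp⟩), h1] at h5
    rw [h3, h5, hε]
    by_cases h : c ∈ blOrb B χ <;> simp [h]
  refine ⟨_, Nat.cast_injective (R := ℂ) ?_, h4⟩
  rw [← h2, Nat.cast_add, Nat.cast_sum, sum_congr rfl fun c _ => (h1 c).symm.trans (h4 c),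
    sum_add_distrib, sum_boole, filter_mem_eq_inter, univ_inter, card_compl,
    Nat.cast_sub (card_le_univ _), card_blOrb hI]
  simp [mul_add, add_assoc]

theorem bl_sign_odd {ζ : G → ℂ} (hζ : IsIrrCharacter G ζ) {μ : S.V →* ℂˣ} (hμ : θ = μ ^ 2)
    (h : ∀ g (v : S.V), ζ (g * (v : S.K)) = ζ g * μ v) (hd : charDegree ζ + S.V.index = p)
    (he : 2 ≤ S.V.index) (h2 : 2 ≤ charDegree ζ) {r : ℕ} (hr : Odd r) (hv : ∀ v : S.V, v ^ r = 1) :
    B.ε = -1 := by
  obtain ⟨n, hn, hn2⟩ := exists_coprime_modEq Nat.card_pos.ne' (Nat.gcd_dvd_right r (Nat.card G))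
    ((Nat.coprime_two_left.mpr hr).coprime_dvd_right (Nat.gcd_dvd_left _ _))
  let ψ : IrrCharacter G := ⟨_, H7.isIrrCharacter_comp_pow hn hζ⟩
  have hd' : charDegree (ψ : G → ℂ) = charDegree ζ := by simp [ψ, charDegree]
  have h1 : ∀ i, S.psi (fun v => θ v) ψ i = (ψ : G → ℂ) (S.xp i) := fun i => by
    rw [Setup.psi, show (fun v : S.V => (ψ : G → ℂ) (S.xp i * (v : S.K))) =
      (ψ : G → ℂ) (S.xp i) • fun v => (θ v : ℂ) from funext fun v => ?_, H5.classInner_smul_left,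
      H5.classInner_irr_self (H5.isIrrCharacter_monoidHom θ), mul_one]
    have h3 : v ^ n = v ^ 2 := pow_eq_pow_iff_modEq.mpr (hn2.of_dvd
      (Nat.dvd_gcd (orderOf_dvd_of_pow_eq_one (hv v)) ((_root_.orderOf_dvd_natCard _).trans
        (S.V.card_subgroup_dvd_card.trans S.K.card_subgroup_dvd_card))))
    have h4 := h (S.xp i ^ n) (v ^ n)
    rw [h3, map_pow, ← h3] at h4
    simpa [ψ, (S.commute_xp i v).mul_pow, hμ] using h4
  obtain ⟨i, hi, h3⟩ : ∃ i, i ≠ 0 ∧ (ψ : G → ℂ) (S.xp i) ≠ 0 := by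
    by_contra! h3
    have := Nat.le_of_dvd (by omega) (S.dvd_degree_of_vanish (H5.isCharacter_of_isIrr ψ.2) h3)
    omega
  have h5 : ∀ z : ℤ, (charDegree ζ : ZMod p) = z → (p : ℤ) ∣ charDegree ζ - z := fun z hz =>
    (ZMod.intCast_zmod_eq_zero_iff_dvd _ p).mp (by simp [hz])
  rcases B.mem_of_psi_ne_zero hi (h1 i ▸ h3) with hX | hY
  · have h4 := B.degX ψ hX _ 1 (cast_degree_irr ψ) (by simp)
    rw [hI, index_top, hd'] at h4
    have := h5 (B.δ ψ) (by simpa using h4)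
    rcases B.δ_sign ψ hX with e | e <;> rw [e] at this <;>
      have := Int.le_of_dvd (by omega) this <;> omega
  · refine B.ε_sign.resolve_left fun e => ?_
    have h4 := B.degY ψ hY _ 1 (cast_degree_irr ψ) (by simp)
    rw [hI, index_top, hd', bl_card_autH hI, e] at h4
    have h6 := h5 S.V.index (by simpa using h4)
    rw [show (charDegree ζ : ℤ) - S.V.index = p - 2 * S.V.index by omega,
      dvd_sub_self_left] at h6
    have h7 : p ∣ 2 * S.V.index := by exact_mod_cast h6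
    rcases hp.out.dvd_mul.mp h7 with a | a <;> have := Nat.le_of_dvd (by omega) a <;> omega

omit hI in
theorem bl_arith_neg {e t D x : ℤ} (he : 3 ≤ e) (ht : 3 ≤ t) (hD : D = (t - 1) * e + 1)
    (h : t * e * x ≤ D ^ 2 - 1 ∧ 2 * D ≤ 2 * x + e ∨ t * e * x ≤ D ^ 2 - 1 + e ∧ D ≤ x) : False := by
  have h0 : 0 < t * e := by positivity
  have h1 : 0 < (t - 2) * (e - 2) := mul_pos (by omega) (by omega)
  rcases h with ⟨h, h'⟩ | ⟨h, h'⟩
  · have := mul_le_mul_of_nonneg_left h' h0.le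
    have := mul_pos (show 0 < e by omega) h1
    subst hD
    nlinarith
  · have := mul_le_mul_of_nonneg_left h' h0.le
    have : 0 < (t - 1) * e * (e - 1) := by
      have : 0 < t - 1 := by omega
      have : 0 < e - 1 := by omega
      positivity
    subst hD
    nlinarith

omit hI in
theorem bl_arith_pos {e t D x y a s dA dS : ℤ} (he : 3 ≤ e) (ht : 3 ≤ t) (hD : D = (t - 1) * e + 1)
    (h1 : x + y + e ≤ D) (h2 : a + s + e = D) (h3 : s = a + 1) (h4 : 2 * dA = D ^ 2 - D)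
    (h5 : 2 * dS = D ^ 2 + D) (h6 : dA - 2 * a ≤ t * e * x)
    (h7 : dS - 2 * s + 1 - e ≤ t * e * y) : e + 3 ≤ t := by
  have a1 : D * (t - 1) ≤ 2 * t * y := le_of_mul_le_mul_left (by subst hD; nlinarith)
    (show 0 < e by omega)
  have a2 : D - e < 2 * y := lt_of_mul_lt_mul_left (a := t) (by subst hD; nlinarith) (by omega)
  have a3 : D * (t - 1) - 2 * (t - 2) ≤ 2 * t * x := le_of_mul_le_mul_left (by subst hD; nlinarith)
    (show 0 < e by omega)
  have a4 := mul_le_mul_of_nonneg_left (show 2 * x ≤ D - e - 1 by omega) (show 0 ≤ t by omega)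
  subst hD
  nlinarith

end Cfsg.Agent.H34
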