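import Cfsg.Agent.H34.BlauLat

/-! The tensor square of a uniserial module for a group of order `p`, with its filtration. -/

set_option autoImplicit false

namespace Cfsg.Agent.H34

open Finset Module

variable {k M : Type*} [Field k] [AddCommGroup M] [Module k M] {d : ℕ}
  (β : Basis (Fin d × Fin d) k M)

/-- span of the basis vectors with degree in `T` -/
def blSp (T : Set ℕ) : Submodule k M := Submodule.span k (β '' {t | (t.1 : ℕ) + t.2 ∈ T})

/-- the basis vectors, extended by zero -/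
noncomputable def blB (i j : ℕ) : M := if h : i < d ∧ j < d then β (⟨i, h.1⟩, ⟨j, h.2⟩) else 0

theorem mem_blSp {T : Set ℕ} {m : M} :
    m ∈ blSp β T ↔ ∀ t, β.repr m t ≠ 0 → (t.1 : ℕ) + t.2 ∈ T := by
  rw [blSp, β.mem_span_image]
  exact ⟨fun h t ht => h (Finsupp.mem_support_iff.mpr ht),
    fun h t ht => h t (Finsupp.mem_support_iff.mp ht)⟩

theorem blSp_mono {T T' : Set ℕ} (h : T ⊆ T') : blSp β T ≤ blSp β T' :=
  fun _ hm => (mem_blSp β).mpr fun t ht => h ((mem_blSp β).mp hm t ht)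

theorem blSp_inf {T T' : Set ℕ} {m : M} (h : m ∈ blSp β T) (h' : m ∈ blSp β T') :
    m ∈ blSp β (T ∩ T') :=
  (mem_blSp β).mpr fun t ht => ⟨(mem_blSp β).mp h t ht, (mem_blSp β).mp h' t ht⟩

theorem blSp_eq_zero {T : Set ℕ} {m : M} (h : m ∈ blSp β T) (hT : ∀ n ∈ T, 2 * d ≤ n + 1) :
    m = 0 :=
  β.repr.injective (Finsupp.ext fun t => by
    by_contra h1
    have := hT _ ((mem_blSp β).mp h t (by simpa using h1))
    omega)

theorem blSp_split {T : Set ℕ} (T₁ T₂ : Set ℕ) (h : ∀ n ∈ T, n ∈ T₁ ∨ n ∈ T₂) :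
    blSp β T ≤ blSp β T₁ ⊔ blSp β T₂ := by
  rw [blSp, blSp, blSp, ← Submodule.span_union, ← Set.image_union]
  exact Submodule.span_mono (Set.image_mono fun t ht => h _ ht)

theorem mem_blSp_univ {T : Set ℕ} (h : ∀ n, n ∈ T) (m : M) : m ∈ blSp β T :=
  (mem_blSp β).mpr fun _ _ => h _

theorem blB_coe (t : Fin d × Fin d) : blB β t.1 t.2 = β t := dif_pos ⟨t.1.2, t.2.2⟩

theorem blB_zero {i j : ℕ} (h : d ≤ i ∨ d ≤ j) : blB β i j = 0 := dif_neg (by omega)

theorem blB_mem {T : Set ℕ} {i j : ℕ} (h : i + j ∈ T) : blB β i j ∈ blSp β T := by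
  unfold blB
  split_ifs with h1
  · exact Submodule.subset_span ⟨_, h, rfl⟩
  · exact zero_mem _

theorem finrank_blSp (T : Set ℕ) [DecidablePred (· ∈ T)] :
    finrank k (blSp β T) = (univ.filter fun t : Fin d × Fin d => (t.1 : ℕ) + t.2 ∈ T).card := by
  rw [blSp, Set.image_eq_range]
  exact (finrank_span_eq_card (β.linearIndependent.comp _ Subtype.val_injective)).trans
    (Fintype.card_subtype _)

theorem finrank_blSp_le (n : ℕ) :
    finrank k (blSp β {n}) ≤ n + 1 ∧ finrank k (blSp β {n}) ≤ 2 * d - 1 - n := by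
  rw [finrank_blSp]
  constructor
  · rw [← card_range (n + 1)]
    refine card_le_card_of_injOn (fun t => t.1) (fun t ht => ?_) fun t ht t' ht' h => ?_ <;>
      simp only [coe_filter, mem_univ, true_and, Set.mem_ofPred_eq, Set.mem_singleton_iff,
        coe_range, Set.mem_Iio] at *
    · omega
    · exact Prod.ext (Fin.ext h) (Fin.ext (by omega))
  · rw [← card_range (2 * d - 1 - n)]
    refine card_le_card_of_injOn (fun t => d - 1 - t.1) (fun t ht => ?_) fun t ht t' ht' h => ?_ <;>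
      simp only [coe_filter, mem_univ, true_and, Set.mem_ofPred_eq, Set.mem_singleton_iff,
        coe_range, Set.mem_Iio] at *
    · omega
    · exact Prod.ext (Fin.ext (by omega)) (Fin.ext (by omega))

theorem le_finrank_blSp {n c : ℕ} (h1 : c ≤ n + 1) (h2 : c + n + 1 ≤ 2 * d) (h3 : c ≤ d) :
    c ≤ finrank k (blSp β {n}) := by
  rw [finrank_blSp, ← Fintype.card_fin c, ← card_univ]
  refine card_le_card_of_injOn (fun i => (⟨n + 1 - d + i, by omega⟩, ⟨n - (n + 1 - d + i), by omega⟩))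
    (fun i _ => ?_) fun i _ j _ h => Fin.ext ?_
  · simp only [coe_filter, mem_univ, true_and, Set.mem_ofPred_eq, Set.mem_singleton_iff]
    omega
  · simpa using congrArg (fun t => (t.1 : ℕ)) h

theorem finrank_blSp_add {T T₁ T₂ : Set ℕ} (h : ∀ n, n ∈ T ↔ n ∈ T₁ ∨ n ∈ T₂)
    (h' : ∀ n ∈ T₁, n ∉ T₂) : finrank k (blSp β T) = finrank k (blSp β T₁) + finrank k (blSp β T₂) := by
  classical
  rw [finrank_blSp, finrank_blSp, finrank_blSp, ← card_union_of_disjoint
    (disjoint_filter.mpr fun t _ ht => h' _ ht), ← filter_or]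
  simp only [h]

/-- `Y` acts as `a + b` on `k[a, b] / (a ^ d, b ^ d)`, up to terms of higher degree -/
structure BlT (Y : End k M) (e : ℕ) : Prop where
  step : ∀ t : Fin d × Fin d, Y (β t) - blB β (t.1 + 1) t.2 - blB β t.1 (t.2 + 1) ∈
    blSp β {n | (t.1 : ℕ) + t.2 + 2 ≤ n}
  cls : ∀ t : Fin d × Fin d, Y (β t) ∈ blSp β {n | n ≡ (t.1 : ℕ) + t.2 + 1 [MOD e]}

namespace BlT

variable {β} {Y : End k M} {e : ℕ} (h : BlT β Y e)
include h

theorem stepB (i j : ℕ) :
    Y (blB β i j) - blB β (i + 1) j - blB β i (j + 1) ∈ blSp β {n | i + j + 2 ≤ n} := by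
  by_cases h1 : i < d ∧ j < d
  · have := h.step (⟨i, h1.1⟩, ⟨j, h1.2⟩)
    rwa [← blB_coe] at this
  · rw [blB_zero β (by omega), blB_zero β (by omega), blB_zero β (by omega)]
    simp

theorem pow_mem (j : ℕ) {T T' : Set ℕ}
    (hT : ∀ n ∈ T, ∀ n', n' ≡ n + j [MOD e] → n + j ≤ n' → n' ∈ T') {m : M}
    (hm : m ∈ blSp β T) : (Y ^ j) m ∈ blSp β T' := by
  induction j generalizing T' with
  | zero => exact blSp_mono β (fun n hn => hT n hn n rfl le_rfl) hm
  | succ j ih =>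
    rw [pow_succ', End.mul_apply]
    refine (Submodule.span_le (p := (blSp β T').comap Y)).mpr ?_
      (ih (T' := {n' | ∃ n ∈ T, n' ≡ n + j [MOD e] ∧ n + j ≤ n'}) fun n hn n' a b => ⟨n, hn, a, b⟩)
    rintro _ ⟨t, ⟨n, hn, a, b⟩, rfl⟩
    have h1 : Y (β t) ∈ blSp β {n | (t.1 : ℕ) + t.2 + 1 ≤ n} := by
      have := add_mem (add_mem (blSp_mono β (T' := {n | (t.1 : ℕ) + t.2 + 1 ≤ n})
        (fun n (hn : _ ≤ n) => le_trans (by omega) hn) (h.step t))
        (blB_mem β (i := t.1) (j := t.2 + 1) (by simp only [Set.mem_ofPred_eq]; omega)))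
        (blB_mem β (i := t.1 + 1) (j := t.2) (by simp only [Set.mem_ofPred_eq]; omega))
      simpa using this
    exact blSp_mono β (fun n' hn' => hT n hn n' (hn'.2.trans (a.add_right 1))
      (le_trans (by omega) hn'.1)) (blSp_inf β h1 (h.cls t))

theorem pow_mem_ge (j : ℕ) {N : ℕ} {m : M} (hm : m ∈ blSp β {n | N ≤ n}) :
    (Y ^ j) m ∈ blSp β {n | N + j ≤ n} :=
  h.pow_mem j (fun n (hn : _ ≤ n) n' _ h2 => le_trans (by omega) h2) hm

theorem surj {N : ℕ} (hN : d ≤ N + 1) :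
    blSp β {n | N + 1 ≤ n} ≤ (blSp β {n | N ≤ n}).map Y := by
  obtain ⟨c, hc⟩ : ∃ c, 2 * d ≤ N + c := ⟨2 * d, by omega⟩
  induction c generalizing N with
  | zero => exact fun m hm => blSp_eq_zero β hm (fun n (hn : _ ≤ n) => by omega) ▸ zero_mem _
  | succ c ih =>
    have h1 : blSp β {n | N + 1 + 1 ≤ n} ≤ (blSp β {n | N ≤ n}).map Y :=
      (ih (by omega) (by omega)).trans (Submodule.map_mono
        (blSp_mono β fun n (hn : _ ≤ n) => le_trans (by omega) hn))
    have h2 : ∀ i j, i + j = N + 1 → blB β i j ∈ (blSp β {n | N ≤ n}).map Y := fun i => by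
      induction i with
      | zero => exact fun j hj => blB_zero β (i := 0) (j := j) (by omega) ▸ zero_mem _
      | succ i ih =>
        intro j hj
        have h3 := h.stepB i j
        rw [show i + j + 2 = N + 1 + 1 by omega] at h3
        have := sub_mem (sub_mem (Submodule.mem_map_of_mem (f := Y) (blB_mem β (i := i) (j := j)
          (T := {n | N ≤ n}) (by simp only [Set.mem_ofPred_eq]; omega))) (h1 h3))
          (ih (j + 1) (by omega))
        convert this using 1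
        abel
    refine (blSp_split β {N + 1} {n | N + 1 + 1 ≤ n} fun n (hn : _ ≤ n) => ?_).trans
      (sup_le (Submodule.span_le.mpr ?_) h1)
    · simp only [Set.mem_singleton_iff, Set.mem_ofPred_eq]; omega
    · rintro _ ⟨t, ht, rfl⟩
      exact blB_coe β t ▸ h2 _ _ ht

theorem surj_pow {N : ℕ} (hN : d ≤ N + 1) (j : ℕ) :
    blSp β {n | N + j ≤ n} ≤ (blSp β {n | N ≤ n}).map (Y ^ j) := by
  induction j with
  | zero => exact fun m hm => ⟨m, hm, rfl⟩
  | succ j ih =>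
    rw [pow_succ', End.mul_eq_comp, Submodule.map_comp]
    exact (h.surj (N := N + j) (by omega)).trans (Submodule.map_mono ih)

theorem exists_cls (j : ℕ) {N a : ℕ} {m : M} (hm : m ∈ blSp β {n | N ≤ n})
    (h1 : (Y ^ j) m ∈ blSp β {n | n ≡ a + j [MOD e]}) :
    ∃ m' ∈ blSp β {n | N ≤ n ∧ n ≡ a [MOD e]}, (Y ^ j) m' = (Y ^ j) m := by
  obtain ⟨m₁, h₁, m₂, h₂, rfl⟩ := Submodule.mem_sup.mp (blSp_split β {n | N ≤ n ∧ n ≡ a [MOD e]}
    {n | ¬ n ≡ a [MOD e]} (fun n hn => (em _).imp_left fun a => ⟨hn, a⟩) hm)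
  refine ⟨m₁, h₁, ?_⟩
  have h3 := sub_mem h1 (h.pow_mem j (fun n hn n' a _ => a.trans (hn.2.add_right j)) h₁)
  rw [map_add, add_sub_cancel_left] at h3
  rw [map_add, blSp_eq_zero β (blSp_inf β h3 (h.pow_mem j (T' := {n | ¬ n ≡ a + j [MOD e]})
    (fun n (hn : ¬ n ≡ a [MOD e]) n' a _ b => hn ((a.symm.trans b).add_right_cancel' j)) h₂))
    fun n hn => absurd hn.1 hn.2, add_zero]

theorem bound_neg (he : e ≠ 0) (a : ℕ) :
    finrank k (LinearMap.range (Y ^ e) ⊓ blSp β {n | n ≡ a [MOD e]} : Submodule k M) +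
      finrank k (blSp β {a}) ≤ finrank k (blSp β {n | n ≡ a [MOD e]}) := by
  have : Module.Finite k M := Module.Finite.of_basis β
  have h1 : LinearMap.range (Y ^ e) ⊓ blSp β {n | n ≡ a [MOD e]} ≤
      (blSp β {n | n ≡ a [MOD e] ∧ n < a}).map (Y ^ e) ⊔ blSp β {n | n ≡ a [MOD e] ∧ a < n} := by
    rintro _ ⟨⟨m, rfl⟩, hm⟩
    obtain ⟨m', h1, h2⟩ := h.exists_cls e (N := 0) (a := a) (mem_blSp_univ β (fun n => n.zero_le) m)
      (blSp_mono β (fun n (hn : n ≡ a [MOD e]) => hn.trans (by simp [Nat.ModEq])) hm)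
    obtain ⟨m₁, h₁, m₂, h₂, rfl⟩ := Submodule.mem_sup.mp (blSp_split β {n | n ≡ a [MOD e] ∧ n < a}
      {n | n ≡ a [MOD e] ∧ a ≤ n} (fun n hn => (lt_or_ge n a).imp (⟨hn.2, ·⟩) (⟨hn.2, ·⟩)) h1)
    rw [← h2, map_add]
    exact Submodule.add_mem_sup ⟨_, h₁, rfl⟩ (h.pow_mem e (fun n hn n' b c => And.intro
      (b.trans (Nat.ModEq.trans (by simp [Nat.ModEq]) hn.1)) (by have := hn.2; omega)) h₂)
  have h2 := (Submodule.finrank_mono h1).trans (Submodule.finrank_add_le_finrank_add_finrank _ _)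
  have h3 := Submodule.finrank_map_le (Y ^ e) (blSp β {n | n ≡ a [MOD e] ∧ n < a})
  rw [finrank_blSp_add β (T := {n | n ≡ a [MOD e]}) (T₁ := {n | n ≡ a [MOD e] ∧ n < a})
      (T₂ := {n | n ≡ a [MOD e] ∧ a ≤ n}) (fun n => by
        simp only [Set.mem_ofPred_eq, ← and_or_left, lt_or_ge, and_true])
      fun n h1 h2 => h2.2.not_gt h1.2,
    finrank_blSp_add β (T := {n | n ≡ a [MOD e] ∧ a ≤ n}) (T₁ := {a})
      (T₂ := {n | n ≡ a [MOD e] ∧ a < n}) (fun n => ⟨fun h1 => h1.2.eq_or_lt.imp Eq.symm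
        (⟨h1.1, ·⟩), by rintro (rfl | h1); exacts [⟨rfl, le_rfl⟩, ⟨h1.1, h1.2.le⟩]⟩)
      fun n h1 h2 => h2.2.ne' h1]
  omega

theorem bound_ker (he : e ≠ 0) {N : ℕ} (hN : d ≤ N + 1) :
    finrank k (LinearMap.ker (Y ^ e) ⊓ blSp β {n | N ≤ n ∧ n ≡ N [MOD e]} : Submodule k M) ≤
      2 * d - 1 - N := by
  have : Module.Finite k M := Module.Finite.of_basis β
  have h1 := LinearMap.finrank_range_add_finrank_ker
    ((Y ^ e).domRestrict (blSp β {n | N ≤ n ∧ n ≡ N [MOD e]}))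
  rw [LinearMap.range_domRestrict, LinearMap.ker_domRestrict,
    ← Submodule.finrank_map_subtype_eq _ (Submodule.comap _ _), Submodule.map_comap_subtype,
    inf_comm, finrank_blSp_add β (T := {n | N ≤ n ∧ n ≡ N [MOD e]}) (T₁ := {N})
      (T₂ := {n | N + e ≤ n ∧ n ≡ N [MOD e]}) (fun n => ⟨fun h1 => h1.1.eq_or_lt.imp Eq.symm
        fun h2 => ⟨by
          have := Nat.le_of_dvd (by omega) ((Nat.modEq_iff_dvd' h2.le).mp h1.2.symm)
          omega, h1.2⟩, by
        rintro (rfl | h1); exacts [⟨le_rfl, rfl⟩, ⟨le_trans (by omega) h1.1, h1.2⟩]⟩)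
      fun n h1 h2 => by have := h2.1; have : n = N := h1; omega] at h1
  have h2 : blSp β {n | N + e ≤ n ∧ n ≡ N [MOD e]} ≤
      (blSp β {n | N ≤ n ∧ n ≡ N [MOD e]}).map (Y ^ e) := fun z hz => by
    obtain ⟨m, hm, rfl⟩ := h.surj_pow hN e (blSp_mono β (fun n hn => hn.1) hz)
    exact h.exists_cls e hm (blSp_mono β (fun n hn => hn.2.trans (by simp [Nat.ModEq])) hz)
  have h3 := Submodule.finrank_mono h2
  have h4 := (finrank_blSp_le β N).2
  omega

theorem bound_pos (he : e ≠ 0) (hd : 2 * e ≤ d) (hY : Y ^ (d + e) = 0) (a : ℕ) :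
    finrank k (LinearMap.range (Y ^ d) ⊓ blSp β {n | n ≡ a [MOD e]} : Submodule k M) ≤ d - e := by
  have : Module.Finite k M := Module.Finite.of_basis β
  obtain ⟨c, hc, hc'⟩ : ∃ c, c < e ∧ c + d ≡ a [MOD e] :=
    ⟨(a + (e - 1) * d) % e, Nat.mod_lt _ (by omega), ((Nat.mod_modEq _ _).add_right d).trans (by
      obtain ⟨e, rfl⟩ := Nat.exists_eq_succ_of_ne_zero he
      rw [add_assoc, Nat.succ_sub_one, ← Nat.succ_mul]
      simp [Nat.ModEq])⟩
  have h1 : LinearMap.range (Y ^ d) ⊓ blSp β {n | n ≡ a [MOD e]} ≤ (blSp β {c}).map (Y ^ d) ⊔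
      LinearMap.ker (Y ^ e) ⊓ blSp β {n | c + e + d ≤ n ∧ n ≡ c + e + d [MOD e]} := by
    rintro _ ⟨⟨m, rfl⟩, hm⟩
    obtain ⟨m', h1, h2⟩ := h.exists_cls d (N := 0) (a := c) (mem_blSp_univ β (fun n => n.zero_le) m)
      (blSp_mono β (fun n (hn : n ≡ a [MOD e]) => hn.trans hc'.symm) hm)
    obtain ⟨m₁, h₁, m₂, h₂, rfl⟩ := Submodule.mem_sup.mp (blSp_split β {c}
      {n | c + e ≤ n ∧ n ≡ c + e [MOD e]} (fun n hn => by
        have h3 : c ≤ n := by
          have := hn.2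
          rw [Nat.ModEq, Nat.mod_eq_of_lt hc] at this
          exact this ▸ Nat.mod_le n e
        refine h3.eq_or_lt.imp Eq.symm fun h4 => ⟨?_, hn.2.trans (by simp [Nat.ModEq])⟩
        have := Nat.le_of_dvd (by omega) ((Nat.modEq_iff_dvd' h3).mp hn.2.symm)
        omega) h1)
    rw [← h2, map_add]
    refine Submodule.add_mem_sup ⟨_, h₁, rfl⟩ ⟨?_, h.pow_mem d (fun n hn n' b c =>
      And.intro (by have := hn.1; omega) (b.trans (hn.2.add_right d))) h₂⟩
    change (Y ^ e) _ = 0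
    rw [← End.mul_apply, ← pow_add, add_comm, hY, LinearMap.zero_apply]
  have h2 := (Submodule.finrank_mono h1).trans (Submodule.finrank_add_le_finrank_add_finrank _ _)
  have h3 := Submodule.finrank_map_le (Y ^ d) (blSp β {c})
  have h4 := (finrank_blSp_le β c).1
  have h5 := h.bound_ker he (N := c + e + d) (by omega)
  omega

end BlT

end Cfsg.Agent.H34
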