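import Cfsg.Agent.H32.GDec
import Cfsg.Agent.H86.NilAb

/-!
Blocks all of whose characters have the same degree (Okuyama–Tsushima).
-/

set_option autoImplicit false
set_option linter.unusedSectionVars false

open scoped ComplexConjugate
open MonoidAlgebra

namespace Cfsg.Agent.H34

open Cfsg Cfsg.Agent.H32 Cfsg.Agent.H86 Cfsg.Agent.H87

variable {G : Type*} [Group G] {M : Ideal AlgInt} {p : ℕ}

theorem trace_mul_of_rank_one {n : Type*} [Fintype n] [DecidableEq n] {P : Matrix n n ℂ}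
    (hP : IsIdempotentElem P) (h : P.trace = 1) (X Y : Matrix n n ℂ) :
    (P * X * (P * Y)).trace = (P * X).trace * (P * Y).trace := by
  have hr : P.rank = 1 := by exact_mod_cast (trace_eq_rank hP).symm.trans h
  obtain ⟨U, V, h1, -⟩ := exists_factor_of_idem hP
  generalize P.rank = r at *
  subst hr h1
  have key : ∀ Z : Matrix n n ℂ, (U * V * Z).trace = (V * Z * U) 0 0 := fun Z => by
    rw [Matrix.mul_assoc, Matrix.trace_mul_comm, Matrix.trace_fin_one]
  rw [Matrix.mul_assoc (U * V), key, key, key,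
    show V * (X * (U * V * Y)) * U = V * X * U * (V * Y * U) by simp only [Matrix.mul_assoc],
    Matrix.mul_apply, Fin.sum_univ_one]

theorem ev_mul_of_ev_eq_one {χ : G → ℂ} (hχ : IsCharacter G χ) {e : MonoidAlgebra ℂ G}
    (he : IsIdempotentElem e) (h : ev χ e = 1) (x y : MonoidAlgebra ℂ G) :
    ev χ (e * x * (e * y)) = ev χ (e * x) * ev χ (e * y) := by
  obtain ⟨n, ρ, rfl⟩ := hχ
  let f := (LinearMap.toMatrixAlgEquiv (Pi.basisFun ℂ (Fin n))).toAlgHom.comp ρ.asAlgebraHom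
  have key : ∀ a, ev ρ.character a = (f a).trace := fun a => by
    rw [ev_character, LinearMap.trace_eq_matrix_trace ℂ (Pi.basisFun ℂ (Fin n))]; rfl
  simp only [key, map_mul] at h ⊢
  exact trace_mul_of_rank_one (he.map f) h _ _

variable [Finite G] [hMm : M.IsMaximal] {B : Set (IrrCharacter G)}

/-- A block whose Cartan invariants are all divisible by `p ^ d` has one Brauer character. -/
theorem blockRank_eq_one_of_cartan (hM : IsPModular p M) (hB : IsPBlock M B)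
    (h : ∀ i j : IBr M G, i.blk = B → j.blk = B →
      (cartan i j : ℂ) / p ^ blockDefect p B ∈ locRing M) : blockRank p B = 1 := by
  have := Fintype.ofFinite G
  have hp : (p : ℂ) ^ blockDefect p B ≠ 0 := pow_ne_zero _ (Nat.cast_ne_zero.mpr hM.1.ne_zero)
  obtain ⟨ψ₀, h₀⟩ := isPBlock_nonempty hB
  let f : IBr M G → G → ℂ := fun i => ((p : ℂ) ^ blockDefect p B)⁻¹ • Phi i
  have hf : ∀ i, IsClassFunction G (f i) := fun i g x => by
    simp only [f, Pi.smul_apply, isClassFunction_Phi i g x]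
  have hfR : ∀ i, i.blk = B → ∀ g, f i g ∈ locRing M := fun i hi g => by
    simp only [f, Phi_eq_sum_phi i, Finset.mul_sum, Finset.sum_apply, Pi.smul_apply, smul_eq_mul]
    refine Subring.sum_mem _ fun j _ => ?_
    rw [← mul_assoc, inv_mul_eq_div]
    refine Subring.mul_mem _ ?_ (phi_mem_locRing hM j g)
    by_cases hj : j.blk = B
    · exact h i j hi hj
    · rw [cartan_eq_zero (hi ▸ Ne.symm hj), Nat.cast_zero, zero_div]; exact zero_mem _
  choose! u hu hu' hul using fun ψ (hψ : ψ ∈ B) => exists_unit_defect hM hψ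
  have h1 : ∀ i, i.blk = B → ∀ ψ ∈ B, (dec (ψ : G → ℂ) i : Res M) =
      redC M (p ^ blockHeight p B (ψ : G → ℂ) * u ψ) * redC M (H86.lam p (f i) ψ₀) := by
    intro i hi ψ hψ
    have e1 := hul ψ hψ (f i)
    rw [reg_smul, reg_Phi hM, H5.classInner_smul_left, classInner_Phi_irr, mul_inv_cancel_left₀ hp,
      div_eq_iff (pow_ne_zero _ (Nat.cast_ne_zero.mpr hM.1.ne_zero))] at e1
    have e2 := lam_mem_locRing hM (hf i) fun g _ => hfR i hi g
    rw [← redC_eq_of_sub_mem (e2 ψ₀) (lam_sub_lam_mem hM (hf i) (fun g _ => hfR i hi g) hB hψ h₀),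
      ← redC_mul (Subring.mul_mem _ (Subring.pow_mem _ (natCast_mem _ _) _) (hu ψ hψ)) (e2 ψ),
      ← redC_natCast, e1]
    congr 1
    ring
  have h2 : ∀ k, k.blk = B → ∃ ν : Res M, ∀ i, i.blk = B →
      ν * redC M (H86.lam p (f i) ψ₀) = if k = i then 1 else 0 := fun k hk => by
    obtain ⟨n, -, -, -, hn⟩ := exists_int_phi hM hk
    refine ⟨∑ ψ ∈ fs B, n ψ * redC M (p ^ blockHeight p B (ψ : G → ℂ) * u ψ), fun i hi => ?_⟩
    have := congrArg (Int.cast : ℤ → Res M) (hn i)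
    push_cast at this
    rw [← this, Finset.sum_mul]
    exact Finset.sum_congr rfl fun ψ hψ => by rw [h1 i hi ψ (mem_fs.mp hψ), mul_assoc]
  obtain ⟨i, hi⟩ := exists_blk_eq hB
  rw [blockRank_eq_card hM hB, Finset.card_eq_one]
  refine ⟨i, Finset.eq_singleton_iff_unique_mem.mpr ⟨mem_ibrOf.mpr hi, fun k hk => ?_⟩⟩
  by_contra hne
  obtain ⟨ν, hν⟩ := h2 k (mem_ibrOf.mp hk)
  obtain ⟨μ, hμ⟩ := h2 i hi
  have e1 := hν i hi
  have e2 := hν k (mem_ibrOf.mp hk)
  have e3 := hμ i hi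
  rw [if_neg hne] at e1
  rw [if_pos rfl] at e2 e3
  rcases mul_eq_zero.mp e1 with e | e
  · rw [e, zero_mul] at e2; exact zero_ne_one e2
  · rw [e, mul_zero] at e3; exact zero_ne_one e3

theorem exists_ibr_of_degree_eq (hM : IsPModular p M) (hB : IsPBlock M B) {n : ℕ}
    (hn : ∀ χ ∈ B, charDegree (χ : G → ℂ) = n) : ∃ i : IBr M G, i.blk = B ∧
      (∀ j : IBr M G, j.blk = B → j = i) ∧ (∀ χ ∈ B, dec (χ : G → ℂ) i = 1) ∧
      Nat.card B = p ^ blockDefect p B ∧ Phi i = (p : ℂ) ^ blockDefect p B • phi i := by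
  classical
  have := Fintype.ofFinite G
  have h0 : ∀ χ ∈ B, blockHeight p B (χ : G → ℂ) = 0 := fun χ hχ => by
    obtain ⟨ψ, hψ, h⟩ := H86.exists_height_zero (p := p) ⟨χ, hχ⟩
    rw [← h]
    exact height_eq_of_degree_eq (by rw [← irr_degree_cast, ← irr_degree_cast, hn χ hχ, hn ψ hψ])
  have h1 : ∀ χ ∈ B, ∃ i : IBr M G, ∀ j, dec (χ : G → ℂ) j = if j = i then 1 else 0 := by
    intro χ hχ
    obtain ⟨i, hi⟩ := exists_dec_ne_zero' (M := M) χ
    have hd : ∀ j : IBr M G, dec (χ : G → ℂ) j * n ≤ dec (χ : G → ℂ) j * j.deg := fun j => by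
      by_cases hj : dec (χ : G → ℂ) j = 0
      · simp [hj]
      refine Nat.mul_le_mul_left _ (Nat.le_of_dvd j.deg_pos (dvd_deg_of_forall hM fun ψ hψ => ?_))
      rw [hn ψ (blk_eq_of_dec hB hχ hj ▸ hψ)]
    have h2 : (∑ j : IBr M G, dec (χ : G → ℂ) j) * n ≤ 1 * n := by
      rw [Finset.sum_mul, one_mul]
      conv_rhs => rw [← hn χ hχ, charDegree_eq_sum_dec (M := M) (irr_isCharacter χ)]
      exact Finset.sum_le_sum fun j _ => hd j
    have h3 := Nat.le_of_mul_le_mul_right h2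
      (Nat.pos_of_ne_zero (hn χ hχ ▸ irr_degree_ne_zero χ))
    refine ⟨i, fun j => ?_⟩
    split_ifs with hj
    · have := Finset.single_le_sum (f := fun j : IBr M G => dec (χ : G → ℂ) j)
        (fun _ _ => Nat.zero_le _) (Finset.mem_univ j)
      subst hj
      omega
    · have := Finset.add_le_sum (f := fun j : IBr M G => dec (χ : G → ℂ) j)
        (fun _ _ => Nat.zero_le _) (Finset.mem_univ j) (Finset.mem_univ i) hj
      omega
  have : Nonempty (IBr M G) := ⟨(exists_blk_eq hB).choose⟩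
  choose! ι hι using h1
  have hreg : ∀ χ ∈ B, pRegularPart p (χ : G → ℂ) = phi (ι χ) := fun χ hχ => by
    simp [reg_irr_eq_sum_dec hM, hι χ hχ]
  have hcart : ∀ χ ∈ B, ∀ j, j ≠ ι χ → cartan (ι χ) j = 0 := fun χ hχ j hj => by
    rw [cartan_eq_sum_fs (blk_eq_of_dec hB hχ (by simp [hι χ hχ]))]
    refine Finset.sum_eq_zero fun ψ hψ => ?_
    rw [hι ψ (mem_fs.mp hψ), hι ψ (mem_fs.mp hψ)]
    split_ifs with a b
    · exact (hj (b.trans a.symm)).elim
    all_goals simp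
  have hPhi : ∀ χ ∈ B, Phi (ι χ) = (cartan (ι χ) (ι χ) : ℂ) • phi (ι χ) := fun χ hχ => by
    rw [Phi_eq_sum_phi, Finset.sum_eq_single (ι χ) (fun j _ hj => by simp [hcart χ hχ j hj])
      (by simp)]
  have haM : ∀ χ ∈ B, ∀ ψ ∈ B, (cartan (ι χ) (ι χ) : ℂ) * aM p B (χ : G → ℂ) ψ =
      p ^ blockDefect p B * dec (ψ : G → ℂ) (ι χ) := fun χ hχ ψ hψ => by
    rw [aM_irr_cast hM χ hψ, hreg χ hχ, mul_left_comm, ← H5.classInner_smul_left, ← hPhi χ hχ,
      classInner_Phi_irr]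
  obtain ⟨χ, hχ⟩ := isPBlock_nonempty hB
  have hdec : ∀ ψ ∈ B, dec (ψ : G → ℂ) (ι χ) = 1 := fun ψ hψ => by
    have := haM χ hχ ψ hψ
    rw [hι ψ hψ] at this ⊢
    split_ifs at this ⊢
    · rfl
    simp only [Nat.cast_zero, mul_zero, mul_eq_zero, Nat.cast_eq_zero, Int.cast_eq_zero] at this
    exact (this.elim (cartan_self_pos _).ne' (aM_ne_zero hM hB hχ (h0 χ hχ) hψ)).elim
  have hblk := blk_eq_of_dec hB hχ (i := ι χ) (by simp [hι χ hχ])
  have hc : cartan (ι χ) (ι χ) = p ^ blockDefect p B := by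
    have e1 := haM χ hχ χ hχ
    rw [hdec χ hχ, Nat.cast_one, mul_one] at e1
    have e2 : cartan (ι χ) (ι χ) * (aM p B (χ : G → ℂ) χ).natAbs = p ^ blockDefect p B := by
      have : (cartan (ι χ) (ι χ) : ℤ) * aM p B (χ : G → ℂ) χ = p ^ blockDefect p B := by
        exact_mod_cast e1
      simpa [Int.natAbs_mul, Int.natAbs_pow] using congrArg Int.natAbs this
    have e3 := (pow_height_succ_dvd_aM_iff hM hB hχ hχ).not.mpr (not_not.mpr (h0 χ hχ))
    rw [h0 χ hχ, zero_add, pow_one, Int.natCast_dvd] at e3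
    rw [← e2, Nat.eq_one_of_dvd_coprimes (((Nat.Prime.coprime_iff_not_dvd hM.1).mpr e3).pow_left
      (blockDefect p B)) (Dvd.intro_left _ e2) dvd_rfl, mul_one]
  refine ⟨ι χ, hblk, fun j hj => ?_, hdec, ?_, by rw [hPhi χ hχ, hc, Nat.cast_pow]⟩
  · obtain ⟨ψ, hψ, h⟩ := exists_mem_blk_dec j
    have e1 := hdec ψ (hj ▸ hψ)
    rw [hι ψ (hj ▸ hψ)] at e1 h
    split_ifs at e1 h <;> simp_all
  · rw [← hc, cartan_eq_sum_fs hblk, Finset.sum_congr rfl fun ψ hψ => by rw [hdec ψ (mem_fs.mp hψ)]]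
    simp [card_fs]

theorem sum_ev_mul_ev_mem (hM : IsPModular p M) (hB : IsPBlock M B) {n : ℕ}
    (hn : ∀ χ ∈ B, charDegree (χ : G → ℂ) = n) {a b : MonoidAlgebra ℂ G} (ha : a ∈ RG M G)
    (hb : b ∈ RG M G) :
    (∑ χ ∈ fs B, ev (χ : G → ℂ) a * ev (χ : G → ℂ) b) / p ^ blockDefect p B ∈ locRing M := by
  obtain ⟨i, hi, hu, hdec, -, hPhi⟩ := exists_ibr_of_degree_eq hM hB hn
  have hx : IsIdempotentElem (⟨blockIdem B, blockIdem_mem_RG hB⟩ : RG M G) :=
    Subtype.ext (blockIdem_mul_self B)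
  obtain ⟨y, hy, hs, hass⟩ := (weddR M G).exists_decomp hx
  have hsi : ∀ s, Assoc (y s) ((weddR M G).prim i) := fun s => by
    have : s.1 = i := by
      refine hu s.1 ?_
      by_contra h
      exact s.2.pos.ne' (imult_eq_zero_of_blk (blockIdem_mem_RG hB) (blockIdem_mul_self B) hM hB
        (blockIdem_mul_self B) h)
    rw [← this]
    exact hass s
  choose α β h1 h2 h3 h4 h5 h6 using fun s =>
    (hsi s).exists_corner (hy.idem s) ((weddR M G).idem_prim i)
  have key : ∀ a ∈ RG M G, ∃ a' ∈ RG M G, ∀ χ ∈ B,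
      ev (χ : G → ℂ) a = ev (χ : G → ℂ) (pim i * a') := fun a ha => by
    refine ⟨∑ s, β s * a * α s, Subring.sum_mem _ fun s _ =>
      Subring.mul_mem _ (Subring.mul_mem _ (β s).2 ha) (α s).2, fun χ hχ => ?_⟩
    have e1 : blockIdem B = ∑ s, (α s : MonoidAlgebra ℂ G) * β s := by
      simpa [← h1] using (congrArg Subtype.val hs).symm
    rw [← ev_blockIdem_mul_of_mem hχ a, congrArg (· * a) e1, Finset.sum_mul, Finset.mul_sum, map_sum, map_sum]
    refine Finset.sum_congr rfl fun s _ => ?_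
    rw [mul_assoc, ev_mul_comm (irr_isClassFunction χ), ← mul_assoc, ← mul_assoc,
      show pim i * β s = β s from congrArg Subtype.val (h5 s)]
  obtain ⟨a', ha', ea⟩ := key a ha
  obtain ⟨b', hb', eb⟩ := key b hb
  have e1 : ∑ χ ∈ fs B, ev (χ : G → ℂ) a * ev (χ : G → ℂ) b =
      ev (Phi i) (pim i * a' * (pim i * b')) := by
    rw [Phi_eq_sum_fs hi, ev_sum_fun]
    refine Finset.sum_congr rfl fun χ hχ => ?_
    have hχ := mem_fs.mp hχ
    rw [hdec χ hχ, Nat.cast_one, one_smul, ea χ hχ, eb χ hχ, ev_mul_of_ev_eq_one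
      (irr_isCharacter χ) (idem_pim i) (by rw [← cast_dec_irr, hdec χ hχ, Nat.cast_one])]
  rw [e1, hPhi, ev_smul_fun, mul_div_cancel_left₀ _
    (pow_ne_zero _ (Nat.cast_ne_zero.mpr hM.1.ne_zero))]
  exact ev_mem_locRing (phi_mem_locRing hM i) (Subring.mul_mem _
    (Subring.mul_mem _ (pim_mem_RG i) ha') (Subring.mul_mem _ (pim_mem_RG i) hb'))

/-- Okuyama–Tsushima. -/
theorem nilpotent_of_degree_eq (hM : IsPModular p M) (hB : IsPBlock M B) {P : Subgroup G}
    (hP : IsDefectGroup p M B P) (hab : P ≤ Ce P) {n : ℕ}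
    (hn : ∀ χ ∈ B, charDegree (χ : G → ℂ) = n) : IsNilpotentBlock p M B := by
  classical
  have : Fact p.Prime := ⟨hM.1⟩
  have := res_charP hM
  have := Fintype.ofFinite G
  have := Fintype.ofFinite P
  obtain ⟨e, h⟩ := exists_ctx hM hB hP
  have h1 : ∀ u : P, ∑ χ ∈ fs B, cn p P e u χ χ = 1 := fun u => by
    have := Fintype.ofFinite (Ce (Subgroup.zpowers (u : G)))
    have hC : IsCent (Ce (Subgroup.zpowers (u : G))) u := isCent_zpowers (u : G)
    have hi := h.induced u.2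
    simp only [cn_eq]
    rw [sum_con_self hM hC (h.pElt u.2) hi, blockRank_eq_one_of_cartan hM hi.1 fun i j hi' _ => ?_,
      Nat.cast_one]
    rw [← sum_conj_gdec_mul hM hC (h.pElt u.2) (hi' ▸ hi) j,
      show blockDefect p (blk p P e u) = _ from h.df_of_central u.2 (hab u.2)]
    rw [Finset.sum_congr rfl fun χ _ => by
      rw [← gdec_inv hC (H53.virt_of_irr χ.2) i, gdec_eq_ev, gdec_eq_ev]]
    exact sum_ev_mul_ev_mem hM hB hn
      (Subring.mul_mem _ (single_one_mem_RG _) (extH_mem_RG _ (pim_mem_RG i)))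
      (Subring.mul_mem _ (single_one_mem_RG _) (extH_mem_RG _ (pim_mem_RG j)))
  obtain ⟨-, -, -, -, hk, -⟩ := exists_ibr_of_degree_eq hM hB hn
  have h2 : ∑ u : P, H86.wt p P e u = ∑ u : P, 1 := by
    have : ∑ u : P, (H86.wt p P e u : ℂ) = Nat.card P := by
      rw [h.card_eq, ← hk, ← card_fs, Finset.card_eq_sum_ones, Nat.cast_sum,
        Finset.sum_congr rfl fun χ hχ => (Nat.cast_one.trans (H5.classInner_irr_self χ.2).symm).trans
          (h.ci_eq (irr_isClassFunction χ) (blockPart_irr_of_mem (mem_fs.mp hχ))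
            (irr_isClassFunction χ)), Finset.sum_comm]
      simp only [← Finset.mul_sum, h1, mul_one]
    simpa using (by exact_mod_cast this : ∑ u : P, H86.wt p P e u = Nat.card P)
  have hpos : ∀ u : P, 0 < Nat.card {v : P // Fz p P e u v} := fun u =>
    @Nat.card_pos _ ⟨⟨u, h.fz_refl u.2⟩⟩ _
  have h3 := (Finset.sum_eq_sum_iff_of_le fun u _ => by
    rw [h.wt_eq u.2]
    exact inv_le_one_of_one_le₀ (Nat.one_le_cast.mpr (hpos u))).mp h2
  refine h.isNilpotentBlock ((h.nilp_iff_of_abelian hab).mpr fun x hx => mem_Ce.mpr fun u hu => ?_)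
  have h4 := h3 ⟨u, hu⟩ (Finset.mem_univ _)
  rw [h.wt_eq hu, inv_eq_one, Nat.cast_eq_one, Nat.card_eq_one_iff_unique] at h4
  have h5 : Fz p P e u (x * u * x⁻¹) := by
    have := (h.blk_spec hu).2.cj (x := x) (le_No_top ⊤ (Subgroup.mem_top x))
    rw [mem_No_iff_cjS.1 hx.1, show cj x e = e from hx.2, cjS_zpowers] at this
    exact ⟨x, this, rfl⟩
  have := congrArg (fun v => (v.1 : G)) (h4.1.elim ⟨⟨u, hu⟩, h.fz_refl hu⟩ ⟨⟨_, h5.mem⟩, h5⟩)
  exact eq_mul_inv_iff_mul_eq.mp this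

end Cfsg.Agent.H34
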