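import Cfsg.Agent.H87.AlgNormal
import Cfsg.Agent.H87.Dict4
import Cfsg.Agent.H34.Cover

/-! Every character of a covered block lies under a character of the covering block. -/

set_option autoImplicit false
set_option linter.unusedSectionVars false

open scoped ComplexConjugate MonoidAlgebra
open Cfsg Cfsg.Agent.H32 Cfsg.Agent.H87 MonoidAlgebra

namespace Cfsg.Agent.H34

section
variable {k : Type*} [Field k] {G : Type*} [Group G] [Finite G]

/-- The graded-nilpotent argument (adapted from `H87.Br_ne_zero_of_le_blk`). -/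
theorem graded_unit {N : Subgroup G} {c x : k[G]} (hc : Blk N N c) (J : k[G] → Prop)
    (hJ : ∀ a b, J a → H87.Inv N a → H87.Inv N b → J (a * b)) (h0 : ¬ J c) (hs : Supp (No N) x)
    (hx : H87.Inv N x) (hi : IsIdempotentElem x) (hcx : c * x = x)
    (hB : ∀ g ∈ No N, J (trunc (cos N g) x)) : x = 0 := by
  classical
  have := Fintype.ofFinite (G ⧸ N)
  let I : k[G] → Prop := fun a => H87.Inv N a ∧ c * a = a ∧ J a
  have hImul : ∀ {a b}, I a → H87.Inv N b → I (a * b) := fun ha hb =>
    ⟨ha.1.mul hb, by rw [← mul_assoc, ha.2.1], hJ _ _ ha.2.2 ha.1 hb⟩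
  let C := (fix k ⊤ N).toSubring
  have hC : ∀ {a}, a ∈ C ↔ H87.Inv N a := ⟨fun h => h.2, fun h => ⟨supp_top _, h⟩⟩
  let L : ℕ → Set k[G] := fun r => {y | ∃ l : List (G × k[G]), l.length = r ∧
    (∀ a ∈ l, (a.1 ∈ No N ∧ Homog N a.1 a.2) ∧ I a.2) ∧ y = (l.map Prod.snd).prod}
  have hx1 : x ∈ AddSubmonoid.closure {y | ∃ g ∈ No N, Homog N g y ∧ I y} := by
    rw [← sum_trunc_coset N x]
    refine sum_mem fun q _ => ?_
    by_cases hq : trunc (cos N q) x = 0
    · rw [hq]; exact zero_mem _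
    obtain ⟨g, hg, hg'⟩ : ∃ g : G, (g : G ⧸ N) = q ∧ x.coeff g ≠ 0 := by
      by_contra hcon
      push Not at hcon
      exact hq (trunc_eq_zero_iff.2 hcon)
    subst hg
    have hgN := hs.mem hg'
    refine AddSubmonoid.subset_closure ⟨g, hgN, fun y hy => ?_, hx.trunc_coset hgN, ?_, ?_⟩
    · by_contra hcon
      exact hy (coeff_trunc_of_not_mem _ fun h => hcon (mem_cos.1 h))
    · rw [trunc_coset_eq hgN, ← mul_assoc, ← trunc_mul_left hc.supp, ← mul_assoc, hcx]
    · exact hB g hgN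
  have hpow : ∀ r, x ^ r ∈ AddSubmonoid.closure (L r) := by
    intro r
    induction r with
    | zero => exact AddSubmonoid.subset_closure ⟨[], rfl, by simp, by simp⟩
    | succ r ih =>
      rw [pow_succ']
      have key : ∀ a ∈ AddSubmonoid.closure {y | ∃ g ∈ No N, Homog N g y ∧ I y},
          ∀ b ∈ AddSubmonoid.closure (L r), a * b ∈ AddSubmonoid.closure (L (r + 1)) := by
        intro a ha b hb
        induction ha using AddSubmonoid.closure_induction with
        | mem a ha =>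
          induction hb using AddSubmonoid.closure_induction with
          | mem b hb =>
            obtain ⟨g, hg, h1, h2⟩ := ha
            obtain ⟨l, hl, h3, rfl⟩ := hb
            refine AddSubmonoid.subset_closure ⟨(g, a) :: l, by simp [hl], fun z hz => ?_, by simp⟩
            rcases List.mem_cons.1 hz with rfl | hz
            · exact ⟨⟨hg, h1⟩, h2⟩
            · exact h3 z hz
          | zero => rw [mul_zero]; exact zero_mem _
          | add b d _ _ h1 h2 => rw [mul_add]; exact add_mem h1 h2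
        | zero => rw [zero_mul]; exact zero_mem _
        | add a d _ _ h1 h2 => rw [add_mul]; exact add_mem h1 h2
      exact key x hx1 _ ih
  have hlist : ∀ l : List (G × k[G]), (∀ a ∈ l, I a.2) → H87.Inv N (l.map Prod.snd).prod :=
    fun l hl => hC.1 (Subring.list_prod_mem C fun y hy => by
      obtain ⟨a, ha, rfl⟩ := List.mem_map.1 hy
      exact hC.2 (hl a ha).1)
  have hnil := (nilpotent_of_mem_closure C (AddSubmonoid.closure_mono (fun y hy => by
    obtain ⟨l, hl, h3, rfl⟩ := hy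
    obtain ⟨l₁, l₂, l₃, rfl, hne, hN⟩ := exists_list_split (N := N) l hl.ge
    have i1 := hlist l₁ fun a ha => (h3 a (by simp [ha])).2
    have i3 := hlist l₃ fun a ha => (h3 a (by simp [ha])).2
    have hI : I (l₂.map Prod.snd).prod := by
      obtain ⟨a, l', rfl⟩ := List.exists_cons_of_ne_nil hne
      exact hImul (h3 a (by simp)).2 (hlist l' fun b hb => (h3 b (by simp [hb])).2)
    have hS : Supp N (l₂.map Prod.snd).prod := fun y hy => by
      by_contra hcon
      have := homog_list l₂ (fun a ha => (h3 a (by simp [ha])).1) y hcon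
      exact hy ((N.mul_mem_cancel_left (N.inv_mem hN)).1 this)
    have hcomm : ∀ d ∈ C, (l₂.map Prod.snd).prod * d = d * (l₂.map Prod.snd).prod :=
      fun d hd => hS.comm (hC.1 hd)
    refine ⟨_, hC.2 hI.1, _, mul_mem (hC.2 i1) (hC.2 i3), ?_, ?_, hcomm⟩
    · rw [List.map_append, List.map_append, List.prod_append, List.prod_append,
        ← hcomm _ (hC.2 i1), mul_assoc]
    · rcases hc.local (isComm_fix le_rfl) ⟨hS, hI.1⟩ with h | ⟨u, hu, h⟩
      · rwa [← hc.supp.comm hI.1, hI.2.1] at h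
      · exact absurd (h ▸ hJ _ _ hI.2.2 hI.1 hu.2) h0)
    (hpow (Nat.card (G ⧸ N))))).2
  exact hi.eq_zero_of_isNilpotent hnil.of_pow

end

variable {G : Type*} [Group G] [Finite G] {M : Ideal AlgInt} [hMm : M.IsMaximal]

theorem exists_over_of_covers_subtype (N : Subgroup G) [hN : N.Normal] [Fintype N]
    {B : Set (IrrCharacter G)} (hB : IsPBlock M B) {b : Set (IrrCharacter N)} (hb : IsPBlock M b)
    (h : Covers N.subtype B b) {θ : IrrCharacter N} (hθ : θ ∈ b) :
    ∃ χ ∈ B, Over N.subtype (χ : G → ℂ) (θ : N → ℂ) := by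
  by_contra hne
  have hE := emb_subtype N
  have hNo : No N = ⊤ := Subgroup.normalizer_eq_top N
  have h1 : blockIdem B * cidm N.subtype {θ} = 0 := by
    by_contra h1
    obtain ⟨χ, hχ, θ', rfl, h2⟩ := (blockIdem_mul_cidm_ne_zero_iff N.subtype B {θ}).mp h1
    exact hne ⟨χ, hχ, h2⟩
  have hBi : H87.Inv ⊤ (blockIdem B) := mem_Zc_iff_inv.mp (blockIdem_mem_Zc B)
  have hXR : blockIdem B * cidm N.subtype b ∈ RG M G :=
    mul_mem (blockIdem_mem_RG hB) (cidm_mem_RG N.subtype_injective hb)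
  have hXi : H87.Inv N (blockIdem B * cidm N.subtype b) :=
    (hBi.mono le_top).mul (hE.cidm_mem_fix b).2
  have hX : rd M (blockIdem B * cidm N.subtype b) = eB M B * idm M N.subtype b := by
    rw [rd_mul (blockIdem_mem_RG hB) (cidm_mem_RG N.subtype_injective hb),
      rd_cidm N.subtype_injective]
    rfl
  have hθX : cidm N.subtype {θ} * (blockIdem B * cidm N.subtype b) = 0 := by
    rw [← mul_assoc, ← Zc_comm (blockIdem_mem_Zc B), h1, zero_mul]
  have heB : H87.Inv ⊤ (eB M B) := (blk_eB hB).inv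
  have hcomm : eB M B * idm M N.subtype b = idm M N.subtype b * eB M B :=
    Zc_comm (mem_Zc_iff_inv.mpr heB) _
  refine (covers_subtype_iff N hB hb).mp h (graded_unit (hE.blk_idm hb)
    (fun a => ∃ A ∈ RG M G, H87.Inv N A ∧ rd M A = a ∧ cidm N.subtype {θ} * A = 0) ?_ ?_
    (by rw [hNo]; exact supp_top _) ((heB.mono le_top).mul (hE.idm_mem_fix b).2) ?_ ?_ ?_)
  · rintro _ y ⟨A, h2, h3, rfl, h4⟩ - hy
    exact ⟨A * lft y, mul_mem h2 (lft_mem_RG y), h3.mul hy.lft, by
      rw [rd_mul h2 (lft_mem_RG y), rd_lft], by rw [← mul_assoc, h4, zero_mul]⟩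
  · rintro ⟨A, h2, h3, h4, h5⟩
    have h6 := hE.lam_rd θ h3 h2
    rw [h4, lam_idm_of_mem N.subtype_injective hb hθ] at h6
    have h7 := congrArg (fun z => omega (θ : N → ℂ) (pb N.subtype z)) h5
    simp only [hE.pb_mul (hE.cidm_mem_fix {θ}).1, map_zero] at h7
    rw [cidm, pb_up N.subtype_injective, omega_mul θ.2 (blockIdem_mem_Zc _), omega_blockIdem_of_mem (Set.mem_singleton θ),
      one_mul] at h7
    rw [h7, redC_zero] at h6
    exact one_ne_zero h6
  · exact IsIdempotentElem.mul_of_commute hcomm (blk_eB hB).idem (hE.blk_idm hb).idem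
  · rw [hcomm, ← mul_assoc, (hE.blk_idm hb).idem.eq]
  · intro g hg
    refine ⟨trunc (cos N g) _, H87.trunc_mem_RG _ hXR, hXi.trunc_coset hg, by rw [rd_trunc, hX], ?_⟩
    rw [trunc_coset_eq hg, ← mul_assoc, ← trunc_mul_left (hE.cidm_mem_fix {θ}).1, ← mul_assoc, hθX,
      zero_mul, map_zero, zero_mul]

theorem Covers.exists_over {N : Type*} [Group N] [Fintype N] {E : NEmb N G}
    {B : Set (IrrCharacter G)} (hB : IsPBlock M B) {b : Set (IrrCharacter N)} (hb : IsPBlock M b)
    (h : Covers E.ι B b) {θ : IrrCharacter N} (hθ : θ ∈ b) :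
    ∃ χ ∈ B, Over E.ι (χ : G → ℂ) (θ : N → ℂ) := by
  have := E.normal
  have := Fintype.ofFinite E.ι.range
  set e := MonoidHom.ofInjective E.inj
  have key : ∀ (χ : G → ℂ) (η : IrrCharacter N), Over E.ι.range.subtype χ
      (irrComap e.symm η : E.ι.range → ℂ) ↔ Over E.ι χ (η : N → ℂ) := fun χ η => by
    rw [Over, Over, ← H5.classInner_comp_equiv e]
    simp [irrComap_apply, e, MonoidHom.ofInjective_apply]
  obtain ⟨χ, h1, η, h2, h3⟩ := h
  obtain ⟨ψ, h4, h5⟩ := exists_over_of_covers_subtype E.ι.range hB (IsPBlock.blkComap hb e.symm)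
    ⟨χ, h1, _, irrComap_mem_blkComap.mpr h2, (key _ _).mpr h3⟩ (irrComap_mem_blkComap.mpr hθ)
  exact ⟨ψ, h4, (key _ _).mp h5⟩

end Cfsg.Agent.H34
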