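import Mathlib

/-! Weights of abelian subgroups of order invertible in the field; Jordan's beams. -/

set_option autoImplicit false

namespace Cfsg.Agent.H34

open Module
open scoped Pointwise

variable {G : Type*} [Group G] {F : Type*} [Field F] {U : Type*} [AddCommGroup U] [Module F U]

variable (F) in
/-- abelian subgroup whose elements have order invertible in `F` -/
def AbP (A : Subgroup G) : Prop :=
  (∀ x ∈ A, ∀ y ∈ A, x * y = y * x) ∧ ∀ x ∈ A, ∃ k : ℕ, (k : F) ≠ 0 ∧ x ^ k = 1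

/-- common eigenvector -/
def EigV (σ : Representation F G U) (A : Subgroup G) (u : U) : Prop :=
  u ≠ 0 ∧ ∀ t ∈ A, ∃ c : F, σ t u = c • u

/-- stabiliser of a vector -/
def fixS (σ : Representation F G U) (u : U) : Subgroup G where
  carrier := {g | σ g u = u}
  mul_mem' {a b} ha hb := by
    simp only [Set.mem_ofPred_eq] at *
    rw [map_mul, Module.End.mul_apply, hb, ha]
  one_mem' := by simp
  inv_mem' {a} ha := by
    simp only [Set.mem_ofPred_eq] at *
    conv_lhs => rw [← ha, ← Module.End.mul_apply, ← map_mul, inv_mul_cancel, map_one]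
    rfl

/-- the weights of `A` -/
def Wt (σ : Representation F G U) (A : Subgroup G) : Set (A →* F) :=
  {χ | ∃ w ≠ 0, ∀ t : A, σ t w = χ t • w}

/-- Jordan's `M`-beams -/
def Beam (σ : Representation F G U) (M : ℕ) (A : Subgroup G) : Prop :=
  AbP F A ∧ ∀ w, EigV σ A w → ¬ A ≤ fixS σ w → M ≤ (fixS σ w).relIndex A

variable {σ : Representation F G U} {A T : Subgroup G} {M : ℕ}

theorem mem_fixS {g : G} {u : U} : g ∈ fixS σ u ↔ σ g u = u := Iff.rfl

theorem AbP.mono (h : AbP F T) (hA : A ≤ T) : AbP F A :=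
  ⟨fun x hx y hy => h.1 x (hA hx) y (hA hy), fun x hx => h.2 x (hA hx)⟩

theorem EigV.mono {w : U} (h : EigV σ T w) (hA : A ≤ T) : EigV σ A w :=
  ⟨h.1, fun t ht => h.2 t (hA ht)⟩

theorem rep_comm_apply {x y : G} (h : x * y = y * x) (u : U) : σ x (σ y u) = σ y (σ x u) := by
  rw [← Module.End.mul_apply, ← map_mul, h, map_mul, Module.End.mul_apply]

theorem exists_eigV [IsAlgClosed F] [FiniteDimensional F U] (hA : ∀ x ∈ A, ∀ y ∈ A, x * y = y * x)
    (Y : Submodule F U) (hY : Y ≠ ⊥) (hinv : ∀ t ∈ A, ∀ y ∈ Y, σ t y ∈ Y) :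
    ∃ w ∈ Y, EigV σ A w := by
  induction Y using WellFoundedLT.induction with
  | ind Y ih =>
  by_cases h : ∀ t ∈ A, ∃ c : F, ∀ y ∈ Y, σ t y = c • y
  · obtain ⟨y, hy, h0⟩ := (Submodule.ne_bot_iff _).1 hY
    exact ⟨y, hy, h0, fun t ht => (h t ht).imp fun c hc => hc y hy⟩
  push Not at h
  obtain ⟨t, ht, h⟩ := h
  have := Submodule.nontrivial_iff_ne_bot.2 hY
  obtain ⟨c, hc⟩ := Module.End.exists_eigenvalue ((σ t).restrict (hinv t ht))
  obtain ⟨y, hy⟩ := hc.exists_hasEigenvector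
  obtain ⟨z, hz, hz'⟩ := h c
  obtain ⟨w, hw, h1⟩ := ih (Y ⊓ Module.End.eigenspace (σ t) c)
    (lt_of_le_of_ne inf_le_left fun e => hz' (Module.End.mem_eigenspace_iff.1 (e.ge hz).2))
    ((Submodule.ne_bot_iff _).2 ⟨y, ⟨y.2, Module.End.mem_eigenspace_iff.2
      (congrArg Subtype.val hy.apply_eq_smul)⟩, fun e => hy.2 (Subtype.ext e)⟩)
    fun s hs x hx => ⟨hinv s hs x hx.1, Module.End.mem_eigenspace_iff.2 (by
      rw [rep_comm_apply (hA t ht s hs), Module.End.mem_eigenspace_iff.1 hx.2, map_smul])⟩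
  exact ⟨w, hw.1, h1⟩

theorem fix_of_eigV [IsAlgClosed F] [FiniteDimensional F U] (hA : AbP F A) {S : Set G}
    (hS : S ⊆ A) {s : G} (hs : s ∈ A) (h : ∀ w, EigV σ A w → (∀ x ∈ S, σ x w = w) → σ s w = w)
    {u : U} (hu : ∀ x ∈ S, σ x u = u) : σ s u = u := by
  by_contra hn
  let Y : Submodule F U := ⨅ x ∈ S, LinearMap.eqLocus (σ x) LinearMap.id
  have hY : ∀ y, y ∈ Y ↔ ∀ x ∈ S, σ x y = y := fun y => by simp [Y]
  have hY' : ∀ t ∈ A, ∀ y ∈ Y, σ t y ∈ Y := fun t ht y hy => (hY _).2 fun x hx => by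
    rw [rep_comm_apply (hA.1 x (hS hx) t ht), (hY _).1 hy x hx]
  obtain ⟨_, ⟨y, hy, rfl⟩, h1⟩ := exists_eigV (σ := σ) hA.1 (Y.map (σ s - 1))
    ((Submodule.ne_bot_iff _).2 ⟨_, ⟨u, (hY _).2 hu, rfl⟩, by simpa [sub_eq_zero] using hn⟩) (by
      rintro t ht _ ⟨y, hy, rfl⟩
      exact ⟨_, hY' t ht y hy, by simp [rep_comm_apply (hA.1 s hs t ht)]⟩)
  have h2 := h _ h1 ((hY _).1 (Y.sub_mem (hY' s hs y hy) hy))
  have h3 : ∀ k : ℕ, σ (s ^ k) y = y + (k : F) • (σ s - 1) y := fun k => by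
    induction k with
    | zero => simp
    | succ k ih =>
      rw [pow_succ', map_mul, Module.End.mul_apply, ih, map_add, map_smul, h2, Nat.cast_succ,
        add_smul]
      simp only [LinearMap.sub_apply, Module.End.one_apply, one_smul]
      abel
  obtain ⟨k, hk, h4⟩ := hA.2 s hs
  have h5 := h3 k
  rw [h4, map_one, Module.End.one_apply, left_eq_add, smul_eq_zero] at h5
  exact h5.elim hk h1.1

theorem EigV.exists_wt {w : U} (h : EigV σ A w) : ∃ χ : A →* F, ∀ t : A, σ t w = χ t • w := by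
  choose c hc using h.2
  refine ⟨⟨⟨fun t => c t t.2, smul_left_injective F h.1 ?_⟩, fun a b => smul_left_injective F h.1 ?_⟩,
    fun t => hc t t.2⟩
  · simp [← hc]
  · simp only [← hc, mul_comm (c a a.2), mul_smul]
    rw [← map_smul, ← hc]
    simp

theorem Wt_card [FiniteDimensional F U] (σ : Representation F G U) (A : Subgroup G) :
    Finite (Wt σ A) ∧ Nat.card (Wt σ A) ≤ finrank F U := by
  choose w h0 hw using fun χ : Wt σ A => χ.2
  have hl : LinearIndependent F w := by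
    rw [linearIndependent_iff']
    intro s c hc i hi
    obtain ⟨φ, hφ⟩ := Module.Projective.exists_dual_ne_zero F (h0 i)
    have h1 := linearIndependent_iff'.1 ((linearIndependent_monoidHom A F).comp
      (Subtype.val : Wt σ A → _) Subtype.val_injective) s (fun j => c j * φ (w j)) (by
        ext t
        have := congrArg (fun u => φ (σ t u)) hc
        simpa [hw, mul_comm, mul_left_comm, mul_assoc] using this) i hi
    exact (mul_eq_zero.1 h1).resolve_right hφ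
  have := hl.finite
  have := Fintype.ofFinite (Wt σ A)
  exact ⟨inferInstance, Nat.card_eq_fintype_card.trans_le hl.fintype_card_le_finrank⟩

theorem relIndex_le_of_map {H K : Subgroup G} {X : Type*} [Finite X] (φ : H → X)
    (h : ∀ a b : H, φ a = φ b → (a : G)⁻¹ * b ∈ K) : K.relIndex H ≤ Nat.card X :=
  Nat.card_le_card_of_injective (fun q : H ⧸ K.subgroupOf H => φ q.out) fun q r e => by
    rw [← q.out_eq', ← r.out_eq']
    exact QuotientGroup.eq.2 (h _ _ e)

theorem relIndex_centralizer_normalizer_le [IsAlgClosed F] [FiniteDimensional F U]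
    (hσ : Function.Injective σ) (hA : AbP F A) :
    (Subgroup.centralizer (A : Set G)).relIndex (Subgroup.normalizer (A : Set G)) ≤
      (finrank F U + 1) ^ finrank F U := by
  obtain ⟨_, h1⟩ := Wt_card σ A
  refine (relIndex_le_of_map (X := Wt σ A → Wt σ A) (fun n χ =>
    ⟨χ.1.comp (A.normalizerMonoidHom n).toMonoidHom, ?_⟩) fun a b e => ?_).trans ?_
  · obtain ⟨w, h0, hw⟩ := χ.2
    refine ⟨σ (n : G)⁻¹ w, fun e => h0 (by simpa using congrArg (σ n) e), fun t => ?_⟩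
    rw [← map_smul, MonoidHom.comp_apply, ← hw, ← Module.End.mul_apply, ← Module.End.mul_apply,
      ← map_mul, ← map_mul]
    congr 2
    exact (by group : (t : G) * (n : G)⁻¹ = (n : G)⁻¹ * (n * t * (n : G)⁻¹))
  · intro t ht
    let x := A.normalizerMonoidHom a ⟨t, ht⟩
    let y := A.normalizerMonoidHom b ⟨t, ht⟩
    have h2 : ((x⁻¹ * y : A) : G) = 1 := hσ (LinearMap.ext fun u => by
      rw [map_one]
      refine fix_of_eigV hA (Set.empty_subset _) (x⁻¹ * y).2 (fun w hw _ => ?_) (by simp)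
      obtain ⟨χ, hχ⟩ := hw.exists_wt
      have h3 : χ x = χ y := DFunLike.congr_fun (congrArg Subtype.val (congrFun e ⟨χ, w, hw.1, hχ⟩)) _
      rw [hχ, map_mul, ← h3, ← map_mul, inv_mul_cancel, map_one, one_smul])
    have h3 : (a * t * (a : G)⁻¹)⁻¹ * (b * t * (b : G)⁻¹) = 1 := h2
    calc t * ((a : G)⁻¹ * b) = (a : G)⁻¹ * (a * t * (a : G)⁻¹) * b := by group
      _ = _ := by rw [inv_mul_eq_one.1 h3]; group
  · rw [Nat.card_fun]
    exact (Nat.pow_le_pow_left (by omega) _).trans (Nat.pow_le_pow_right (by omega) h1)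

theorem Beam.mono {M' : ℕ} (h : Beam σ M' A) (hM : M ≤ M') : Beam σ M A :=
  ⟨h.1, fun w h1 h2 => hM.trans (h.2 w h1 h2)⟩

theorem beam_sSup [Finite G] {S : Set (Subgroup G)} (h : ∀ A ∈ S, Beam σ M A)
    (hc : ∀ A ∈ S, ∀ B ∈ S, ∀ x ∈ A, ∀ y ∈ B, x * y = y * x) : Beam σ M (sSup S) := by
  have h1 : ∀ x ∈ sSup S, ∀ y ∈ sSup S, x * y = y * x := fun x hx y hy =>
    (sSup_le (a := Subgroup.centralizer {x}) (fun B hB y hy => Subgroup.mem_centralizer_singleton_iff.2
      (Subgroup.mem_centralizer_singleton_iff.1 (sSup_le (a := Subgroup.centralizer {y})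
        (fun A hA x hx => Subgroup.mem_centralizer_singleton_iff.2 (hc A hA B hB x hx y hy)) hx)).symm)
      hy x rfl)
  refine ⟨⟨h1, fun x hx => ?_⟩, fun w h2 h3 => ?_⟩
  · rw [sSup_eq_iSup'] at hx h1
    induction hx using Subgroup.iSup_induction' with
    | hp i x hx => exact (h _ i.2).1.2 x hx
    | h1 => exact ⟨1, by simp, by simp⟩
    | hmul x y hx hy ihx ihy =>
      obtain ⟨k, k0, hk⟩ := ihx
      obtain ⟨l, l0, hl⟩ := ihy
      exact ⟨k * l, by simp [k0, l0], by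
        rw [Commute.mul_pow (h1 x hx y hy), pow_mul, hk, pow_mul', hl, one_pow, one_pow, one_mul]⟩
  · obtain ⟨B, hB, h4⟩ : ∃ B ∈ S, ¬ B ≤ fixS σ w := by simpa using h3
    exact ((h B hB).2 w (h2.mono (le_sSup hB)) h4).trans
      (Subgroup.relIndex_le_of_le_right (le_sSup hB) Subgroup.index_ne_zero_of_finite)

theorem Beam.conj (h : Beam σ M A) (g : G) : Beam σ M (MulAut.conj g • A) := by
  have hm : ∀ x, x ∈ MulAut.conj g • A ↔ g⁻¹ * x * g ∈ A := fun x => by
    rw [Subgroup.mem_pointwise_smul_iff_inv_smul_mem]; simp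
  refine ⟨⟨fun x hx y hy => ?_, fun x hx => ?_⟩, fun w h1 h2 => ?_⟩
  · have := h.1.1 _ ((hm x).1 hx) _ ((hm y).1 hy)
    simpa [← mul_assoc] using (by simpa [mul_assoc] using this : x * (y * g) = y * (x * g))
  · obtain ⟨k, k0, hk⟩ := h.1.2 _ ((hm x).1 hx)
    exact ⟨k, k0, conj_eq_one_iff.1 ((conj_pow (a := g⁻¹)).symm.trans (by simpa using hk))⟩
  have h3 : fixS σ w = MulAut.conj g • fixS σ (σ g⁻¹ w) := by
    ext x
    rw [Subgroup.mem_pointwise_smul_iff_inv_smul_mem, mem_fixS, mem_fixS]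
    simp only [← map_inv, MulAut.smul_def, MulAut.conj_apply, inv_inv, map_mul, Module.End.mul_apply,
      Representation.self_inv_apply]
    exact (σ.apply_bijective g⁻¹).1.eq_iff.symm
  rw [h3, Subgroup.relIndex_pointwise_smul]
  refine h.2 _ ⟨fun e => h1.1 (by simpa using congrArg (σ g) e), fun t ht => ?_⟩
    fun h4 => h2 (h3 ▸ Subgroup.pointwise_smul_le_pointwise_smul_iff.2 h4)
  obtain ⟨c, hc⟩ := h1.2 (g * t * g⁻¹) ((hm _).2 (by simpa [mul_assoc] using ht))
  refine ⟨c, ?_⟩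
  rw [← map_smul, ← hc]
  simp

theorem exists_beam [Finite G] [FiniteDimensional F U] (hT : AbP F T) (hM : 0 < M) :
    ∃ A ≤ T, Beam σ M A ∧ A.relIndex T ≤ M ^ finrank F U := by
  let Y : Subgroup G → Submodule F U := fun A => ⨅ x ∈ A, LinearMap.eqLocus (σ x) LinearMap.id
  have hY : ∀ A y, y ∈ Y A ↔ A ≤ fixS σ y := fun A y => by simp [Y, SetLike.le_def, mem_fixS]
  suffices h : ∀ k, ∀ T, AbP F T → finrank F U ≤ finrank F (Y T) + k →
      ∃ A ≤ T, Beam σ M A ∧ A.relIndex T ≤ M ^ k from h _ T hT (by omega)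
  intro k
  induction k with
  | zero =>
    intro T hT h
    refine ⟨T, le_rfl, ⟨hT, fun w _ h2 => (h2 ((hY T w).1 ?_)).elim⟩, by simp⟩
    rw [Submodule.eq_top_of_finrank_eq (le_antisymm (Y T).finrank_le h)]
    trivial
  | succ k ih =>
    intro T hT h
    by_cases hb : Beam σ M T
    · exact ⟨T, le_rfl, hb, by simpa using Nat.one_le_pow _ _ hM⟩
    obtain ⟨w, -, h2, h3⟩ : ∃ w, EigV σ T w ∧ ¬ T ≤ fixS σ w ∧ (fixS σ w).relIndex T < M := by
      simpa [Beam, hT] using hb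
    have h4 : Y T < Y (fixS σ w ⊓ T) := lt_of_le_of_ne
      (fun y hy => (hY _ _).2 (inf_le_right.trans ((hY _ _).1 hy)))
      fun e => h2 ((hY _ _).1 (e ▸ (hY _ _).2 inf_le_left))
    obtain ⟨A, a1, a2, a3⟩ := ih (fixS σ w ⊓ T) (hT.mono inf_le_right)
      (by have := Submodule.finrank_lt_finrank_of_lt h4; omega)
    refine ⟨A, a1.trans inf_le_right, a2, ?_⟩
    rw [← Subgroup.relIndex_mul_relIndex _ _ _ a1 inf_le_right, Subgroup.inf_relIndex_right, pow_succ]
    exact Nat.mul_le_mul a3 h3.le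

theorem card_generic [Finite G] [FiniteDimensional F U] (hA : Beam σ M A) (hAT : A ≤ T)
    (hM : 2 * finrank F U ≤ M) (hM0 : 0 < M) :
    Nat.card T ≤ 2 * {t | t ∈ T ∧ ∀ w, EigV σ T w → σ t w = w → A ≤ fixS σ w}.ncard := by
  classical
  obtain ⟨_, h1⟩ := Wt_card σ T
  have := Fintype.ofFinite (Wt σ T)
  have := Fintype.ofFinite G
  choose w h0 hw using fun χ : Wt σ T => χ.2
  have hone : ∀ (c : F) (u : U), u ≠ 0 → (c • u = u ↔ c = 1) := fun c u hu =>
    ⟨fun h => smul_left_injective F hu (h.trans (one_smul F u).symm), fun h => h ▸ one_smul F u⟩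
  set S := {t | t ∈ T ∧ ∀ w, EigV σ T w → σ t w = w → A ≤ fixS σ w}
  let I := Finset.univ.filter fun χ => ¬ A ≤ fixS σ (w χ)
  have h2 : (T : Set G).toFinset ⊆ S.toFinset ∪
      I.biUnion fun χ => ((fixS σ (w χ) ⊓ T : Subgroup G) : Set G).toFinset := fun t ht => by
    rw [Set.mem_toFinset] at ht
    by_cases h : t ∈ S
    · simp [h]
    obtain ⟨u, u1, u2, u3⟩ : ∃ u, EigV σ T u ∧ σ t u = u ∧ ¬ A ≤ fixS σ u := by
      simpa [S, show t ∈ T from ht] using h
    obtain ⟨χ, hχ⟩ := u1.exists_wt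
    have h3 : ∀ x ∈ T, σ x u = u ↔ σ x (w ⟨χ, u, u1.1, hχ⟩) = w ⟨χ, u, u1.1, hχ⟩ := fun x hx => by
      rw [hχ ⟨x, hx⟩, hw _ ⟨x, hx⟩, hone _ _ u1.1, hone _ _ (h0 _)]
    refine Finset.mem_union_right _ (Finset.mem_biUnion.2 ⟨⟨χ, u, u1.1, hχ⟩, Finset.mem_filter.2
      ⟨Finset.mem_univ _, fun h4 => u3 fun x hx => (h3 x (hAT hx)).2 (h4 hx)⟩,
      Set.mem_toFinset.2 ⟨(h3 t ht).1 u2, ht⟩⟩)
  have h3 : ∀ χ ∈ I, M * ((fixS σ (w χ) ⊓ T : Subgroup G) : Set G).toFinset.card ≤ Nat.card T :=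
    fun χ hχ => by
      have h4 := (hA.2 _ ⟨h0 χ, fun t ht => ⟨_, hw χ ⟨t, hAT ht⟩⟩⟩ (Finset.mem_filter.1 hχ).2).trans
        (Subgroup.relIndex_le_of_le_right hAT Subgroup.index_ne_zero_of_finite)
      rw [← Subgroup.inf_relIndex_right] at h4
      rw [← Subgroup.relIndex_bot_left, ← Subgroup.relIndex_mul_relIndex _ _ _ bot_le
        (inf_le_right (a := fixS σ (w χ))), Subgroup.relIndex_bot_left, mul_comm,
        ← Set.ncard_eq_toFinset_card']
      exact Nat.mul_le_mul_left _ h4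
  have h4 := (Finset.card_le_card h2).trans ((Finset.card_union_le _ _).trans
    (Nat.add_le_add_left Finset.card_biUnion_le _))
  have h5 := Finset.sum_le_card_nsmul _ _ _ h3
  have h6 : I.card ≤ finrank F U := (Finset.card_le_univ _).trans (Nat.card_eq_fintype_card.symm.trans_le h1)
  rw [← Finset.mul_sum, smul_eq_mul] at h5
  rw [← Set.ncard_eq_toFinset_card', ← Set.ncard_eq_toFinset_card'] at h4
  change Nat.card T ≤ _ at h4
  have h7 : M * (2 * ∑ χ ∈ I, ((fixS σ (w χ) ⊓ T : Subgroup G) : Set G).toFinset.card) ≤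
      M * Nat.card T := by nlinarith
  have := Nat.le_of_mul_le_mul_left h7 hM0
  omega

end Cfsg.Agent.H34
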