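import Cfsg.Agent.H34.PSolvB
import Cfsg.Agent.H30.Det
import Cfsg.Agent.H6.CliffordCorr
import Cfsg.Agent.H82.Conj

/-!
Extending linear characters with determinants; abelian normal `p`-subgroups over which all
characters have `p'`-degree.
-/

set_option autoImplicit false
set_option linter.unusedSectionVars false

namespace Cfsg.Agent.H34

open Cfsg

variable {G : Type*} [Group G] [Finite G] {p : ℕ}

theorem exists_hom_det {ψ : G → ℂ} (hψ : IsCharacter G ψ) : ∃ μ : G →* ℂˣ, ∀ (z : G) (c : ℂ),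
    ‖c‖ = 1 → ψ z = ψ 1 * c → (μ z : ℂ) = c ^ charDegree ψ := by
  obtain ⟨n, ρ, rfl⟩ := hψ
  refine ⟨H30.detHom ρ, fun z c hc h => ?_⟩
  have hd : charDegree ρ.character = Module.finrank ℂ (Fin n → ℂ) :=
    charDegree_eq_of_cast ρ.char_one
  obtain ⟨ω, hω⟩ := (H5.norm_character_eq_iff ρ z).mp (by rw [h, ρ.char_one]; simp [hc])
  rw [H30.coe_detHom, hω, LinearMap.det_smul, LinearMap.det_id, mul_one, hd]
  rcases Nat.eq_zero_or_pos (Module.finrank ℂ (Fin n → ℂ)) with h0 | h0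
  · rw [h0, pow_zero, pow_zero]
  have : ρ.character z = ω * Module.finrank ℂ (Fin n → ℂ) := by
    rw [Representation.character, hω, map_smul, LinearMap.trace_id, smul_eq_mul]
  rw [h, ρ.char_one, mul_comm] at this
  rw [mul_right_cancel₀ (Nat.cast_ne_zero.mpr h0.ne') this]

/-- A character of `p'`-degree gives a linear character of `p`-power order with the same scalars
on `p`-elements. -/
theorem exists_hom_of_not_dvd_degree (hp : p.Prime) {ψ : G → ℂ} (hψ : IsCharacter G ψ)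
    (hd : ¬ p ∣ charDegree ψ) : ∃ μ : G →* ℂˣ, (∀ g, ¬ p ∣ orderOf g → μ g = 1) ∧
      ∀ (z : G) (c : ℂˣ), (∃ k, orderOf z = p ^ k) → c ^ orderOf z = 1 → ψ z = ψ 1 * c →
        μ z = c := by
  obtain ⟨μ, hμ⟩ := exists_hom_det hψ
  obtain ⟨k, m, hm, hG⟩ := Nat.exists_eq_pow_mul_and_not_dvd (Nat.card_pos (α := G)).ne' p hp.ne_one
  have hc : IsCoprime ((m * charDegree ψ : ℕ) : ℤ) ((p ^ k : ℕ) : ℤ) :=
    Nat.isCoprime_iff_coprime.mpr (Nat.Coprime.pow_right _ ((Nat.Prime.coprime_iff_not_dvd hp).mpr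
      (hp.not_dvd_mul hm hd)).symm)
  obtain ⟨u, v, huv⟩ := hc
  refine ⟨(μ ^ m) ^ u, fun g hg => ?_, fun z c ⟨j, hj⟩ hc h => ?_⟩
  · have : orderOf g ∣ m := ((Nat.Prime.coprime_iff_not_dvd hp).mpr hg).symm.pow_right k
      |>.dvd_of_dvd_mul_left (hG ▸ orderOf_dvd_natCard g)
    simp [← map_pow, orderOf_dvd_iff_pow_eq_one.mp this]
  · have h1 : μ z = c ^ charDegree ψ := Units.ext (by
      rw [hμ z c (H5.norm_eq_one_of_pow_eq_one' (orderOf_pos z).ne' (by rw [← Units.val_pow_eq_pow_val, hc, Units.val_one])) h]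
      simp)
    have h2 : orderOf z ∣ p ^ k := by
      refine Nat.Coprime.dvd_of_dvd_mul_right ?_ (hG ▸ orderOf_dvd_natCard z)
      rw [hj]
      exact ((Nat.Prime.coprime_iff_not_dvd hp).mpr hm).pow_left j
    have h3 : c ^ (p ^ k) = 1 := by
      obtain ⟨i, hi⟩ := h2
      rw [hi, pow_mul, hc, one_pow]
    calc ((μ ^ m) ^ u) z = c ^ (u * ((m * charDegree ψ : ℕ) : ℤ)) * (c ^ (p ^ k)) ^ v := by
          simp [h1, h3, ← pow_mul, mul_comm u, zpow_mul, mul_comm m]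
      _ = c := by
          rw [← zpow_natCast c (p ^ k), ← zpow_mul, ← zpow_add, mul_comm _ v, huv, zpow_one]

variable [hp : Fact p.Prime]

/-- If all irreducible characters over a linear character of a normal `p`-subgroup `A` have
`p'`-degree, the Sylow `p`-subgroups of `G/A` are abelian. -/
theorem commutator_mem_of_over_linear (hs : IsPSolvable p G) (A : Subgroup G) [hA : A.Normal]
    [Fintype A] (hAp : IsPGroup p A) (lam : A →* ℂˣ)
    (h : ∀ χ : IrrCharacter G, classInner (fun a : A => (χ : G → ℂ) a) (fun a => (lam a : ℂ)) ≠ 0 →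
      ¬ p ∣ charDegree (χ : G → ℂ)) {P : Subgroup G} (hP : IsPGroup p P) {a b : G} (ha : a ∈ P)
    (hb : b ∈ P) : (a * b)⁻¹ * (b * a) ∈ A := by
  classical
  have := Fintype.ofFinite G
  have hl := H5.isIrrCharacter_monoidHom lam
  let T := H6.inertia A fun a => (lam a : ℂ)
  have hAT : A ≤ T := H6.le_inertia A (H5.isClassFunction_of_isIrr hl)
  have key : ∀ ψ : IrrCharacter T, classInner (fun a : A => (ψ : T → ℂ) ⟨a, hAT a.2⟩)
      (fun a => (lam a : ℂ)) ≠ 0 → ¬ p ∣ T.index * charDegree (ψ : T → ℂ) := fun ψ hψ => by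
    have h1 := H6.isIrr_indFun_of_over A hl T rfl hAT ψ.2 hψ
    have h2 := (H6.indFun_eq_of_over A hl T rfl hAT ψ.2 hψ h1
      (over_of_indFun_eq (χ := ⟨_, h1⟩) rfl)).2
    rw [← charDegree_indFun T (irr_isCharacter ψ)]
    exact h ⟨_, h1⟩ (h2 ▸ hψ)
  obtain ⟨ψ, hψ⟩ := exists_over (ι := Subgroup.inclusion hAT) (Subgroup.inclusion_injective hAT)
    ⟨_, hl⟩
  have hψ1 := key ψ hψ
  have hψ2 := H6.res_eq_smul_of_le_inertia A hl T hAT le_rfl ψ.2 hψ
  obtain ⟨μ, -, hμ⟩ := exists_hom_of_not_dvd_degree hp.out (irr_isCharacter ψ)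
    fun e => hψ1 (e.mul_left _)
  have hμ' : ∀ a : A, μ ⟨a, hAT a.2⟩ = lam a := fun a => by
    refine hμ _ _ ?_ ?_ ?_
    · obtain ⟨k, hk⟩ := IsPGroup.iff_orderOf.mp hAp a
      exact ⟨k, by rw [Subgroup.orderOf_mk, Subgroup.orderOf_coe, hk]⟩
    · rw [Subgroup.orderOf_mk, Subgroup.orderOf_coe, ← map_pow, pow_orderOf_eq_one, map_one]
    · have e1 := congrFun hψ2 a
      have e2 : (ψ : T → ℂ) 1 = _ := congrFun hψ2 1
      rw [e1, e2]
      simp
  obtain ⟨g, hg⟩ := H82.exists_conj_mem_of_not_dvd_index hP T fun e => hψ1 (e.mul_right _)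
  have h1 := commutator_mem_ker_of_not_dvd (QuotientGroup.mk'_surjective (A.subgroupOf T))
    (H22.IsPSolvable.subgroup hs T) (fun β hβ hd => by
      refine key ⟨_, H30.isIrr_hom_mul μ β.2⟩ ?_ (Dvd.dvd.mul_left ?_ _)
      · have : (fun a : A => (μ ⟨a, hAT a.2⟩ : ℂ) * (β : T → ℂ) ⟨a, hAT a.2⟩) =
            (β : T → ℂ) 1 • fun a => (lam a : ℂ) := by
          funext a
          rw [hμ', hβ _ ((QuotientGroup.eq_one_iff _).mpr a.2), Pi.smul_apply, smul_eq_mul,
            mul_comm]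
        rw [this, H5.classInner_smul_left, H5.classInner_irr_self hl, mul_one]
        exact H5.degree_ne_zero β.2
      · rwa [charDegree_eq_of_cast (n := charDegree (β : T → ℂ)) (by simp [irr_degree_cast])])
    ((hP.map (MulAut.conj g⁻¹).toMonoidHom).comap_subtype (K := T))
    (a := ⟨_, hg a ha⟩) (b := ⟨_, hg b hb⟩) ⟨a, ha, by simp⟩ ⟨b, hb, by simp⟩
  have h2 := hA.conj_mem _ (Subgroup.mem_subgroupOf.mp (QuotientGroup.eq.mp h1)) g
  simpa [mul_assoc] using h2

end Cfsg.Agent.H34
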