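import Cfsg.Agent.H34.EqDeg
import Cfsg.Agent.H34.Reynolds
import Cfsg.Agent.H34.FongP
import Cfsg.Agent.H87.Dict6
import Cfsg.Agent.H1.Frattini
import Cfsg.Agent.S4207

/-!
Blocks with normal defect group whose height zero characters have the same degree are nilpotent.
-/

set_option autoImplicit false
set_option linter.unusedSectionVars false

namespace Cfsg.Agent.H34

open Cfsg Cfsg.Agent.H32 Cfsg.Agent.H87

variable {G N Q : Type*} [Group G] [Group N] [Group Q] {M : Ideal AlgInt} {p : ℕ}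
  [hp : Fact p.Prime] [Finite G] {D : Subgroup G}

theorem mem_Ce_of_map_mem_Ce [D.Normal] (hD : IsPGroup p D) {π : G →* Q} (hπ : π.ker ≤ ⁅D, D⁆)
    {x : G} (hx : π x ∈ Ce (D.map π)) (hr : ¬ p ∣ orderOf x) : x ∈ Ce D := by
  obtain ⟨n, hn⟩ := hD.exists_card_eq
  obtain ⟨r, hr'⟩ := hD.index (frattini D)
  have h1 := S4207.result hn hr' (((Ce (D.map π)).comap π).map MulAut.conjNormal) (by
    rintro _ ⟨g, hg, rfl⟩ y
    refine H1.commutator_le_frattini hD ?_
    have : g * y * g⁻¹ * (y : G)⁻¹ ∈ ⁅D, D⁆ := hπ (by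
      rw [MonoidHom.mem_ker, map_mul, map_mul, map_mul, ← mem_Ce.mp hg _ ⟨y, y.2, rfl⟩]; simp)
    rw [← Subgroup.map_subtype_commutator] at this
    obtain ⟨z, hz, e⟩ := this
    rwa [show MulAut.conjNormal g y * y⁻¹ = z from Subtype.ext e.symm])
  have h2 : MulAut.conjNormal (H := D) x = 1 :=
    eq_one_of_pow_eq_one hr (by rw [← map_pow, pow_orderOf_eq_one, map_one])
      (orderOf_dvd_iff_pow_eq_one.mp ((Subgroup.orderOf_dvd_natCard _
        (Subgroup.mem_map_of_mem _ (Subgroup.mem_comap.mpr hx))).trans h1))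
  exact mem_Ce.mpr fun q hq => (mul_inv_eq_iff_eq_mul.mp
    (congrArg (fun α : MulAut D => (α ⟨q, hq⟩ : G)) h2)).symm

variable [hMm : M.IsMaximal] {B : Set (IrrCharacter G)}

theorem height_infl_eq_zero [D.Normal] (hM : IsPModular p M) (hB : IsPBlock M B)
    (hD : IsDefectGroup p M B D) {π : G →* Q} (hπ : Function.Surjective π) (hk : π.ker = ⁅D, D⁆)
    {b : Set (IrrCharacter Q)} (hb : IsPBlock M b) (h : b ⊆ under hπ B) :
    IsDefectGroup p M b (D.map π) ∧ D.map π ≤ Ce (D.map π) ∧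
      ∀ χ ∈ b, blockHeight p B (infl hπ χ : G → ℂ) = 0 := by
  have := Finite.of_surjective π hπ
  have hn : (D.map π).Normal := Subgroup.Normal.map inferInstance π hπ
  obtain ⟨D₀, hD₀⟩ := exists_defectGroup hM hb
  obtain ⟨P, hP, hle⟩ := exists_defectGroup_map_ge hM hπ hb hB h hD₀
  rw [eq_of_isDefectGroup_of_normal hM hB hD hP inferInstance] at hle
  rw [le_antisymm hle (le_defectGroup_of_normal hM hb hD₀ hn
    ((IsDefectGroup.isPGroup hD).map π))] at hD₀
  have hab : D.map π ≤ Ce (D.map π) := by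
    rw [← Subgroup.commutator_eq_bot_iff_le_centralizer, ← Subgroup.map_commutator,
      Subgroup.map_eq_bot_iff, hk]
  refine ⟨hD₀, hab, fun χ hχ => ?_⟩
  obtain ⟨ζ, hζ⟩ := (heights_of_normal_defect hM hb hn hD₀).1 χ hχ
  have h1 : charDegree (ζ : D.map π → ℂ) = 1 := charDegree_eq_of_cast (by
    rw [H5.degree_eq_one_of_comm (fun a b => Subtype.ext (hab b.2 a a.2)) ζ.2, Nat.cast_one])
  have h2 := factorization_degree_add_defect (p := p) hχ
  have h3 := factorization_degree_add_defect (p := p) (B := B) (h hχ)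
  rw [charDegree_infl, ← factorization_card_defectGroup hM hB hD,
    ← card_map_mul_card_inf_ker π D, ← Subgroup.card_top (G := G),
    ← card_map_mul_card_inf_ker π ⊤, inf_top_eq,
    inf_eq_left.mpr (hk.le.trans (Subgroup.commutator_le_left D D)),
    Subgroup.map_top_of_surjective π hπ, Subgroup.card_top] at h3
  rw [hζ, h1, Nat.factorization_one, ← factorization_card_defectGroup hM hb hD₀] at h2
  rw [Nat.factorization_mul Nat.card_pos.ne' Nat.card_pos.ne',
    Nat.factorization_mul Nat.card_pos.ne' Nat.card_pos.ne'] at h3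
  simp only [Finsupp.add_apply, Finsupp.zero_apply] at h2 h3
  omega

theorem mem_Ce_of_inv [Fintype N] [hDn : D.Normal] (hM : IsPModular p M) (hB : IsPBlock M B)
    (hD : IsDefectGroup p M B D) {E : NEmb N G} (hr : E.ι.range = D ⊔ Ce D)
    {b : Set (IrrCharacter N)} (hb : IsPBlock M b) (hinv : E.Inv b) (hc : Covers E.ι B b) {n : ℕ}
    (hn : ∀ χ ∈ B, blockHeight p B (χ : G → ℂ) = 0 → charDegree (χ : G → ℂ) = n) {x : G}
    (hx : ¬ p ∣ orderOf x) : x ∈ Ce D := by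
  have := Fintype.ofFinite G
  have := E.normal
  have hDp := IsDefectGroup.isPGroup hD
  have hr1 : D ≤ E.ι.range := hr ▸ le_sup_left
  have hr2 : Ce D ≤ E.ι.range := hr ▸ le_sup_right
  have hind := hc.indBlk_of_Ce_le hM hB hb hDn hDp hr2
  have hbD := hind.isDefectGroup_comap hM E.inj hD hr1 (top_le_No_of_normal D |>.trans' le_top)
  have hidx : ¬ p ∣ E.ι.range.index := fun h => by
    have h1 := hc.defect_eq_of_Ce_le hM hb hinv hB hDn hDp hr2
    have h2 := card_comap_mul_relIndex E.inj D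
    rw [Subgroup.relIndex_eq_one.mpr hr1, mul_one] at h2
    rw [← factorization_card_defectGroup hM hB hD, ← factorization_card_defectGroup hM hb hbD,
      h2] at h1
    have := hp.out.factorization_pos_of_dvd Subgroup.index_ne_zero_of_finite h
    omega
  have hdc : ∀ n, ∃ d ∈ D, ∃ c ∈ Ce D, E.ι n = d * c := fun n => by
    have : E.ι n ∈ ((D ⊔ Ce D : Subgroup G) : Set G) := hr ▸ ⟨n, rfl⟩
    rw [Subgroup.normal_mul] at this
    obtain ⟨d, hd, c, hc, e⟩ := this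
    exact ⟨d, hd, c, hc, e.symm⟩
  obtain ⟨θ, hθ, hcan, hθ1, -⟩ := exists_canon hM (D := D.comap E.ι) (top_le_iff.mp fun n _ => by
    obtain ⟨d, hd, c, hc, e⟩ := hdc n
    obtain ⟨d, rfl⟩ := hr1 hd
    obtain ⟨c, rfl⟩ := hr2 hc
    rw [E.inj (e.trans (map_mul _ _ _).symm)]
    exact Subgroup.mul_mem_sup hd (mem_Ce.mpr fun q hq => E.inj (by
      rw [map_mul, map_mul, mem_Ce.mp hc _ hq]))) hb hbD
  have huniq : ∀ η ∈ b, (∀ u ∈ D.comap E.ι, (η : N → ℂ) u = (η : N → ℂ) 1) →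
      η = hcan.irr hM (H33.oneIrr _) := fun η hη h => by
    rw [IsPBlock.eq_blockOf hb hθ, hcan.blockOf_eq hM] at hη
    obtain ⟨ζ, rfl⟩ := hη
    refine congrArg _ (Subtype.ext (H5.eq_one_of_forall_eq_degree ζ.2 fun u => ?_))
    have := h u u.2
    rw [hcan.irr_coe, hcan.irr_one] at this
    exact mul_right_cancel₀ (H5.degree_ne_zero θ.2) this
  have hθinv : ∀ g, E.act g θ = θ := fun g => by
    rw [huniq _ (hinv g θ hθ) fun u hu => ?_, ← huniq θ hθ hθ1]
    rw [E.act_degree, E.act_apply]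
    exact hθ1 _ (by rw [Subgroup.mem_comap, E.ι_cj]; exact hDn.conj_mem _ hu g)
  let π := QuotientGroup.mk' ⁅D, D⁆
  have hπ : Function.Surjective π := QuotientGroup.mk'_surjective _
  have hk : π.ker = ⁅D, D⁆ := QuotientGroup.ker_mk' _
  have hDn' : (D.map π).Normal := hDn.map π hπ
  have := Fintype.ofFinite (G ⧸ ⁅D, D⁆)
  have := Fintype.ofFinite (Ce (D.map π))
  have hab : D.map π ≤ Ce (D.map π) := by
    rw [← Subgroup.commutator_eq_bot_iff_le_centralizer, ← Subgroup.map_commutator,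
      Subgroup.map_eq_bot_iff, hk]
  let ρ : N →* Ce (D.map π) := (π.comp E.ι).codRestrict _ fun n => by
    obtain ⟨d, hd, c, hc, e⟩ := hdc n
    rw [MonoidHom.comp_apply, e, map_mul]
    exact mul_mem (hab ⟨d, hd, rfl⟩) (H22.map_centralizer_le π D ⟨c, hc, rfl⟩)
  have hρ : Function.Surjective ρ := by
    rintro ⟨c, hc⟩
    obtain ⟨g, rfl⟩ := hπ c
    obtain ⟨k, hk'⟩ := pElt_mul_rp_inv hp.out g
    have h1 : g * (rp p g)⁻¹ ∈ E.ι.range := mem_of_pow_mem_of_relIndex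
      (top_le_No_of_normal _) (by rwa [Subgroup.relIndex_top_right]) (Subgroup.mem_top _) (n := k)
      (by rw [← hk', pow_orderOf_eq_one]; exact one_mem _)
    have h2 : rp p g ∈ E.ι.range := hr2 (mem_Ce_of_map_mem_Ce hDp hk.le
      (by rw [rp, map_pow]; exact pow_mem hc _) (rp_regular hp.out g))
    obtain ⟨n, hn⟩ := mul_mem h1 h2
    exact ⟨n, Subtype.ext (congrArg π (hn.trans (inv_mul_cancel_right _ _)))⟩
  obtain ⟨η, hη⟩ := exists_infl_eq hρ (χ := θ) fun n hn => hθ1 n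
    (Subgroup.commutator_le_left D D (hk.le (congrArg Subtype.val hn)))
  let E' := NEmb.ofNormal (Ce (D.map π))
  obtain ⟨φ, hφ⟩ := exists_over E'.inj η
  have hcov : Covers E'.ι (blockOf M (φ : _ → ℂ)) (blockOf M (η : _ → ℂ)) :=
    ⟨φ, mem_blockOf_self φ, η, mem_blockOf_self η, hφ⟩
  have hφB : infl hπ φ ∈ B := by
    have h1 : Covers E.ι (blockOf M (infl hπ φ : G → ℂ)) b :=
      ⟨_, mem_blockOf_self _, θ, hθ, by
        rw [← hη]
        exact (H5.classInner_comp_surjective ρ hρ (fun c => φ.1 c.1) η).trans_ne hφ⟩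
    rw [hind.unique (h1.indBlk_of_Ce_le hM (isPBlock_blockOf _) hb hDn hDp hr2)]
    exact mem_blockOf_self _
  obtain ⟨h1, -, h2⟩ := height_infl_eq_zero hM hB hD hπ hk (isPBlock_blockOf φ)
    (((IsPBlock.closed hB).under hπ).subset (isPBlock_blockOf φ) (mem_blockOf_self φ) hφB)
  have hnil := nilpotent_of_degree_eq hM (isPBlock_blockOf φ) h1 hab (n := n) fun χ hχ => by
    rw [← charDegree_infl hπ]
    exact hn _ (((IsPBlock.closed hB).under hπ).subset (isPBlock_blockOf φ) (mem_blockOf_self φ)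
      hφB hχ) (h2 χ hχ)
  refine mem_Ce_of_map_mem_Ce hDp hk.le (hnil.2 _ _ ((isInducedBlock_Ce_iff hM (hDp.map π)).mp
    (hcov.indBlk_of_Ce_le hM (isPBlock_blockOf φ) (isPBlock_blockOf η) hDn' (hDp.map π)
      (Subgroup.range_subtype _).ge)) _ (top_le_No_of_normal _ (Subgroup.mem_top _))
    ⟨top_le_No_of_normal _ (Subgroup.mem_top _), fun χ hχ => ⟨E'.act (π x⁻¹) χ, ?_,
      fun k k' e => ?_⟩⟩ fun h => hx (h.trans (orderOf_map_dvd π x))) hx
  · have h3 : E'.act (π x⁻¹) η = η := by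
      refine infl_injective hρ (Subtype.ext (funext fun n => ?_))
      rw [hη, ← hθinv x⁻¹, E.act_apply, ← hη, infl_apply, infl_apply, E'.act_apply]
      exact congrArg _ (Subtype.ext (by simp [E', NEmb.ofNormal_cj, ρ, E.ι_cj]))
    rw [← h3, NEmb.act, blockOf_irrComap]
    exact irrComap_mem_blkComap.mpr hχ
  · rw [E'.act_apply]
    exact congrArg _ (Subtype.ext (by simp [E', NEmb.ofNormal_cj, e, mul_assoc]))

theorem nilpotent_of_normal_defect [hDn : D.Normal] (hM : IsPModular p M) (hB : IsPBlock M B)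
    (hD : IsDefectGroup p M B D) {n : ℕ}
    (hn : ∀ χ ∈ B, blockHeight p B (χ : G → ℂ) = 0 → charDegree (χ : G → ℂ) = n) :
    IsNilpotentBlock p M B := by
  refine ⟨hB, fun Q f hf x hx hs hr => ?_⟩
  have := Fintype.ofFinite G
  have := Fintype.ofFinite (Ce D)
  have := Fintype.ofFinite (Ce Q)
  have := Fintype.ofFinite (D ⊔ Ce D : Subgroup G)
  have hDp := IsDefectGroup.isPGroup hD
  have hQD : Q ≤ D := by
    obtain ⟨e, h⟩ := H86.exists_ctx hM hB hD
    obtain ⟨g, hg⟩ := h.bpair_iff.mp (IsBrauerPairOf.bpair hM hf)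
    have := res_charP hM
    exact fun q hq => by simpa [mul_assoc] using hDn.conj_mem _ (hg.le (conj_mem_cjS hq)) g⁻¹
  have hind : IndBlk M (Ce Q).subtype f B := (isInducedBlock_Ce_iff hM hf.1.1).mpr hf
  let EK := NEmb.ofNormal (Ce D)
  let EH := NEmb.ofNormal (D ⊔ Ce D)
  let E₁ := NEmb.incl (Ce_anti hQD) (le_top.trans (top_le_No_of_normal (Ce D)))
  let E₂ := NEmb.incl (le_sup_right : Ce D ≤ D ⊔ Ce D) (le_top.trans (top_le_No_of_normal (Ce D)))
  obtain ⟨ξ, hξ⟩ := IsPBlock.nonempty hind.1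
  obtain ⟨θ, hθ⟩ := exists_under E₁.ι ξ
  have he := isPBlock_blockOf (M := M) θ
  obtain ⟨ξ', hξ', h1⟩ := hs.2 ξ hξ
  obtain ⟨c, hc⟩ := Covers.mem_orb (E := E₁) hM hind.1 (IsPBlock.closed he)
    ⟨ξ, hξ, θ, mem_blockOf_self θ, hθ⟩ hξ' (θ := EK.act x⁻¹ θ) (by
      rw [Over, ← H5.classInner_comp_equiv (EK.cj x)]
      refine (congrArg₂ classInner (funext fun k => ?_) (funext fun k => ?_)).trans_ne hθ
      · exact h1 _ _ (EK.ι_cj x k)
      · rw [EK.act_apply, ← EK.cj_mul, inv_mul_cancel, EK.cj_one])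
  have hy : EK.act (x⁻¹ * c) θ ∈ blockOf M (θ : Ce D → ℂ) := by
    rw [EK.act_mul]
    convert hc using 1
    refine Subtype.ext (funext fun k => ?_)
    rw [EK.act_apply, E₁.act_apply]
    exact congrArg _ (Subtype.ext ((EK.ι_cj c k).trans (incl_cj_coe _ _ c k).symm))
  obtain ⟨χ, hχ⟩ := IsPBlock.nonempty hB
  obtain ⟨θ₁, hθ₁, h2⟩ : χ ∈ overSet EK.ι (blockOf M (θ : Ce D → ℂ)) := by
    refine mem_overSet_of_congr hM he (mem_blockOf_self θ) fun k _ => sub_mem_locMax_comm ?_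
    have h3 := hind.2.2 ξ hξ χ hχ (EK.ι k)
    rw [← om_clInd_comp, hθ.om_eq E₁.inj (isClassFunction_comp (clInd_isClassFunction _) _)
      fun g hg => ?_] at h3
    · rw [← om_clInd_comp]; exact h3
    · exact clInd_of_not_isConj fun h => EK.not_isConj_of_not_mem
        (fun ⟨k', hk'⟩ => hg ⟨k', Subtype.ext hk'⟩) k h.symm
  obtain ⟨ψ, h3, h4⟩ := Over.exists_mid (κ := E₂.ι) (ι := EH.ι) (irr_isClassFunction χ) h2
  have hb := isPBlock_blockOf (M := M) ψ
  have hT := NEmb.stab_stabOf (E := EH) hb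
  have hyT : x⁻¹ * c ∈ EH.stabOf (blockOf M (ψ : _ → ℂ)) := by
    refine hT.stab _ ψ (mem_blockOf_self ψ) ?_
    obtain ⟨k, hk⟩ := hDp.index ((Ce D).subgroupOf D)
    rw [Covers.eq_of_index_pow (E := E₂) hM hb (isPBlock_blockOf (EH.act (x⁻¹ * c) ψ)) he
      ⟨ψ, mem_blockOf_self ψ, θ₁, hθ₁, h4⟩
      ⟨_, mem_blockOf_self _, EK.act (x⁻¹ * c) θ₁, ?_, ?_⟩ (k := k) ?_]
    · exact mem_blockOf_self _
    · rw [IsPBlock.eq_blockOf he hy, NEmb.act, blockOf_irrComap]
      exact irrComap_mem_blkComap.mpr hθ₁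
    · refine ((congrArg₂ classInner (funext fun k => ?_) rfl).trans
        (H5.classInner_comp_equiv (EK.cj (x⁻¹ * c)) (fun k => ψ.1 (E₂.ι k)) θ₁)).trans_ne h4
      rw [EH.act_apply]
      exact congrArg _ (Subtype.ext ((EH.ι_cj _ _).trans (EK.ι_cj _ k).symm))
    · rw [range_incl, ← hk]; exact Subgroup.relIndex_sup_right _ _
  set T := EH.stabOf (blockOf M (ψ : _ → ℂ))
  have := Fintype.ofFinite T
  have hHT : D ⊔ Ce D ≤ T := fun g hg => hT.le ⟨g, hg⟩
  have hDT := le_sup_left.trans hHT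
  obtain ⟨B', hc', hi⟩ := hT.exists_indBlk hM hb hB ⟨χ, hχ, ψ, mem_blockOf_self ψ, h3⟩
  have key : ∀ t : T, ¬ p ∣ orderOf t → t ∈ Ce (D.subgroupOf T) := fun t ht =>
    mem_Ce_of_inv hM hi.1 (hi.isDefectGroup_comap hM T.subtype_injective hD
      (by rwa [Subgroup.range_subtype]) (le_top.trans (top_le_No_of_normal D))) (by
        rw [EH.range_restrict, show EH.ι.range = D ⊔ Ce D from Subgroup.range_subtype _,
          Subgroup.subgroupOf_sup hDT (le_sup_right.trans hHT)]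
        congr 1
        ext t
        exact ⟨fun h q hq => Subtype.ext (h _ hq), fun h q hq =>
          congrArg Subtype.val (h ⟨q, hDT hq⟩ hq)⟩) hb hT.inv_restrict hc' (n := n / T.index)
      (fun α hα h0 => by
        obtain ⟨φ, hφ, e⟩ := hT.exists_mem_indSet hM hb hi.1 hc' hα
        rw [← hn φ (hT.eq_indSet hM hb hc' hi ▸ hφ) (by rw [e, hT.blockHeight_eq hM hb hc' hi, h0]),
          e, charDegree_indFun T (irr_isCharacter α),
          Nat.mul_div_cancel_left _ (Nat.pos_of_ne_zero T.index_ne_zero_of_finite)]) ht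
  have h5 : rp p (x⁻¹ * c) ∈ Ce Q := fun q hq => congrArg Subtype.val
    (key ⟨_, pow_mem hyT _⟩ (by
      rw [← Subgroup.orderOf_coe]; exact rp_regular hp.out _) ⟨q, hDT (hQD hq)⟩ (hQD hq))
  obtain ⟨k, hk⟩ := pElt_mul_rp_inv hp.out (x⁻¹ * c)
  let φ := Subgroup.normalizerMonoidHom Q
  have hφ : ∀ g (hg : g ∈ No Q), φ ⟨g, hg⟩ = 1 ↔ g ∈ Ce Q := fun g hg => by
    rw [← MonoidHom.mem_ker, Subgroup.normalizerMonoidHom_ker, Subgroup.mem_subgroupOf]
  refine (hφ x hx).mp (eq_one_of_pow_eq_one hr (n := k) ?_ ?_)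
  · rw [← map_pow, ← Subgroup.orderOf_mk x hx, pow_orderOf_eq_one, map_one]
  · have h6 : (⟨x, hx⟩⁻¹ * ⟨c, Ce_le_No Q c.2⟩ * ⟨_, Ce_le_No Q h5⟩⁻¹ : No Q) ^ p ^ k = 1 :=
      Subtype.ext (by simp [← hk])
    have h7 := congrArg φ h6
    rwa [map_pow, map_mul, map_mul, map_inv, map_inv, (hφ _ _).mpr c.2, (hφ _ _).mpr h5, _root_.inv_one,
      mul_one, mul_one, map_one, inv_pow, inv_eq_one] at h7

end Cfsg.Agent.H34
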