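import Cfsg.Agent.H34.LinExt
import Cfsg.Agent.H89.Triple
import Cfsg.Agent.H30.DegreeRatio

/-!
Character triple isomorphisms over a normal `p'`-subgroup with a central `p'`-subgroup
(Fong's second reduction).
-/

set_option autoImplicit false
set_option linter.unusedSectionVars false

open scoped ComplexConjugate

namespace Cfsg.Agent.H34

open Cfsg H89

universe u

theorem exists_pcover {G : Type u} [Group G] [Finite G] {p : ℕ} (hp : p.Prime) (N : Subgroup G)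
    [hN : N.Normal] (hNp : ¬ p ∣ Nat.card N) {ϑ : N → ℂ} (hϑ : IsIrrCharacter N ϑ)
    (hinv : ∀ (g : G) (n : N), ϑ ⟨g * n * g⁻¹, hN.conj_mem (n : G) n.2 g⟩ = ϑ n) :
    ∃ (Γ : Type u) (_ : Group Γ) (_ : Finite Γ) (C : H30.Cover N ϑ Γ), ¬ p ∣ Nat.card C.π.ker := by
  have : Fact p.Prime := ⟨hp⟩
  obtain ⟨Γ, _, _, ⟨C⟩⟩ := H30.exists_cover N hϑ hinv
  have hθ1 : C.θ 1 = ϑ 1 := by rw [← C.θ_ν, map_one]
  obtain ⟨μ, hμ1, hμ2⟩ := exists_hom_of_not_dvd_degree hp (H5.isCharacter_of_isIrr C.θ_irr)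
    fun h => hNp (h.trans (H5.degree_dvd_card hϑ
      (hθ1 ▸ (charDegree_cast (H5.isCharacter_of_isIrr C.θ_irr)).symm)))
  let lam' : C.π.ker →* ℂˣ := (μ.comp C.π.ker.subtype)⁻¹ * C.lam
  let K : Subgroup Γ := lam'.ker.map C.π.ker.subtype
  have hK : K ≤ C.π.ker := Subgroup.map_subtype_le _
  have hKn : K.Normal := ⟨fun k hk g => by
    rw [Subgroup.mem_center_iff.mp (C.ker_le (hK hk)) g, mul_inv_cancel_right]; exact hk⟩
  have hmul : ∀ (z : C.π.ker) (γ : Γ), ((μ⁻¹ (z * γ) : ℂˣ) : ℂ) * C.θ (z * γ) =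
      lam' z * ((μ⁻¹ γ : ℂˣ) * C.θ γ) := fun z γ => by
    rw [C.θ_mul]; simp [lam']; ring
  obtain ⟨φ, hφ, hφ'⟩ := H5.exists_isIrr_quotient K (H30.isIrr_hom_mul μ⁻¹ C.θ_irr) (by
    rintro _ ⟨z, hz, rfl⟩
    have := hmul z 1
    rw [MonoidHom.mem_ker.mp hz, mul_one] at this
    simpa using this)
  let π' : Γ ⧸ K →* G := QuotientGroup.lift K C.π hK
  let f : C.π.ker →* π'.ker := ((QuotientGroup.mk' K).comp C.π.ker.subtype).codRestrict _
    fun z => z.2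
  have hf : Function.Surjective f := by
    rintro ⟨y, hy⟩
    obtain ⟨γ, rfl⟩ := QuotientGroup.mk_surjective y
    exact ⟨⟨γ, hy⟩, rfl⟩
  have hfk : ∀ z, f z = 1 ↔ lam' z = 1 := fun z => by
    rw [Subtype.ext_iff]
    refine (QuotientGroup.eq_one_iff (z : Γ)).trans ⟨?_, fun h => ⟨z, h, rfl⟩⟩
    rintro ⟨w, hw, e⟩
    rwa [← Subtype.ext e]
  let lam'' : π'.ker →* ℂˣ := f.liftOfSurjective hf ⟨lam', fun z hz => (hfk z).mp hz⟩
  have hl : ∀ z, lam'' (f z) = lam' z := fun z => MonoidHom.liftOfRightInverse_comp_apply ..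
  have hinj : Function.Injective lam'' := (injective_iff_map_eq_one _).mpr fun y hy => by
    obtain ⟨z, rfl⟩ := hf y
    exact (hfk z).mpr (hl z ▸ hy)
  have hreg : ∀ z : C.π.ker, ¬ p ∣ orderOf (lam' z) := fun z => by
    obtain ⟨x, w, rfl, -, hx, hw⟩ := H33.exists_isPPart hp z
    have h1 : μ x = C.lam x := hμ2 x (C.lam x) (by rwa [Subgroup.orderOf_coe])
      (by rw [Subgroup.orderOf_coe, ← map_pow, pow_orderOf_eq_one, map_one])
      (by simpa [mul_comm] using C.θ_mul x 1)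
    have h2 : lam' x = 1 := by simp [lam', h1]
    rw [map_mul, h2, one_mul]
    exact fun h => hw (h.trans (orderOf_map_dvd lam' w))
  refine ⟨Γ ⧸ K, inferInstance, inferInstance, ⟨π', (QuotientGroup.mk' K).comp C.ν, φ, lam'',
    fun g => ?_, fun y hy => ?_, C.π_ν, fun y n => ?_, hφ, fun n => ?_, hinj, fun y γ => ?_,
    fun y => ?_⟩, fun h => ?_⟩
  · obtain ⟨γ, rfl⟩ := C.π_surj g
    exact ⟨γ, rfl⟩
  · obtain ⟨γ, rfl⟩ := QuotientGroup.mk_surjective y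
    refine Subgroup.mem_center_iff.mpr fun x => ?_
    obtain ⟨δ, rfl⟩ := QuotientGroup.mk_surjective x
    exact congrArg (QuotientGroup.mk' K) (Subgroup.mem_center_iff.mp (C.ker_le hy) δ)
  · obtain ⟨γ, rfl⟩ := QuotientGroup.mk_surjective y
    exact congrArg (QuotientGroup.mk' K) (C.ν_conj γ n)
  · have := congrFun hφ' (C.ν n)
    simp only [MonoidHom.inv_apply] at this
    rw [hμ1 _ fun h => hNp (h.trans ((orderOf_map_dvd C.ν n).trans (orderOf_dvd_natCard n))),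
      C.θ_ν] at this
    simpa using this.symm
  · obtain ⟨z, rfl⟩ := hf y
    obtain ⟨δ, rfl⟩ := QuotientGroup.mk_surjective γ
    rw [hl, ← congrFun hφ' δ, ← hmul]
    exact (congrFun hφ' (z * δ)).symm
  · obtain ⟨z, rfl⟩ := hf y
    obtain ⟨x, w, rfl, -, hx, hw⟩ := H33.exists_isPPart hp z
    have h1 : μ x = C.lam x := hμ2 x (C.lam x) (by rwa [Subgroup.orderOf_coe])
      (by rw [Subgroup.orderOf_coe, ← map_pow, pow_orderOf_eq_one, map_one])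
      (by simpa [mul_comm] using C.θ_mul x 1)
    have h2 : μ w = 1 := hμ1 _ (by rwa [Subgroup.orderOf_coe])
    rw [hl]
    simp [lam', h1, h2, C.lam_pow]
  · obtain ⟨y, hy⟩ := exists_prime_orderOf_dvd_card' p h
    obtain ⟨z, rfl⟩ := hf y
    exact hreg z (by rw [← hl, orderOf_injective lam'' hinj, hy])

variable {G : Type*} [Group G] {N : Subgroup G} [hN : N.Normal] {ϑ : N → ℂ} {Γ : Type*} [Group Γ]
  (C : H30.Cover N ϑ Γ)

/-- The map from `Γ/ν(N)` onto `G/N`. -/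
def trρ : Tri.Q C →* G ⧸ N :=
  QuotientGroup.lift _ ((QuotientGroup.mk' N).comp C.π) (by
    rintro _ ⟨n, rfl⟩
    exact (QuotientGroup.eq_one_iff _).mpr (by rw [C.π_ν]; exact n.2))

theorem trρ_q (γ : Γ) : trρ C (Tri.q C γ) = (C.π γ : G ⧸ N) := rfl

theorem trρ_surj : Function.Surjective (trρ C) := fun y => by
  obtain ⟨g, rfl⟩ := QuotientGroup.mk_surjective y
  obtain ⟨γ, rfl⟩ := C.π_surj g
  exact ⟨_, trρ_q C γ⟩

theorem trρ_ker : (trρ C).ker = C.π.ker.map (Tri.q C) := by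
  ext y
  obtain ⟨γ, rfl⟩ := Tri.q_surj C y
  rw [MonoidHom.mem_ker, trρ_q, QuotientGroup.eq_one_iff, C.mem_comap_iff]
  constructor
  · rintro ⟨z, n, rfl⟩
    exact ⟨z, z.2, by rw [map_mul, Tri.q_ν, mul_one]⟩
  · rintro ⟨z, hz, e⟩
    obtain ⟨n, hn⟩ : z⁻¹ * γ ∈ C.ν.range := by
      rw [← Tri.q_eq_one_iff, map_mul, map_inv, e, inv_mul_cancel]
    exact ⟨⟨z, hz⟩, n, by rw [hn, mul_inv_cancel_left]⟩

theorem trρ_ker_le_center : (trρ C).ker ≤ Subgroup.center _ := by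
  rw [trρ_ker]
  rintro _ ⟨z, hz, rfl⟩
  refine Subgroup.mem_center_iff.mpr fun y => ?_
  obtain ⟨γ, rfl⟩ := Tri.q_surj C y
  rw [← map_mul, ← map_mul, Subgroup.mem_center_iff.mp (C.ker_le hz) γ]

theorem card_trρ_ker_dvd : Nat.card (trρ C).ker ∣ Nat.card C.π.ker := by
  rw [trρ_ker]
  exact Subgroup.card_map_dvd _ _

theorem exists_lift {g : G} {y : Tri.Q C} (h : trρ C y = g) : ∃ γ, C.π γ = g ∧ Tri.q C γ = y := by
  obtain ⟨γ, rfl⟩ := Tri.q_surj C y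
  rw [trρ_q, QuotientGroup.eq] at h
  exact ⟨γ * C.ν ⟨_, h⟩, by rw [map_mul, C.π_ν, mul_inv_cancel_left], by
    rw [map_mul, Tri.q_ν, mul_one]⟩

/-- The correspondence of class functions. -/
def TR (χ : G → ℂ) (β : Tri.Q C → ℂ) : Prop := ∀ γ, χ (C.π γ) = β (Tri.q C γ) * C.θ γ

variable {C}

theorem TR.left_unique {χ χ' : G → ℂ} {β : Tri.Q C → ℂ} (h : TR C χ β) (h' : TR C χ' β) :
    χ = χ' := by
  funext g
  obtain ⟨γ, rfl⟩ := C.π_surj g
  rw [h, h']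

theorem TR.apply_coe {χ : G → ℂ} {β : Tri.Q C → ℂ} (h : TR C χ β) (n : N) :
    χ n = β 1 * ϑ n := by
  rw [← C.π_ν, h, Tri.q_ν, C.θ_ν]

theorem TR.apply_one {χ : G → ℂ} {β : Tri.Q C → ℂ} (h : TR C χ β) : χ 1 = β 1 * ϑ 1 :=
  h.apply_coe 1

variable [Finite Γ]

variable (C) in
theorem exists_θ_ne_zero (hϑ : IsIrrCharacter N ϑ) (y : Tri.Q C) :
    ∃ γ, Tri.q C γ = y ∧ C.θ γ ≠ 0 := by
  have : Finite N := Finite.of_injective _ C.ν_inj
  have := Fintype.ofFinite N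
  obtain ⟨γ, rfl⟩ := Tri.q_surj C y
  by_contra h
  push Not at h
  have := sum_coset_mul_conj_self C.ν C.ν_inj C.normal_range_ν
    (H5.isCharacter_of_isIrr C.θ_irr) (by rwa [funext C.θ_ν]) γ
  rw [Finset.sum_eq_zero fun n _ => by
    rw [h _ (by rw [map_mul, Tri.q_ν, one_mul]), zero_mul], mul_zero] at this
  exact zero_ne_one this

theorem TR.eq_zero (hϑ : IsIrrCharacter N ϑ) {χ : G → ℂ} {β : Tri.Q C → ℂ} (h : TR C χ β)
    {y : Tri.Q C} (hy : ∀ g : G, trρ C y = g → χ g = 0) : β y = 0 := by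
  obtain ⟨γ, rfl, hγ⟩ := exists_θ_ne_zero C hϑ y
  exact (mul_eq_zero.mp ((h γ).symm.trans (hy _ rfl))).resolve_right hγ

theorem TR.right_unique (hϑ : IsIrrCharacter N ϑ) {χ : G → ℂ} {β β' : Tri.Q C → ℂ}
    (h : TR C χ β) (h' : TR C χ β') : β = β' := by
  funext y
  obtain ⟨γ, rfl, hγ⟩ := exists_θ_ne_zero C hϑ y
  exact mul_right_cancel₀ hγ ((h γ).symm.trans (h' γ))

variable (C) in
theorem exists_TR [Fintype N] (hϑ : IsIrrCharacter N ϑ) (χ : IrrCharacter G)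
    (h : classInner (fun n : N => (χ : G → ℂ) n) ϑ ≠ 0) :
    ∃ β : IrrCharacter (Tri.Q C), TR C χ β := by
  obtain ⟨β, hβ, h1, h2⟩ := C.exists_factor hϑ χ.2 h
  obtain ⟨φ, hφ, rfl⟩ := H5.exists_isIrr_quotient C.ν.range hβ (by
    rintro _ ⟨n, rfl⟩
    exact h1 n)
  exact ⟨⟨φ, hφ⟩, h2⟩

/-- `β` lies over the inverse of `C.lam`. -/
def TOver (C : H30.Cover N ϑ Γ) (β : Tri.Q C → ℂ) : Prop :=
  ∀ (z : C.π.ker) (y : Tri.Q C), C.lam z * β (Tri.q C z * y) = β y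

theorem TR.tOver (hϑ : IsIrrCharacter N ϑ) {χ : G → ℂ} {β : Tri.Q C → ℂ} (h : TR C χ β) :
    TOver C β := by
  intro z y
  obtain ⟨γ, rfl, hγ⟩ := exists_θ_ne_zero C hϑ y
  apply mul_right_cancel₀ hγ
  have := h (z * γ)
  rw [map_mul, z.2, one_mul, h, C.θ_mul, map_mul] at this
  rw [this]
  ring

theorem TOver.exists_TR [Finite G] (hϑ : IsIrrCharacter N ϑ) {β : IrrCharacter (Tri.Q C)}
    (h : TOver C β) : ∃ χ : IrrCharacter G, TR C χ β := by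
  have := Fintype.ofFinite Γ
  have h1 := H30.isIrr_mul_of_ker C.ν.range (H5.isCharacter_of_isIrr C.θ_irr) (C.isIrr_res_θ hϑ)
    (H5.isIrrCharacter_comp β.2 _ (Tri.q_surj C)) (by
      rintro _ ⟨n, rfl⟩
      simp only [Tri.q_ν, map_one])
  obtain ⟨χ, hχ, e⟩ := H5.exists_isIrr_comp_eq C.π C.π_surj h1 fun z hz => by
    have e1 := C.θ_mul ⟨z, hz⟩ 1
    have e2 := h ⟨z, hz⟩ 1
    simp only [mul_one] at e1 e2
    simp only [Pi.mul_apply, map_one]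
    rw [e1, ← e2]
    ring
  exact ⟨⟨χ, hχ⟩, fun γ => (congrFun e γ).symm⟩

end Cfsg.Agent.H34
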